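import Groth.Agent.FunFld.K660.Places
import Mathlib.Algebra.Field.Shrink
import Mathlib.Algebra.Algebra.Shrink
import Mathlib.RingTheory.Localization.Integral

/-!
# The valuation ring of a place has a finite integral closure in every finite extension
-/

set_option autoImplicit false

namespace K659.IntCl

open WithZero Polynomial IsDedekindDomain FunFld K660.Ord K660.Places

universe u v w

/-- The N-2 property gives finiteness of integral closures without universe restriction. -/
theorem n2For' (A : Type v) [CommRing A] [IsDomain A] (h : CAlg.IsN2 A) (K₀ : Type v) [Field K₀]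
    [Algebra A K₀] [IsFractionRing A K₀] (L : Type w) [Field L] [Algebra A L] [Algebra K₀ L]
    [IsScalarTower A K₀ L] [FiniteDimensional K₀ L] : Module.Finite A (integralClosure A L) := by
  have hs : Small.{v} L := ⟨_, ⟨(Module.finBasis K₀ L).equivFun.toEquiv⟩⟩
  have h1 : IsScalarTower A K₀ (Shrink.{v} L) := by
    refine IsScalarTower.of_algebraMap_eq fun x => ?_
    apply (Shrink.algEquiv A L).injective
    rw [AlgEquiv.commutes, IsScalarTower.algebraMap_apply A K₀ L]
    exact ((Shrink.algEquiv K₀ L).commutes _).symm
  have h2 : FiniteDimensional K₀ (Shrink.{v} L) :=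
    Module.Finite.equiv (Shrink.linearEquiv K₀ L).symm
  have h3 := Groth.Agent.Ega4B.NagBasic.n2For A h K₀ (Shrink.{v} L)
  exact Module.Finite.equiv ((Shrink.algEquiv A L).mapIntegralClosure).toLinearEquiv

variable {k : Type u} {K : Type v} [Field k] [Field K] [Algebra k K]

open scoped IntermediateField.algebraAdjoinAdjoin in
theorem finite_aux {t : K} (h : IsGen k K t) (P : Place k K) (ht : P.1 t ≤ 1) (K' : Type w)
    [Field K'] [Algebra K K'] [FiniteDimensional K K'] [Algebra P.O K'] [IsScalarTower P.O K K'] :
    Module.Finite P.O (integralClosure P.O K') := by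
  have hF : Fact (IsGen k K t) := ⟨h⟩
  have hB : ∀ b : integralClosure (Algebra.adjoin k {t}) K,
      algebraMap (integralClosure (Algebra.adjoin k {t}) K) K b ∈ P.O := by
    intro b
    exact val_le_one_of_isIntegral P (fun r => val_adjoin_le P ht r) b.2
  have hloc : ∀ x : K, P.1 x ≤ 1 → ∃ (n d : integralClosure (Algebra.adjoin k {t}) K),
      P.1 (d : K) = 1 ∧ x * d = n := by
    intro x hx
    obtain ⟨p, rfl⟩ := exists_ofPrime_eq (t := t) P ht
    let := instDed (k := k) (K := K) (t := t)
    let := instFrac (k := k) (K := K) (t := t)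
    obtain ⟨n, d, hnd⟩ := p.exists_primeCompl_mul_eq_of_integer x hx
    refine ⟨n, d, ?_, hnd⟩
    have := (p.intValuation_eq_one_iff_mem_primeCompl d).2 d.2
    rw [← p.valuation_of_algebraMap (K := K)] at this
    exact this
  -- algebra structures
  let a1 : Algebra (integralClosure (Algebra.adjoin k {t}) K) P.O :=
    ((algebraMap (integralClosure (Algebra.adjoin k {t}) K) K).codRestrict P.O.toSubring hB).toAlgebra
  have s1 : IsScalarTower (integralClosure (Algebra.adjoin k {t}) K) P.O K :=
    IsScalarTower.of_algebraMap_eq fun _ => rfl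
  let M : Submonoid (integralClosure (Algebra.adjoin k {t}) K) :=
    { carrier := {d | P.1 (d : K) = 1}
      mul_mem' := by
        intro a b ha hb
        change P.1 ((a : K) * (b : K)) = 1
        rw [map_mul]
        change P.1 (a : K) = 1 at ha
        change P.1 (b : K) = 1 at hb
        rw [ha, hb, one_mul]
      one_mem' := by
        change P.1 (1 : K) = 1
        exact map_one _ }
  have l1 : IsLocalization M P.O := by
    refine ⟨⟨?_, ?_, ?_⟩⟩
    · rintro ⟨d, hd⟩
      change P.1 (d : K) = 1 at hd
      rw [isUnit_iff_exists_inv]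
      refine ⟨⟨(d : K)⁻¹, ?_⟩, ?_⟩
      · change P.1 (d : K)⁻¹ ≤ 1
        rw [map_inv₀, hd, inv_one]
      · apply Subtype.ext
        have hd0 : (d : K) ≠ 0 := by
          intro h0
          rw [h0, map_zero] at hd
          exact zero_ne_one hd
        exact mul_inv_cancel₀ hd0
    · rintro ⟨x, hx⟩
      obtain ⟨n, d, hd, hnd⟩ := hloc x hx
      exact ⟨⟨n, ⟨d, hd⟩⟩, Subtype.ext hnd⟩
    · intro x y hxy
      refine ⟨1, ?_⟩
      have : (x : K) = y := congrArg (fun z : P.O => (z : K)) hxy
      rw [Subtype.ext this]
  have s2 : IsScalarTower (integralClosure (Algebra.adjoin k {t}) K) K K' := inferInstance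
  have s3 : IsScalarTower (integralClosure (Algebra.adjoin k {t}) K) P.O K' := by
    refine IsScalarTower.of_algebraMap_eq fun x => ?_
    rw [IsScalarTower.algebraMap_apply P.O K K', ← IsScalarTower.algebraMap_apply _ P.O K]
    rfl
  have s4 : IsScalarTower (Algebra.adjoin k {t}) K K' := inferInstance
  have s5 : IsScalarTower (Algebra.adjoin k {t}) (integralClosure (Algebra.adjoin k {t}) K) K' :=
    IsScalarTower.of_algebraMap_eq' rfl
  have s6 : IsScalarTower (IntermediateField.adjoin k {t}) K K' := inferInstance
  have s7 : IsScalarTower (Algebra.adjoin k {t}) (IntermediateField.adjoin k {t}) K' :=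
    IsScalarTower.of_algebraMap_eq' rfl
  have := h.fin
  have f1 : FiniteDimensional (IntermediateField.adjoin k {t}) K' := Module.Finite.trans K K'
  have h1 : Module.Finite (Algebra.adjoin k {t}) (integralClosure (Algebra.adjoin k {t}) K') :=
    n2For' (Algebra.adjoin k {t}) (K660.Ded.isN2_adjoin h.tr) (IntermediateField.adjoin k {t}) K'
  have h2 : (Subalgebra.toSubmodule (integralClosure (Algebra.adjoin k {t}) K')).FG :=
    Module.Finite.iff_fg.1 h1
  obtain ⟨S, hS⟩ := h2
  have hval : ∀ a : Algebra.adjoin k {t}, algebraMap (Algebra.adjoin k {t}) K a ∈ P.O :=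
    fun a => val_adjoin_le P ht a
  let a5 : Algebra (Algebra.adjoin k {t}) P.O :=
    ((algebraMap (Algebra.adjoin k {t}) K).codRestrict P.O.toSubring hval).toAlgebra
  have s8 : IsScalarTower (Algebra.adjoin k {t}) P.O K' := by
    refine IsScalarTower.of_algebraMap_eq fun x => ?_
    rw [IsScalarTower.algebraMap_apply P.O K K']
    rfl
  have h3 : Subalgebra.toSubmodule (integralClosure P.O K') = Submodule.span P.O (S : Set K') := by
    apply le_antisymm
    · intro y hy
      have hy' : IsIntegral P.O y := hy
      obtain ⟨⟨m, hm⟩, hmy⟩ := hy'.exists_multiple_integral_of_isLocalization M y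
      have h4 : IsIntegral (Algebra.adjoin k {t}) ((⟨m, hm⟩ : M) • y) :=
        isIntegral_trans (A := integralClosure (Algebra.adjoin k {t}) K) _ hmy
      have h5 : ((⟨m, hm⟩ : M) • y) ∈ Submodule.span (Algebra.adjoin k {t}) (S : Set K') := by
        rw [hS]
        exact h4
      have h6 : ((⟨m, hm⟩ : M) • y) ∈ Submodule.span P.O (S : Set K') :=
        Submodule.span_subset_span (Algebra.adjoin k {t}) P.O _ h5
      obtain ⟨u, hu⟩ := (IsLocalization.map_units P.O (⟨m, hm⟩ : M)).exists_left_inv
      have h7 : y = u • ((⟨m, hm⟩ : M) • y) := by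
        have : ((⟨m, hm⟩ : M) • y) =
            algebraMap (integralClosure (Algebra.adjoin k {t}) K) P.O m • y := by
          rw [algebraMap_smul]
          rfl
        rw [this, smul_smul]
        change u * algebraMap (integralClosure (Algebra.adjoin k {t}) K) P.O m = 1 at hu
        rw [hu, one_smul]
      rw [h7]
      exact Submodule.smul_mem _ _ h6
    · rw [Submodule.span_le]
      intro s hs
      have h4 : s ∈ Submodule.span (Algebra.adjoin k {t}) (S : Set K') := Submodule.subset_span hs
      rw [hS] at h4
      have h5 : IsIntegral (Algebra.adjoin k {t}) s := h4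
      exact h5.tower_top (A := P.O)
  have h4 : (Subalgebra.toSubmodule (integralClosure P.O K')).FG := ⟨S, h3.symm⟩
  exact Module.Finite.iff_fg.2 h4

theorem finite_integralClosure {t : K} (h : IsGen k K t) (P : Place k K) (K' : Type w)
    [Field K'] [Algebra K K'] [FiniteDimensional K K'] [Algebra P.O K'] [IsScalarTower P.O K K'] :
    Module.Finite P.O (integralClosure P.O K') := by
  rcases le_or_inv_le P t with ht | ht
  · exact finite_aux h P ht K'
  · exact finite_aux h.inv P ht K'

end K659.IntCl
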