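import Groth.Agent.FunFld.K660.Places
import Mathlib.RingTheory.Localization.Module

/-!
# Residue fields of places of a function field of one variable are finite over the constants
-/

set_option autoImplicit false

namespace K659.ResFin

open WithZero Polynomial FunFld K660.Ord K660.Places

universe u v

variable {k : Type u} {K : Type v} [Field k] [Field K] [Algebra k K]

theorem residue_algebraMap (P : Place k K) (c : k) :
    IsLocalRing.residue P.O (algebraMap k P.O c) = algebraMap k (IsLocalRing.ResidueField P.O) c :=
  rfl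

theorem residue_eq_zero_iff (P : Place k K) (x : P.O) :
    IsLocalRing.residue P.O x = 0 ↔ P.1 (x : K) < 1 := by
  rw [IsLocalRing.residue_eq_zero_iff]
  exact Valuation.mem_maximalIdeal_iff (v := P.1) (a := x)

/-- An element of valuation `< 1`, not `0`, is transcendental over the constants. -/
theorem transcendental_of_lt {P : Place k K} {π : K} (hπ0 : π ≠ 0) (hπ : P.1 π < 1) :
    Transcendental k π := by
  intro h
  have h1 : P.1 π⁻¹ ≤ 1 := val_le_one_of_isIntegral P P.2.1 h.inv.isIntegral
  rw [val_le_one_iff P (inv_ne_zero hπ0), ord_inv] at h1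
  rw [val_lt_one_iff P hπ0] at hπ
  omega

theorem val_coeff_lt {P : Place k K} {π : K} (hπ : P.1 π < 1) (p : k[X]) :
    P.1 (aeval π p - algebraMap k K (p.coeff 0)) < 1 := by
  have h1 : aeval π p - algebraMap k K (p.coeff 0) = aeval π p.divX * π := by
    conv_lhs => rw [← p.divX_mul_X_add]
    simp
  rw [h1, map_mul]
  exact (mul_le_mul' (val_aeval_le P hπ.le _) le_rfl).trans_lt (by rwa [one_mul])

/-- Lifts of linearly independent residues are linearly independent over `k[π]`. -/
theorem key {P : Place k K} {π : K} (hπ0 : π ≠ 0) (hπ : P.1 π < 1) {ι : Type*} (b : ι → P.O)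
    (hb : LinearIndependent k (fun i => IsLocalRing.residue P.O (b i))) (s : Finset ι) (n : ℕ) :
    ∀ p : ι → k[X], (∀ i ∈ s, (p i).degree < n) → ∑ i ∈ s, aeval π (p i) * (b i : K) = 0 →
      ∀ i ∈ s, p i = 0 := by
  induction n with
  | zero =>
    intro p hp _ i hi
    simpa using hp i hi
  | succ n ih =>
    intro p hp hsum
    have h0 : ∀ i ∈ s, (p i).coeff 0 = 0 := by
      rw [linearIndependent_iff'] at hb
      refine hb s (fun i => (p i).coeff 0) ?_
      have h1 : ∀ i, (p i).coeff 0 • IsLocalRing.residue P.O (b i) =
          IsLocalRing.residue P.O (algebraMap k P.O ((p i).coeff 0) * b i) := by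
        intro i
        rw [Algebra.smul_def, map_mul]
        rfl
      refine (Finset.sum_congr rfl fun i _ => h1 i).trans ?_
      rw [← map_sum, residue_eq_zero_iff]
      have h2 : ((∑ i ∈ s, algebraMap k P.O ((p i).coeff 0) * b i : P.O) : K) =
          - ∑ i ∈ s, (aeval π (p i) - algebraMap k K ((p i).coeff 0)) * (b i : K) := by
        rw [← neg_eq_iff_eq_neg, ← zero_sub, ← hsum]
        push_cast
        rw [← Finset.sum_sub_distrib]
        refine Finset.sum_congr rfl fun i _ => ?_
        rw [sub_mul]
        rfl
      rw [h2, Valuation.map_neg]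
      refine Valuation.map_sum_lt _ one_ne_zero fun i _ => ?_
      rw [map_mul]
      exact (mul_le_mul' le_rfl (b i).2).trans_lt (by rw [mul_one]; exact val_coeff_lt hπ _)
    have h1 : ∀ i ∈ s, p i = (p i).divX * X := by
      intro i hi
      conv_lhs => rw [← (p i).divX_mul_X_add]
      rw [h0 i hi, map_zero, add_zero]
    have h2 : ∑ i ∈ s, aeval π ((p i).divX) * (b i : K) = 0 := by
      have h3 : π * ∑ i ∈ s, aeval π ((p i).divX) * (b i : K) = 0 := by
        rw [← hsum, Finset.mul_sum]
        refine Finset.sum_congr rfl fun i hi => ?_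
        conv_rhs => rw [h1 i hi]
        rw [map_mul, aeval_X]
        ring
      exact (mul_eq_zero.1 h3).resolve_left hπ0
    intro i hi
    rw [h1 i hi, ih (fun i => (p i).divX) ?_ h2 i hi, zero_mul]
    intro j hj
    have h4 := hp j hj
    by_cases h5 : p j = 0
    · rw [h5, divX_zero, degree_zero]
      exact WithBot.bot_lt_coe n
    by_cases h6 : (p j).divX = 0
    · rw [h6, degree_zero]
      exact WithBot.bot_lt_coe n
    rw [Polynomial.degree_eq_natDegree h6]
    rw [Polynomial.degree_eq_natDegree h5] at h4
    have h7 : (p j).natDegree < n + 1 := by exact_mod_cast h4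
    have h8 : (p j).divX.natDegree = (p j).natDegree - 1 := natDegree_divX_eq_natDegree_tsub_one
    have h9 : (p j).natDegree ≠ 0 := by
      intro h10
      rw [Polynomial.eq_C_of_natDegree_eq_zero h10] at h5
      rw [h0 j hj, map_zero] at h5
      exact h5 rfl
    have : (p j).divX.natDegree < n := by omega
    exact_mod_cast this

open scoped IntermediateField.algebraAdjoinAdjoin in
theorem linearIndependent_lift {P : Place k K} {π : K} (hπ0 : π ≠ 0) (hπ : P.1 π < 1) {ι : Type*}
    (b : ι → P.O) (hb : LinearIndependent k (fun i => IsLocalRing.residue P.O (b i))) :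
    LinearIndependent (IntermediateField.adjoin k {π}) (fun i => (b i : K)) := by
  rw [← LinearIndependent.iff_fractionRing (Algebra.adjoin k {π}), linearIndependent_iff']
  intro s g hg i hi
  have h1 : ∀ i, ∃ p : k[X], aeval π p = (g i : K) := by
    intro i
    have h2 : ∀ x ∈ Algebra.adjoin k {π}, ∃ p : k[X], aeval π p = x := by
      intro x hx
      rw [Algebra.adjoin_singleton_eq_range_aeval] at hx
      exact hx
    exact h2 _ (g i).2
  choose p hp using h1
  obtain ⟨n, hn⟩ : ∃ n : ℕ, ∀ i ∈ s, (p i).degree < n := by
    refine ⟨s.sup (fun i => (p i).natDegree) + 1, fun i hi => ?_⟩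
    refine lt_of_le_of_lt degree_le_natDegree ?_
    have := Finset.le_sup (f := fun i => (p i).natDegree) hi
    exact_mod_cast Nat.lt_succ_of_le this
  have h2 := key hπ0 hπ b hb s n p hn (by
    rw [← hg]
    refine Finset.sum_congr rfl fun i _ => ?_
    rw [hp i]
    rfl) i hi
  apply Subtype.ext
  rw [← hp i, h2, map_zero]
  rfl

theorem finite_residueField (P : Place k K) {π : K} (hπ0 : π ≠ 0) (hπ : P.1 π < 1)
    [FiniteDimensional (IntermediateField.adjoin k {π}) K] :
    Module.Finite k (IsLocalRing.ResidueField P.O) ∧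
      P.deg ≤ Module.finrank (IntermediateField.adjoin k {π}) K := by
  have h1 : Module.rank k (IsLocalRing.ResidueField P.O) ≤
      (Module.finrank (IntermediateField.adjoin k {π}) K : ℕ) := by
    refine rank_le fun s hs => ?_
    have h2 : ∀ y : IsLocalRing.ResidueField P.O, ∃ x : P.O, IsLocalRing.residue P.O x = y :=
      IsLocalRing.residue_surjective
    choose f hf using h2
    have h3 := linearIndependent_lift hπ0 hπ (fun i : s => f (i : IsLocalRing.ResidueField P.O)) (by
      simpa [hf] using hs)
    simpa using h3.fintype_card_le_finrank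
  have h4 : Module.Finite k (IsLocalRing.ResidueField P.O) := by
    rw [← Module.rank_lt_aleph0_iff]
    exact h1.trans_lt (Cardinal.natCast_lt_aleph0)
  refine ⟨h4, ?_⟩
  rw [← Module.finrank_eq_rank] at h1
  exact_mod_cast h1

theorem IsGen.finite_residueField {t : K} (h : IsGen k K t) (P : Place k K) :
    Module.Finite k (IsLocalRing.ResidueField P.O) := by
  obtain ⟨π, hπ⟩ := exists_unif P
  have hπ0 := ne_zero_of_val P hπ
  have hπ1 : P.1 π < 1 := by rw [hπ, ← exp_zero]; exact exp_lt_exp.2 (by norm_num)
  have := (h.of_transcendental (transcendental_of_lt hπ0 hπ1)).fin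
  exact (K659.ResFin.finite_residueField P hπ0 hπ1).1

end K659.ResFin
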