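import Groth.Agent.FunFld.K660.Weil

/-!
# Dimensions of quotients of repartition spaces
-/

set_option autoImplicit false

namespace K659.Trans

open WithZero FunFld K660.Places K660.CrvFin K660.Compare
open Groth.Agent.Models.FFRR Groth.Agent.Models.FFLen

universe u v

section Len

variable {k : Type*} {V : Type*} [Field k] [AddCommGroup V] [Module k V]

theorem finite_of_rlen {S T : Submodule k V} (h : rlen S T ≠ ⊤) :
    FiniteDimensional k (T ⧸ Submodule.comap T.subtype S) := by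
  unfold rlen at h
  rw [Module.length_ne_top_iff] at h
  have := ((isFiniteLength_iff_isNoetherian_isArtinian).mp h).1
  exact Module.IsNoetherian.finite k (T ⧸ S.submoduleOf T)

theorem finrank_eq_rlen {S T : Submodule k V} (h : rlen S T ≠ ⊤) :
    Module.finrank k (T ⧸ Submodule.comap T.subtype S) = (rlen S T).toNat := by
  have h1 := finite_of_rlen h
  have h2 : Module.Finite k (T ⧸ S.submoduleOf T) := h1
  unfold rlen
  rw [Module.length_eq_finrank]
  rfl

end Len

variable {k : Type u} {K : Type v} [Field k] [Field K] [Algebra k K]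

theorem AD_mono {D₁ D₂ : Divisor k K} (h : D₁ ≤ D₂) : AD D₁ ≤ AD D₂ := fun _ ha P =>
  (ha P).trans (exp_le_exp.2 (h P))

theorem finrank_AD (hK : IsFunctionField k K) {D₁ D₂ : Divisor k K} (h : D₁ ≤ D₂) :
    FiniteDimensional k (↥(AD D₂) ⧸ Submodule.comap (AD D₂).subtype (AD D₁)) ∧
    (Module.finrank k (↥(AD D₂) ⧸ Submodule.comap (AD D₂).subtype (AD D₁)) : ℤ) =
      D₂.deg - D₁.deg := by
  have h1 := (crv hK).rlen_AA (crv_finRes hK) h
  refine ⟨finite_of_rlen h1.2, ?_⟩
  rw [finrank_eq_rlen (S := AD D₁) (T := AD D₂) h1.2, deg_eq hK, deg_eq hK]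
  exact h1.1

theorem ell_sub_ell_le (hK : IsFunctionField k K) {D₁ D₂ : Divisor k K} (h : D₁ ≤ D₂) :
    (ell D₂ : ℤ) - ell D₁ ≤ D₂.deg - D₁.deg := by
  have h1 := ell_eq_deg hK D₁
  have h2 := ell_eq_deg hK D₂
  have h3 : ispec hK D₂ ≤ ispec hK D₁ := (crv_fin hK).i_anti h
  omega

theorem finrank_AD_sup (hK : IsFunctionField k K) {D₁ D₂ : Divisor k K} (h : D₁ ≤ D₂) :
    FiniteDimensional k (↥(AD D₂ ⊔ LinearMap.range (diag k K)) ⧸
        Submodule.comap (AD D₂ ⊔ LinearMap.range (diag k K)).subtype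
          (AD D₁ ⊔ LinearMap.range (diag k K))) ∧
    (Module.finrank k (↥(AD D₂ ⊔ LinearMap.range (diag k K)) ⧸
        Submodule.comap (AD D₂ ⊔ LinearMap.range (diag k K)).subtype
          (AD D₁ ⊔ LinearMap.range (diag k K))) : ℤ) =
      (D₂.deg + 1 - ell D₂) - (D₁.deg + 1 - ell D₁) := by
  have e3 : (crv hK).h1 D₁ = rlen (AD D₁ ⊔ LinearMap.range (diag k K))
      (AD D₂ ⊔ LinearMap.range (diag k K)) + (crv hK).h1 D₂ := by
    unfold Crv.h1
    exact rlen_add (sup_le_sup_right ((crv hK).AA_mono h) _)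
      (sup_le ((crv hK).AA_le_Rk D₂) (crv hK).KK_le_Rk)
  have t1 := (crv_fin hK).h1_ne_top D₁
  have t2 := (crv_fin hK).h1_ne_top D₂
  have t3 : rlen (AD D₁ ⊔ LinearMap.range (diag k K)) (AD D₂ ⊔ LinearMap.range (diag k K)) ≠ ⊤ := by
    intro h'
    rw [h', top_add] at e3
    exact t1 e3
  refine ⟨finite_of_rlen t3, ?_⟩
  rw [finrank_eq_rlen t3]
  have e4 := congrArg ENat.toNat e3
  rw [ENat.toNat_add t3 t2] at e4
  have h1 := ell_eq_deg hK D₁
  have h2 := ell_eq_deg hK D₂
  have i1 : ispec hK D₁ = ((crv hK).h1 D₁).toNat := rfl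
  have i2 : ispec hK D₂ = ((crv hK).h1 D₂).toNat := rfl
  omega

theorem finrank_adele_quot (hK : IsFunctionField k K) (D : Divisor k K) :
    FiniteDimensional k (↥(adele k K) ⧸ ADK D) ∧
    (Module.finrank k (↥(adele k K) ⧸ ADK D) : ℤ) =
      (genus k K : ℤ) - (D.deg + 1 - ell D) := by
  have t1 := (crv_fin hK).h1_ne_top D
  have key : rlen (AD D ⊔ LinearMap.range (diag k K)) (adele k K) = (crv hK).h1 D := by
    rw [adele_eq hK]
    rfl
  have t2 : rlen (AD D ⊔ LinearMap.range (diag k K)) (adele k K) ≠ ⊤ := by rwa [key]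
  refine ⟨finite_of_rlen t2, ?_⟩
  have e1 : Module.finrank k (↥(adele k K) ⧸ ADK D) =
      (rlen (AD D ⊔ LinearMap.range (diag k K)) (adele k K)).toNat := finrank_eq_rlen t2
  rw [e1, key]
  have h1 := ell_eq_genus hK D
  have i1 : ispec hK D = ((crv hK).h1 D).toNat := rfl
  omega

end K659.Trans
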