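import Groth.Agent.FunFld.K659.ResFin
import Groth.Agent.FunFld.K660.Compare

/-!
# The degree of the zero divisor of `x` is `[K : k(x)]`
-/

set_option autoImplicit false

namespace K659.DegZeros

open WithZero Polynomial FunFld K660.Ord K660.Places K660.CrvFin K660.Compare

universe u v

variable {k : Type u} {K : Type v} [Field k] [Field K] [Algebra k K]

/-- The divisor of zeros. -/
noncomputable def zdiv (k : Type u) {K : Type v} [Field k] [Field K] [Algebra k K] (x : K) :
    Divisor k K := div k x ⊔ 0

theorem zdiv_nonneg (x : K) : 0 ≤ zdiv k x := le_sup_right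

theorem zdiv_apply (hK : IsFunctionField k K) (x : K) (P : Place k K) :
    zdiv k x P = max (P.ord x) 0 := by
  unfold zdiv
  rw [Finsupp.sup_apply, div_apply hK]
  rfl

theorem deg_zdiv (hK : IsFunctionField k K) (x : K) :
    (zdiv k x).deg = ∑ P ∈ (div k x).support with 0 < div k x P, div k x P * (P.deg : ℤ) := by
  classical
  have h1 : (zdiv k x).support = (div k x).support.filter (fun P => 0 < div k x P) := by
    ext P
    simp only [Finsupp.mem_support_iff, Finset.mem_filter, zdiv_apply hK, div_apply hK]
    constructor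
    · intro h
      rcases le_or_gt (P.ord x) 0 with h0 | h0
      · exact absurd (max_eq_right h0) h
      · exact ⟨h0.ne', h0⟩
    · rintro ⟨-, h⟩
      rw [max_eq_left h.le]
      exact h.ne'
  unfold Divisor.deg Finsupp.sum
  rw [h1]
  refine Finset.sum_congr rfl fun P hP => ?_
  rw [Finset.mem_filter, div_apply hK] at hP
  rw [zdiv_apply hK, div_apply hK, max_eq_left hP.2.le]

/-- Independence modulo `L(D - Z)` implies independence over `k[x]`. -/
theorem key (hK : IsFunctionField k K) {x : K} (hx0 : x ≠ 0) (D : Divisor k K) {ι : Type*}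
    (f : ι → K) (hf : ∀ i, f i ∈ L D) (s : Finset ι)
    (hind : ∀ c : ι → k, ∑ i ∈ s, c i • f i ∈ L (D - zdiv k x) → ∀ i ∈ s, c i = 0) (n : ℕ) :
    ∀ p : ι → k[X], (∀ i ∈ s, (p i).degree < n) → ∑ i ∈ s, aeval x (p i) * f i = 0 →
      ∀ i ∈ s, p i = 0 := by
  induction n with
  | zero =>
    intro p hp _ i hi
    simpa using hp i hi
  | succ n ih =>
    intro p hp hsum
    have hdec : ∀ i, aeval x (p i) = aeval x (p i).divX * x + algebraMap k K ((p i).coeff 0) := by
      intro i
      conv_lhs => rw [← (p i).divX_mul_X_add]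
      simp
    have hs2 : ∑ i ∈ s, (p i).coeff 0 • f i = -(x * ∑ i ∈ s, aeval x (p i).divX * f i) := by
      rw [eq_neg_iff_add_eq_zero, ← hsum, Finset.mul_sum, ← Finset.sum_add_distrib]
      refine Finset.sum_congr rfl fun i _ => ?_
      rw [hdec i, Algebra.smul_def]
      ring
    have h0 : ∀ i ∈ s, (p i).coeff 0 = 0 := by
      apply hind (fun i => (p i).coeff 0)
      intro P
      rw [Finsupp.sub_apply, zdiv_apply hK]
      rcases le_or_gt (P.ord x) 0 with h0 | h0
      · rw [max_eq_right h0, sub_zero]
        have : ∑ i ∈ s, (p i).coeff 0 • f i ∈ L D :=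
          Submodule.sum_mem _ fun i _ => Submodule.smul_mem _ _ (hf i)
        exact this P
      · rw [max_eq_left h0.le]
        change P.1 (∑ i ∈ s, (p i).coeff 0 • f i) ≤ _
        rw [hs2, Valuation.map_neg, map_mul, sub_eq_neg_add, exp_add, ← val_eq_exp P hx0]
        refine mul_le_mul' le_rfl ?_
        refine Valuation.map_sum_le _ fun i _ => ?_
        rw [map_mul]
        have h1 : P.1 (aeval x (p i).divX) ≤ 1 :=
          val_aeval_le P ((val_le_one_iff P hx0).2 h0.le) _
        exact (mul_le_mul' h1 (hf i P)).trans_eq (one_mul _)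
    have h1 : ∀ i ∈ s, p i = (p i).divX * X := by
      intro i hi
      conv_lhs => rw [← (p i).divX_mul_X_add]
      rw [h0 i hi, map_zero, add_zero]
    have h2 : ∑ i ∈ s, aeval x ((p i).divX) * f i = 0 := by
      have h3 : x * ∑ i ∈ s, aeval x ((p i).divX) * f i = 0 := by
        rw [← neg_eq_zero, ← hs2]
        refine Finset.sum_eq_zero fun i hi => ?_
        rw [h0 i hi, zero_smul]
      exact (mul_eq_zero.1 h3).resolve_left hx0
    intro i hi
    rw [h1 i hi, ih (fun i => (p i).divX) ?_ h2 i hi, zero_mul]
    intro j hj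
    have h4 := hp j hj
    by_cases h5 : p j = 0
    · rw [h5, divX_zero, degree_zero]
      exact WithBot.bot_lt_coe n
    by_cases h6 : (p j).divX = 0
    · rw [h6, degree_zero]
      exact WithBot.bot_lt_coe n
    rw [Polynomial.degree_eq_natDegree h6]
    rw [Polynomial.degree_eq_natDegree h5] at h4
    have h7 : (p j).natDegree < n + 1 := by exact_mod_cast h4
    have h8 : (p j).divX.natDegree = (p j).natDegree - 1 := natDegree_divX_eq_natDegree_tsub_one
    have h9 : (p j).natDegree ≠ 0 := by
      intro h10
      rw [Polynomial.eq_C_of_natDegree_eq_zero h10] at h5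
      rw [h0 j hj, map_zero] at h5
      exact h5 rfl
    have : (p j).divX.natDegree < n := by omega
    exact_mod_cast this

open scoped IntermediateField.algebraAdjoinAdjoin in
theorem linearIndependent_of (hK : IsFunctionField k K) {x : K} (hx0 : x ≠ 0) (D : Divisor k K)
    {ι : Type*} (f : ι → K) (hf : ∀ i, f i ∈ L D)
    (hind : ∀ (s : Finset ι) (c : ι → k), ∑ i ∈ s, c i • f i ∈ L (D - zdiv k x) →
      ∀ i ∈ s, c i = 0) :
    LinearIndependent (IntermediateField.adjoin k {x}) f := by
  rw [← LinearIndependent.iff_fractionRing (Algebra.adjoin k {x}), linearIndependent_iff']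
  intro s g hg i hi
  have h1 : ∀ i, ∃ p : k[X], aeval x p = (g i : K) := by
    intro i
    have h2 : ∀ z ∈ Algebra.adjoin k {x}, ∃ p : k[X], aeval x p = z := by
      intro z hz
      rw [Algebra.adjoin_singleton_eq_range_aeval] at hz
      exact hz
    exact h2 _ (g i).2
  choose p hp using h1
  obtain ⟨n, hn⟩ : ∃ n : ℕ, ∀ i ∈ s, (p i).degree < n := by
    refine ⟨s.sup (fun i => (p i).natDegree) + 1, fun i hi => ?_⟩
    refine lt_of_le_of_lt degree_le_natDegree ?_
    have := Finset.le_sup (f := fun i => (p i).natDegree) hi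
    exact_mod_cast Nat.lt_succ_of_le this
  have h2 := key hK hx0 D f hf s (hind s) n p hn (by
    rw [← hg]
    refine Finset.sum_congr rfl fun i _ => ?_
    rw [hp i]
    rfl) i hi
  apply Subtype.ext
  rw [← hp i, h2, map_zero]
  rfl

/-- `ℓ(D) ≤ ℓ(D - (x)₀) + [K : k(x)]`. -/
theorem ell_le_add_finrank (hK : IsFunctionField k K) {x : K} (hx : Transcendental k x)
    (D : Divisor k K) :
    ell D ≤ ell (D - zdiv k x) + Module.finrank (IntermediateField.adjoin k {x}) K := by
  have hfin := (isGen_of_transcendental hK hx).fin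
  have hx0 := (isGen_of_transcendental hK hx).ne_zero
  have hle : L (D - zdiv k x) ≤ L D := L_mono (sub_le_self _ (zdiv_nonneg x))
  have := finite_L hK D
  have := finite_L hK (D - zdiv k x)
  let S : Submodule k (L D) := (L (D - zdiv k x)).comap (L D).subtype
  have h1 : Module.finrank k S = ell (D - zdiv k x) :=
    (Submodule.comapSubtypeEquivOfLe hle).finrank_eq
  have h2 := Submodule.finrank_quotient_add_finrank S
  have h3 : Module.finrank k (L D ⧸ S) ≤ Module.finrank (IntermediateField.adjoin k {x}) K := by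
    let b := Module.finBasis k (L D ⧸ S)
    have h4 : ∀ i, ∃ y : L D, S.mkQ y = b i := fun i => S.mkQ_surjective (b i)
    choose y hy using h4
    have h5 := linearIndependent_of hK hx0 D (fun i => (y i : K)) (fun i => (y i).2) (by
      intro s c hc
      have h6 : ∑ i ∈ s, c i • b i = 0 := by
        have : ∑ i ∈ s, c i • b i = S.mkQ (∑ i ∈ s, c i • y i) := by
          rw [map_sum]
          refine Finset.sum_congr rfl fun i _ => ?_
          rw [map_smul, hy]
        rw [this, Submodule.mkQ_apply, Submodule.Quotient.mk_eq_zero]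
        change ((∑ i ∈ s, c i • y i : L D) : K) ∈ L (D - zdiv k x)
        push_cast
        exact hc
      exact linearIndependent_iff'.1 b.linearIndependent s c h6)
    simpa using h5.fintype_card_le_finrank
  have h7 : Module.finrank k (L D) = ell D := rfl
  omega

theorem ell_nsmul_le (hK : IsFunctionField k K) {x : K} (hx : Transcendental k x) (m : ℕ) :
    ell (m • zdiv k x) ≤ m * Module.finrank (IntermediateField.adjoin k {x}) K + 1 := by
  induction m with
  | zero => simp [ell_zero hK]
  | succ m ih =>
    have h1 := ell_le_add_finrank hK hx ((m + 1) • zdiv k x)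
    have h2 : (m + 1) • zdiv k x - zdiv k x = m • zdiv k x := by
      rw [succ_nsmul, add_sub_cancel_right]
    rw [h2] at h1
    calc _ ≤ _ := h1
      _ ≤ _ := Nat.add_le_add_right ih _
      _ = _ := by ring

theorem deg_nsmul (n : ℕ) (D : Divisor k K) : (n • D).deg = n * D.deg := by
  rw [← natCast_zsmul, deg_zsmul]

theorem deg_zdiv_le (hK : IsFunctionField k K) {x : K} (hx : Transcendental k x) :
    (zdiv k x).deg ≤ Module.finrank (IntermediateField.adjoin k {x}) K := by
  by_contra hcon
  push Not at hcon
  have h1 := ell_nsmul_le hK hx (genus k K + 1)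
  have h2 := deg_add_one_sub_ell_le hK ((genus k K + 1) • zdiv k x)
  rw [deg_nsmul] at h2
  have h3 : (ell ((genus k K + 1) • zdiv k x) : ℤ) ≤
      (genus k K + 1) * Module.finrank (IntermediateField.adjoin k {x}) K + 1 := by
    exact_mod_cast h1
  push_cast at h2
  nlinarith

/-- `ℓ(E) ≤ deg E + 1` for effective `E`. -/
theorem ell_le_deg_add_one (hK : IsFunctionField k K) {E : Divisor k K} (hE : 0 ≤ E) :
    (ell E : ℤ) ≤ E.deg + 1 := by
  have h1 := ell_eq_deg hK E
  have h2 := ell_eq_deg hK (0 : Divisor k K)
  have h3 : ispec hK E ≤ ispec hK 0 := (crv_fin hK).i_anti hE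
  rw [ell_zero hK, deg_zero] at h2
  omega

theorem linearIndependent_pow_of_transcendental {x : K} (hx : Transcendental k x) :
    LinearIndependent k (fun n : ℕ => x ^ n) := by
  rw [linearIndependent_iff']
  intro s g hg i hi
  have h2 : (∑ j ∈ s, monomial j (g j) : k[X]) = 0 := by
    apply transcendental_iff_injective.1 hx
    rw [map_sum, map_zero, ← hg]
    refine Finset.sum_congr rfl fun j _ => ?_
    rw [aeval_monomial, Algebra.smul_def]
  have h3 := congrArg (fun p : k[X] => p.coeff i) h2
  simpa [Polynomial.finsetSum_coeff, Polynomial.coeff_monomial, hi] using h3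

theorem finrank_le_deg_zdiv (hK : IsFunctionField k K) {x : K} (hx : Transcendental k x) :
    Module.finrank (IntermediateField.adjoin k {x}) K ≤ (zdiv k x).deg := by
  classical
  have hfin := (isGen_of_transcendental hK hx).fin
  have hx0 := (isGen_of_transcendental hK hx).ne_zero
  set F := IntermediateField.adjoin k {x} with hF
  set n := Module.finrank F K with hn
  let b := Module.finBasis F K
  -- a bound for the poles of the basis
  let E : Divisor k K := ∑ i, ((-div k (b i)) ⊔ 0)
  have hE0 : 0 ≤ E := Finset.sum_nonneg fun i _ => le_sup_right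
  have hb : ∀ i, b i ∈ L E := by
    intro i
    rw [mem_L_iff_ord (b.ne_zero i)]
    intro P
    have h1 : (((-div k (b i)) ⊔ 0 : Divisor k K)) ≤ E :=
      Finset.single_le_sum (f := fun i => (((-div k (b i)) ⊔ 0 : Divisor k K)))
        (fun j _ => le_sup_right) (Finset.mem_univ i)
    have h2 := h1 P
    rw [Finsupp.sup_apply, Finsupp.neg_apply, div_apply hK] at h2
    have h3 := le_max_left (-(P.ord (b i))) ((0 : Divisor k K) P)
    have h4 : -(P.ord (b i)) ≤ E P := le_trans h3 h2
    omega
  have hxm : ∀ j m : ℕ, j ≤ m → x⁻¹ ^ j ∈ L (m • zdiv k x) := by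
    intro j m hjm
    rw [mem_L_iff_ord (pow_ne_zero _ (inv_ne_zero hx0))]
    intro P
    rw [ord_pow, ord_inv, Finsupp.smul_apply, zdiv_apply hK]
    have h1 := le_max_left (P.ord x) 0
    have h2 := le_max_right (P.ord x) 0
    rw [nsmul_eq_mul]
    have h3 : (j : ℤ) ≤ m := by exact_mod_cast hjm
    have h4 : (0 : ℤ) ≤ j := by positivity
    nlinarith
  have hdim : ∀ m : ℕ, (m + 1) * n ≤ ell (E + m • zdiv k x) := by
    intro m
    have hind : LinearIndependent k (fun p : Fin (m + 1) × Fin n =>
        (⟨x⁻¹, by rw [hF]; exact inv_mem (IntermediateField.mem_adjoin_simple_self k x)⟩ : F) ^ (p.1 : ℕ)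
          • b p.2) := by
      refine linearIndependent_smul (R := k) (S := F) (A := K) (b := fun j : Fin (m + 1) =>
        (⟨x⁻¹, by rw [hF]; exact inv_mem (IntermediateField.mem_adjoin_simple_self k x)⟩ : F) ^ (j : ℕ))
        ?_ b.linearIndependent
      apply LinearIndependent.of_comp (F.val.toLinearMap)
      have h1 : Transcendental k x⁻¹ := (isGen_of_transcendental hK hx).inv.tr
      exact (linearIndependent_pow_of_transcendental h1).comp (fun j : Fin (m + 1) => (j : ℕ))
        Fin.val_injective
    have := finite_L hK (E + m • zdiv k x)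
    have hmem : ∀ p : Fin (m + 1) × Fin n,
        (⟨x⁻¹, by rw [hF]; exact inv_mem (IntermediateField.mem_adjoin_simple_self k x)⟩ : F) ^ (p.1 : ℕ)
          • b p.2 ∈ L (E + m • zdiv k x) := by
      rintro ⟨j, i⟩
      intro P
      rw [Algebra.smul_def, map_mul, Finsupp.add_apply, exp_add, mul_comm]
      refine mul_le_mul' (hb i P) ?_
      have := hxm j m (by omega) P
      exact this
    have h3 : LinearIndependent k (fun p : Fin (m + 1) × Fin n =>
        (⟨_, hmem p⟩ : L (E + m • zdiv k x))) :=
      LinearIndependent.of_comp (L (E + m • zdiv k x)).subtype hind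
    have h4 := h3.fintype_card_le_finrank
    rw [Fintype.card_prod, Fintype.card_fin, Fintype.card_fin] at h4
    exact h4
  by_contra hcon
  push Not at hcon
  have h0 : 0 ≤ E.deg := deg_nonneg hE0
  have h1 := hdim (E.deg.toNat + 1)
  have h2 := ell_le_deg_add_one hK (E := E + (E.deg.toNat + 1) • zdiv k x)
    (add_nonneg hE0 (nsmul_nonneg (zdiv_nonneg x) _))
  rw [deg_add, deg_nsmul] at h2
  have h3 : (((E.deg.toNat + 1 + 1) * n : ℕ) : ℤ) ≤ ell (E + (E.deg.toNat + 1) • zdiv k x) := by
    exact_mod_cast h1
  push_cast at h2 h3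
  rw [Int.toNat_of_nonneg h0] at h2 h3
  have h4 : 0 ≤ (zdiv k x).deg := deg_nonneg (zdiv_nonneg x)
  nlinarith

theorem deg_zdiv_eq (hK : IsFunctionField k K) {x : K} (hx : Transcendental k x) :
    (zdiv k x).deg = Module.finrank (IntermediateField.adjoin k {x}) K :=
  le_antisymm (deg_zdiv_le hK hx) (finrank_le_deg_zdiv hK hx)

end K659.DegZeros
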