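import Groth.Agent.FunFld.K659.BNOff
import Groth.Agent.S1165
import Groth.Agent.S1169
import Groth.Agent.S1170
import Groth.Agent.S1171
import Groth.Agent.S1173
import Groth.Agent.S1184
import Groth.Agent.S0021
import Groth.Agent.S7646
import Groth.Agent.Picfga.HilbZero
import Groth.Agent.Picfga.SecGraph
import Groth.Agent.Fga.RigGrp
import Groth.Agent.Ega3B.ProjFrame

/-!
# Effective divisors on a curve away from a rational point form an affine scheme
-/

set_option autoImplicit false
set_option backward.isDefEq.respectTransparency false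
universe u

open CategoryTheory CategoryTheory.Limits AlgebraicGeometry Opposite TopologicalSpace
open Groth.Agent Groth.Agent.Fga.RigGrp Groth.Agent.Picfga.HilbPull

namespace K659.BNAff

theorem isNoetherian_opens {U : Scheme.{u}} [IsNoetherian U] (G : U.Opens) :
    IsNoetherian (G : Scheme.{u}) :=
  have : CompactSpace (G : Scheme.{u}) := isCompact_iff_compactSpace.mp (NoetherianSpace.isCompact (G : Set U))
  have : IsLocallyNoetherian (G : Scheme.{u}) := isLocallyNoetherian_of_isOpenImmersion G.ι
  { }

section main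

variable {k : Type u} [Field k] {X : Scheme.{u}} (f : X ⟶ Spec (CommRingCat.of k))
  (hX : Curve.IsSmoothProperCurve k X f) [SmoothOfRelativeDimension 1 f] [IsSeparated f]
  (σ : Spec (CommRingCat.of k) ⟶ X) (hσ : σ ≫ f = 𝟙 (Spec (CommRingCat.of k)))

include hX

/-- An open of a proper curve missing a point is affine. -/
theorem isAffineOpen_of_not_mem (U : X.Opens) (x : X) (hx : x ∉ U) : IsAffineOpen U := by
  have hprop : IsProper f := hX.1
  have hint : IsIntegral X := hX.2.2.1
  have hdim : topologicalKrullDim X = 1 := hX.2.2.2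
  have hqc : CompactSpace X := QuasiCompact.compactSpace_of_compactSpace f
  have hX1 : IsNoetherian X := { toIsLocallyNoetherian := LocallyOfFiniteType.isLocallyNoetherian f }
  change IsAffine (U : Scheme.{u})
  let _ : (U : Scheme.{u}).Over (Spec (CommRingCat.of k)) := ⟨U.ι ≫ f⟩
  have e : (U : Scheme.{u}) ↘ Spec (CommRingCat.of k) = U.ι ≫ f := rfl
  have i0 := isNoetherian_opens U
  have i1 : IsSeparated ((U : Scheme.{u}) ↘ Spec (CommRingCat.of k)) := inferInstanceAs (IsSeparated (U.ι ≫ f))
  have i2 : LocallyOfFiniteType ((U : Scheme.{u}) ↘ Spec (CommRingCat.of k)) :=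
    inferInstanceAs (LocallyOfFiniteType (U.ι ≫ f))
  refine S7646.result k (U : Scheme.{u}) ?_ ?_
  · refine (Topology.IsInducing.topologicalKrullDim_le (f := U.ι) U.ι.isOpenEmbedding.isInducing).trans ?_
    rw [hdim]
  · intro C hC _ hp
    let i : ((U : Scheme.{u}).irreducibleComponentIdeal C hC).radical.subscheme ⟶ (U : Scheme.{u}) :=
      ((U : Scheme.{u}).irreducibleComponentIdeal C hC).radical.subschemeι
    have hp' : IsProper ((i ≫ U.ι) ≫ f) := by
      rw [Category.assoc]; exact hp
    have hp2 : IsProper (i ≫ U.ι) := IsProper.of_comp (i ≫ U.ι) f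
    have hr : Set.range (i ≫ U.ι) = (U : Set X) := by
      rw [Scheme.Hom.comp_base, TopCat.coe_comp, Set.range_comp]
      have h1 : Set.range i = (Set.univ : Set U) := by
        rw [Scheme.IdealSheafData.range_subschemeι]
        change C = Set.univ
        have hne : Nonempty U := by
          obtain ⟨z, -⟩ := hC.1.nonempty
          exact ⟨z⟩
        have hirr : IrreducibleSpace (U : Scheme.{u}) := by
          have : Nonempty (U : Scheme.{u}) := hne
          infer_instance
        have := irreducibleComponents_eq_singleton (X := (U : Scheme.{u}))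
        rw [this] at hC
        exact hC
      rw [h1, Set.image_univ, Scheme.Opens.range_ι]
    have hcl : IsClosed (U : Set X) := by
      rw [← hr]
      exact (Scheme.Hom.isClosedMap (i ≫ U.ι)).isClosed_range
    have hne : (U : Set X).Nonempty := by
      obtain ⟨z, -⟩ := hC.1.nonempty
      exact ⟨z.1, z.2⟩
    have := IsClopen.eq_univ ⟨hcl, U.2⟩ hne
    apply hx
    change x ∈ (U : Set X)
    rw [this]
    trivial

theorem isAffineOpen_comp : IsAffineOpen (comp f σ hσ) :=
  isAffineOpen_of_not_mem f hX _ _ (not_mem_comp f σ hσ (IsLocalRing.closedPoint k))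

/-- Divisors of degree `d` away from the section form an affine scheme. -/
theorem isAffineOpen_off [GeometricallyIrreducible f] (d : ℕ) :
    ∀ (H : Over (Spec (CommRingCat.of k))) [IsProper H.hom] (Z : HilbD.Obj f d H)
      (_ : HilbD.IsUniversal f d H Z), IsAffineOpen (off f σ hσ H Z.1) := by
  induction d with
  | zero =>
    intro H _ Z hZ
    have h1 : IsIso H.hom := Picfga.HilbZero.isIso_hom_of_isUniversal_zero f hZ
    have h2 : IsAffine H.left := IsAffine.of_isIso H.hom
    have h3 : off f σ hσ H Z.1 = ⊤ := by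
      ext t
      rw [Picfga.HilbZero.obj_zero_eq_top f Z]
      change PicF.secT f σ hσ H t ∉ (⊤ : (PicF.XT f H).IdealSheafData).support ↔ _
      rw [Scheme.IdealSheafData.support_top]
      exact iff_of_true (fun h => (h : PicF.secT f σ hσ H t ∈ (∅ : Set _))) trivial
    rw [h3]
    exact isAffineOpen_top _
  | succ d ih =>
    intro H' hH' Z' hZ'
    obtain ⟨H, Z, hZ, hHp, hHs⟩ := S1170.result k X f hX d
    have hU := ih H Z hZ
    let T : Over (Spec (CommRingCat.of k)) := Over.mk (pullback.fst H.hom f ≫ H.hom)
    let p : T ⟶ H := Over.homMk (pullback.fst H.hom f) rfl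
    let I : (PicF.XT f T).IdealSheafData := HilbD.pull f p Z.1 *
      HilbD.secGraph f T (pullback.snd H.hom f) pullback.condition.symm
    have hsm : SmoothOfRelativeDimension 1 (PicF.XTproj f T) := by
      have : MorphismProperty.IsStableUnderBaseChange (@SmoothOfRelativeDimension.{u} 1) :=
        smoothOfRelativeDimension_isStableUnderBaseChange 1
      exact MorphismProperty.of_isPullback (P := @SmoothOfRelativeDimension 1)
        (IsPullback.of_hasPullback f T.hom) ‹_›
    have hI : Mor2.IsFinLocFreeOfDeg (d + 1) (I.subschemeι ≫ PicF.XTproj f T) :=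
      S1171.result (PicF.XTproj f T) _ _ d 1 (isFinLocFreeOfDeg_pull f p Z.2)
        (Picfga.SecGraph.isFinLocFreeOfDeg_secGraph f _ _)
    obtain ⟨m, hm, -⟩ := hZ' T ⟨I, hI⟩
    have hfin := S1173.result f d H Z hZ H' Z' hZ' m hm
    have hmf : IsFinite m.left := hfin.1.1
    have hms : Surjective m.left := Picfga.HilbZero.surjective_of_isFinLocFreeOfDeg m.left (Nat.le_add_left 1 d) hfin
    have h1 : m.left ⁻¹ᵁ off f σ hσ H' Z'.1 =
        pullback.fst H.hom f ⁻¹ᵁ off f σ hσ H Z.1 ⊓ pullback.snd H.hom f ⁻¹ᵁ comp f σ hσ := by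
      have h2 := preimage_off f σ hσ m Z'.1
      have h3 := preimage_off f σ hσ p Z.1
      rw [hm] at h2
      change m.left ⁻¹ᵁ off f σ hσ H' Z'.1 = off f σ hσ T I at h2
      rw [off_mul, ← h3, off_secGraph] at h2
      exact h2
    have h4 : IsAffineOpen (m.left ⁻¹ᵁ off f σ hσ H' Z'.1) := by
      rw [h1]
      exact Ega3B.ProjFrame.isAffineOpen_fst_inf_snd H.hom f hU (isAffineOpen_comp f hX σ hσ)
    have h5 : IsAffine (m.left ⁻¹ᵁ off f σ hσ H' Z'.1 : Scheme.{u}) := h4
    have hqc : CompactSpace H'.left := QuasiCompact.compactSpace_of_compactSpace H'.hom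
    have h6 : IsNoetherian H'.left := { toIsLocallyNoetherian := LocallyOfFiniteType.isLocallyNoetherian H'.hom }
    have h7 : IsFinite (m.left ∣_ off f σ hσ H' Z'.1) := inferInstance
    have h8 : Surjective (m.left ∣_ off f σ hσ H' Z'.1) :=
      IsZariskiLocalAtTarget.restrict (P := @Surjective) hms _
    have h9 := isNoetherian_opens (off f σ hσ H' Z'.1)
    exact S0021.result (m.left ∣_ off f σ hσ H' Z'.1)

end main

end K659.BNAff
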