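import Groth.Agent.Ega3A.FiberRank
import Mathlib.RingTheory.KrullDimension.Regular
import Mathlib.RingTheory.KrullDimension.NonZeroDivisors
import Mathlib.RingTheory.LocalRing.Module
import Mathlib.Algebra.Module.Projective
import Mathlib.LinearAlgebra.TensorProduct.Basis
import Mathlib.RingTheory.TensorProduct.Finite

/-!
# Maps of projective modules with finite kernel and cokernel

For `d : F → M` linear with `F`, `M` projective, finitely generated cokernel and kernel contained in a finitely
generated submodule:
* `exists_regular`: if the cokernel is projective, `d h d = d` for some `h`;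
* `fg_ker`, `projective_ker`, `existsUnique_of_mem_ker`: then the kernel is finitely generated projective and
  commutes with base change;
* `exists_matrix`: over a Noetherian local ring there is an `h¹ × h⁰` matrix over the maximal ideal such that the
  kernel over a field keeps dimension `h⁰` when the matrix vanishes in the field.
* `exists_prime`: the dimension estimate.
-/

set_option autoImplicit false
universe v

open TensorProduct

namespace K659.BNAlg

section regular

variable {R : Type*} [CommRing R] {F M : Type*} [AddCommGroup F] [Module R F] [AddCommGroup M] [Module R M]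
  (d : F →ₗ[R] M)

theorem exists_regular [Module.Projective R M] [Module.Projective R (M ⧸ LinearMap.range d)] :
    ∃ h : M →ₗ[R] F, ∀ x, d (h (d x)) = d x := by
  obtain ⟨s, hs⟩ := Module.projective_lifting_property (LinearMap.range d).mkQ LinearMap.id
    (Submodule.mkQ_surjective _)
  have hs' : ∀ y, (LinearMap.range d).mkQ (s y) = y := fun y => LinearMap.congr_fun hs y
  let p : M →ₗ[R] LinearMap.range d := (LinearMap.id - s.comp (LinearMap.range d).mkQ).codRestrict _ (by
    intro m
    rw [← Submodule.Quotient.mk_eq_zero]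
    change (LinearMap.range d).mkQ (m - s ((LinearMap.range d).mkQ m)) = 0
    rw [map_sub, hs', sub_self])
  have hp : ∀ z : LinearMap.range d, p z = z := by
    intro z
    apply Subtype.ext
    change (z : M) - s ((LinearMap.range d).mkQ z) = z
    have : (LinearMap.range d).mkQ (z : M) = 0 := (Submodule.Quotient.mk_eq_zero _).mpr z.2
    rw [this, map_zero, sub_zero]
  have hproj : Module.Projective R (LinearMap.range d) :=
    Module.Projective.of_split (LinearMap.range d).subtype p (LinearMap.ext hp)
  obtain ⟨t, ht⟩ := Module.projective_lifting_property d.rangeRestrict LinearMap.id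
    d.surjective_rangeRestrict
  refine ⟨t.comp p, fun x => ?_⟩
  have h1 : p (d x) = ⟨d x, x, rfl⟩ := hp ⟨d x, x, rfl⟩
  change d (t (p (d x))) = d x
  rw [h1]
  exact congrArg Subtype.val (LinearMap.congr_fun ht ⟨d x, x, rfl⟩)

variable {d}

/-- The projector onto the kernel. -/
noncomputable def toKer (h : M →ₗ[R] F) (hh : ∀ x, d (h (d x)) = d x) : F →ₗ[R] LinearMap.ker d :=
  (LinearMap.id - h.comp d).codRestrict _ (fun x => by
    rw [LinearMap.mem_ker]
    change d (x - h (d x)) = 0
    rw [map_sub, hh, sub_self])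

theorem toKer_coe (h : M →ₗ[R] F) (hh : ∀ x, d (h (d x)) = d x) (x : LinearMap.ker d) :
    toKer h hh x = x := by
  apply Subtype.ext
  change (x : F) - h (d x) = x
  rw [LinearMap.mem_ker.mp x.2, map_zero, sub_zero]

theorem projective_ker [Module.Projective R F] (h : M →ₗ[R] F) (hh : ∀ x, d (h (d x)) = d x) :
    Module.Projective R (LinearMap.ker d) :=
  Module.Projective.of_split (LinearMap.ker d).subtype (toKer h hh) (LinearMap.ext (toKer_coe h hh))

theorem finite_ker (h : M →ₗ[R] F) (hh : ∀ x, d (h (d x)) = d x) {G : Submodule R F} (hG : G.FG)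
    (hGd : LinearMap.ker d ≤ G) : Module.Finite R (LinearMap.ker d) := by
  have h1 : G.map (toKer h hh) = ⊤ := by
    rw [eq_top_iff]
    rintro x -
    exact ⟨x, hGd x.2, toKer_coe h hh x⟩
  exact ⟨h1 ▸ hG.map _⟩

variable (B : Type*) [CommRing B] [Algebra R B]

theorem toKer_baseChange (h : M →ₗ[R] F) (hh : ∀ x, d (h (d x)) = d x) (x : B ⊗[R] F)
    (hx : d.baseChange B x = 0) :
    (LinearMap.ker d).subtype.baseChange B ((toKer h hh).baseChange B x) = x := by
  have h1 : (LinearMap.ker d).subtype.comp (toKer h hh) = LinearMap.id - h.comp d := rfl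
  rw [← LinearMap.comp_apply, ← LinearMap.baseChange_comp, h1, LinearMap.baseChange_sub,
    LinearMap.baseChange_comp, LinearMap.baseChange_id, LinearMap.sub_apply, LinearMap.comp_apply, hx, map_zero,
    sub_zero, LinearMap.id_apply]

theorem existsUnique_of_mem_ker (h : M →ₗ[R] F) (hh : ∀ x, d (h (d x)) = d x) {ι : Type*} [Fintype ι]
    (b : Module.Basis ι R (LinearMap.ker d)) (x : B ⊗[R] F) (hx : d.baseChange B x = 0) :
    ∃! c : ι → B, x = ∑ j, c j • ((1 : B) ⊗ₜ[R] (b j : F)) := by
  classical
  have hinc : ∀ c : ι → B, (LinearMap.ker d).subtype.baseChange B (∑ j, c j • b.baseChange B j) =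
      ∑ j, c j • ((1 : B) ⊗ₜ[R] (b j : F)) := by
    intro c
    rw [map_sum]
    refine Finset.sum_congr rfl fun j _ => ?_
    rw [map_smul, Module.Basis.baseChange_apply, LinearMap.baseChange_tmul]
    rfl
  have hinj : Function.Injective ((LinearMap.ker d).subtype.baseChange B) := by
    apply Function.LeftInverse.injective (g := (toKer h hh).baseChange B)
    intro y
    have h1 : (toKer h hh).comp (LinearMap.ker d).subtype = LinearMap.id := LinearMap.ext (toKer_coe h hh)
    rw [← LinearMap.comp_apply, ← LinearMap.baseChange_comp, h1, LinearMap.baseChange_id, LinearMap.id_apply]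
  refine ⟨fun j => (b.baseChange B).repr ((toKer h hh).baseChange B x) j, ?_, fun c hc => ?_⟩
  · change x = ∑ j, (b.baseChange B).repr ((toKer h hh).baseChange B x) j • ((1 : B) ⊗ₜ[R] (b j : F))
    rw [← hinc, (b.baseChange B).sum_repr, toKer_baseChange B h hh x hx]
  · have h2 : (toKer h hh).baseChange B x = ∑ j, c j • b.baseChange B j := by
      apply hinj
      rw [toKer_baseChange B h hh x hx, hinc]
      exact hc
    funext j
    rw [h2, Module.Basis.repr_sum_self]

end regular

section local_ring

open Groth.Agent.Ega3A.FiberRank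

variable {R : Type*} [CommRing R] [IsLocalRing R] [IsNoetherianRing R] {F M : Type*} [AddCommGroup F]
  [Module R F] [AddCommGroup M] [Module R M] (d : F →ₗ[R] M)

omit [IsLocalRing R] [IsNoetherianRing R] in
theorem finite_coker (hC : ∃ W : Submodule R M, W.FG ∧ W ⊔ LinearMap.range d = ⊤) :
    Module.Finite R (M ⧸ LinearMap.range d) := by
  obtain ⟨W, hW, hWd⟩ := hC
  have : Module.Finite R W := Module.Finite.iff_fg.mpr hW
  refine Module.Finite.of_surjective ((LinearMap.range d).mkQ.comp W.subtype) ?_
  intro y
  obtain ⟨m, rfl⟩ := Submodule.mkQ_surjective _ y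
  have hm : m ∈ W ⊔ LinearMap.range d := by rw [hWd]; trivial
  obtain ⟨w, hw, z, hz, rfl⟩ := Submodule.mem_sup.mp hm
  refine ⟨⟨w, hw⟩, ?_⟩
  simp only [LinearMap.comp_apply, Submodule.subtype_apply, map_add]
  have h0 : (LinearMap.range d).mkQ z = 0 := (Submodule.Quotient.mk_eq_zero _).mpr hz
  rw [h0, add_zero]

/-- The minimal presentation of the kernel. -/
theorem exists_matrix [Module.Projective R F] [Module.Projective R M]
    (hC : ∃ W : Submodule R M, W.FG ∧ W ⊔ LinearMap.range d = ⊤)
    (G : Submodule R F) (hG : G.FG) (hGd : LinearMap.ker d ≤ G) (κ : Type v) [Field κ] [Algebra R κ]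
    (hκ : RingHom.ker (algebraMap R κ) = IsLocalRing.maximalIdeal R) :
    ∃ a : Fin (Module.finrank κ (κ ⊗[R] (M ⧸ LinearMap.range d))) →
        Fin (Module.finrank κ (LinearMap.ker (d.baseChange κ))) → R,
      (∀ i j, a i j ∈ IsLocalRing.maximalIdeal R) ∧
      ∀ (K : Type v) [Field K] [Algebra R K], (∀ i j, algebraMap R K (a i j) = 0) →
        Module.finrank K (LinearMap.ker (d.baseChange K)) =
          Module.finrank κ (LinearMap.ker (d.baseChange κ)) := by
  classical
  have hfin := finite_coker d hC
  set C := M ⧸ LinearMap.range d with hCdef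
  set x := IsLocalRing.closedPoint R with hx
  have hrank : Module.finrank κ (κ ⊗[R] C) = fiberRank C x :=
    finrank_tensor_eq_fiberRank C κ x hκ.symm
  obtain ⟨φ, hφ⟩ := exists_map_notMem_support (M := C) x
  have hsurj : Function.Surjective φ := by
    rw [← LinearMap.range_eq_top, ← Submodule.Quotient.subsingleton_iff,
      ← Module.support_eq_empty_iff (R := R), Set.eq_empty_iff_forall_notMem]
    intro y hy
    apply hφ
    exact Module.mem_support_mono (IsLocalRing.le_maximalIdeal y.2.ne_top) hy
  obtain ⟨g, hg⟩ := Module.projective_lifting_property (LinearMap.range d).mkQ φ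
    (Submodule.mkQ_surjective _)
  have hg' : ∀ a, (LinearMap.range d).mkQ (g a) = φ a := fun a => LinearMap.congr_fun hg a
  let Φ : ((Fin (fiberRank C x) → R) × F) →ₗ[R] M := g.coprod d
  have hΦ : ∀ z, Φ z = g z.1 + d z.2 := fun z => rfl
  have hΦs : Function.Surjective Φ := by
    intro m
    obtain ⟨a, ha⟩ := hsurj ((LinearMap.range d).mkQ m)
    have h1 : m - g a ∈ LinearMap.range d := by
      rw [← Submodule.Quotient.mk_eq_zero]
      change (LinearMap.range d).mkQ (m - g a) = 0
      rw [map_sub, hg', ha, sub_self]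
    obtain ⟨y, hy⟩ := h1
    exact ⟨(a, y), by rw [hΦ, hy]; simp⟩
  have hproj : Module.Projective R (M ⧸ LinearMap.range Φ) := by
    have : Subsingleton (M ⧸ LinearMap.range Φ) := by
      rw [LinearMap.range_eq_top.mpr hΦs]
      exact (Submodule.Quotient.subsingleton_iff (p := (⊤ : Submodule R M))).mpr rfl
    infer_instance
  obtain ⟨h, hh⟩ := exists_regular Φ
  have hKproj : Module.Projective R (LinearMap.ker Φ) := projective_ker h hh
  -- the kernel of `Φ` is finitely generated
  have hker : ∀ z ∈ LinearMap.ker Φ, ∀ i, z.1 i ∈ IsLocalRing.maximalIdeal R := by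
    intro z hz i
    rw [LinearMap.mem_ker, hΦ] at hz
    have h1 : φ z.1 = 0 := by
      rw [← hg']
      have h2 : g z.1 = - d z.2 := by rw [eq_neg_iff_add_eq_zero]; exact hz
      rw [h2]
      exact (Submodule.Quotient.mk_eq_zero _).mpr (Submodule.neg_mem _ ⟨_, rfl⟩)
    exact mem_of_surjective_of_fiberRank_eq φ x
        (lTensor_surjective_of_notMem_support φ _ hφ) rfl z.1 h1 i
  let ψ : LinearMap.ker Φ →ₗ[R] (Fin (fiberRank C x) → R) := (LinearMap.fst R _ _).comp (LinearMap.ker Φ).subtype
  have hKfin : Module.Finite R (LinearMap.ker Φ) := by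
    have h1 : Module.Finite R (LinearMap.range ψ) := inferInstance
    have h2 : Module.Finite R (LinearMap.ker ψ) := by
      have h3 : Module.Finite R G := Module.Finite.iff_fg.mpr hG
      have h4 : Module.Finite R (LinearMap.ker d) :=
        Module.Finite.of_injective (Submodule.inclusion hGd) (Submodule.inclusion_injective hGd)
      let q : LinearMap.ker ψ →ₗ[R] LinearMap.ker d :=
        ((LinearMap.snd R _ _).comp ((LinearMap.ker Φ).subtype.comp (LinearMap.ker ψ).subtype)).codRestrict _ (by
          rintro ⟨⟨⟨a, y⟩, hz⟩, hz'⟩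
          rw [LinearMap.mem_ker, hΦ] at hz
          have h5 : a = 0 := hz'
          rw [LinearMap.mem_ker]
          change d y = 0
          change g a + d y = 0 at hz
          rwa [h5, map_zero, zero_add] at hz)
      refine Module.Finite.of_injective q ?_
      rintro ⟨⟨⟨a, y⟩, hz⟩, hz'⟩ ⟨⟨⟨a', y'⟩, hw⟩, hw'⟩ hq
      have h5 : a = 0 := hz'
      have h6 : a' = 0 := hw'
      have h7 : y = y' := congrArg Subtype.val hq
      subst h5 h6 h7
      rfl
    have h8 : Module.Finite R ((LinearMap.ker Φ) ⧸ LinearMap.ker ψ) := Module.Finite.equiv ψ.quotKerEquivRange.symm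
    exact Module.Finite.of_submodule_quotient (LinearMap.ker ψ)
  have hKfree : Module.Free R (LinearMap.ker Φ) := Module.free_of_flat_of_isLocalRing
  let n := Module.finrank R (LinearMap.ker Φ)
  let b : Module.Basis (Fin n) R (LinearMap.ker Φ) := Module.finBasis R (LinearMap.ker Φ)
  -- the dimension of the kernel over a field
  have key : ∀ (K : Type v) [Field K] [Algebra R K],
      (∀ (j : Fin n) (i : Fin (fiberRank C x)), algebraMap R K ((b j : (Fin (fiberRank C x) → R) × F).1 i) = 0) →
      Module.finrank K (LinearMap.ker (d.baseChange K)) = n := by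
    intro K _ _ hK
    have hfst : ∀ j : Fin n, (LinearMap.inl R (Fin (fiberRank C x) → R) F).baseChange K
        ((1 : K) ⊗ₜ[R] (b j : (Fin (fiberRank C x) → R) × F).1) = 0 := by
      intro j
      have h1 : (1 : K) ⊗ₜ[R] (b j : (Fin (fiberRank C x) → R) × F).1 = 0 := by
        have h2 : (b j : (Fin (fiberRank C x) → R) × F).1 =
            ∑ i, ((b j : (Fin (fiberRank C x) → R) × F).1 i) • (Pi.single i (1 : R) : Fin (fiberRank C x) → R) := by
          conv_lhs => rw [pi_eq_sum_univ' ((b j : (Fin (fiberRank C x) → R) × F).1)]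
        rw [h2, TensorProduct.tmul_sum]
        refine Finset.sum_eq_zero fun i _ => ?_
        rw [← TensorProduct.smul_tmul, Algebra.smul_def, mul_one, hK j i, TensorProduct.zero_tmul]
      rw [h1, map_zero]
    have hrepr : ∀ z : K ⊗[R] ((Fin (fiberRank C x) → R) × F), Φ.baseChange K z = 0 →
        (LinearMap.inr R (Fin (fiberRank C x) → R) F).baseChange K ((LinearMap.snd R (Fin (fiberRank C x) → R) F).baseChange K z) = z := by
      intro z hz
      obtain ⟨c, hc, -⟩ := existsUnique_of_mem_ker K h hh b z hz
      have h1 : ∀ j, (LinearMap.inr R (Fin (fiberRank C x) → R) F).baseChange K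
          ((LinearMap.snd R (Fin (fiberRank C x) → R) F).baseChange K
            ((1 : K) ⊗ₜ[R] (b j : (Fin (fiberRank C x) → R) × F))) = (1 : K) ⊗ₜ[R] (b j : (Fin (fiberRank C x) → R) × F) := by
        intro j
        have h2 := hfst j
        rw [LinearMap.baseChange_tmul] at h2 ⊢
        rw [LinearMap.baseChange_tmul]
        have h3 : (b j : (Fin (fiberRank C x) → R) × F) =
            LinearMap.inl R (Fin (fiberRank C x) → R) F (b j : (Fin (fiberRank C x) → R) × F).1 +
            LinearMap.inr R (Fin (fiberRank C x) → R) F (b j : (Fin (fiberRank C x) → R) × F).2 := by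
          simp
        conv_rhs => rw [h3, TensorProduct.tmul_add, h2, zero_add]
        rfl
      rw [hc, map_sum, map_sum]
      refine Finset.sum_congr rfl fun j _ => ?_
      rw [map_smul, map_smul, h1]
    have hinr : Function.Injective ((LinearMap.inr R (Fin (fiberRank C x) → R) F).baseChange K) := by
      apply Function.LeftInverse.injective (g := (LinearMap.snd R (Fin (fiberRank C x) → R) F).baseChange K)
      intro y
      rw [← LinearMap.comp_apply, ← LinearMap.baseChange_comp]
      have : (LinearMap.snd R (Fin (fiberRank C x) → R) F).comp (LinearMap.inr R (Fin (fiberRank C x) → R) F) =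
        LinearMap.id := by ext; rfl
      rw [this, LinearMap.baseChange_id, LinearMap.id_apply]
    have hΦinr : ∀ y, Φ.baseChange K ((LinearMap.inr R (Fin (fiberRank C x) → R) F).baseChange K y) = d.baseChange K y := by
      intro y
      rw [← LinearMap.comp_apply, ← LinearMap.baseChange_comp]
      have : Φ.comp (LinearMap.inr R (Fin (fiberRank C x) → R) F) = d := by
        ext y; simp [Φ]
      rw [this]
    let v : Fin n → LinearMap.ker (d.baseChange K) := fun j =>
      ⟨(1 : K) ⊗ₜ[R] (b j : (Fin (fiberRank C x) → R) × F).2, by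
        rw [LinearMap.mem_ker, ← hΦinr]
        have h1 := hrepr ((1 : K) ⊗ₜ[R] (b j : (Fin (fiberRank C x) → R) × F)) (by
          rw [LinearMap.baseChange_tmul, LinearMap.mem_ker.mp (b j).2, TensorProduct.tmul_zero])
        have h2 : (LinearMap.snd R (Fin (fiberRank C x) → R) F).baseChange K
            ((1 : K) ⊗ₜ[R] (b j : (Fin (fiberRank C x) → R) × F)) =
            (1 : K) ⊗ₜ[R] (b j : (Fin (fiberRank C x) → R) × F).2 := LinearMap.baseChange_tmul _ _ _
        rw [← h2, h1, LinearMap.baseChange_tmul, LinearMap.mem_ker.mp (b j).2, TensorProduct.tmul_zero]⟩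
    have hv : ∀ y : LinearMap.ker (d.baseChange K), ∃! c : Fin n → K, y = ∑ j, c j • v j := by
      intro y
      have h1 : Φ.baseChange K ((LinearMap.inr R (Fin (fiberRank C x) → R) F).baseChange K y.1) = 0 := by
        rw [hΦinr]; exact y.2
      have e : ∀ j, (LinearMap.inr R (Fin (fiberRank C x) → R) F).baseChange K (v j : K ⊗[R] F) =
          (1 : K) ⊗ₜ[R] (b j : (Fin (fiberRank C x) → R) × F) := by
        intro j
        have h3 := hrepr ((1 : K) ⊗ₜ[R] (b j : (Fin (fiberRank C x) → R) × F)) (by
          rw [LinearMap.baseChange_tmul, LinearMap.mem_ker.mp (b j).2, TensorProduct.tmul_zero])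
        rw [LinearMap.baseChange_tmul] at h3
        exact h3
      have e2 : ∀ c : Fin n → K, (LinearMap.inr R (Fin (fiberRank C x) → R) F).baseChange K
          ((∑ j, c j • v j : LinearMap.ker (d.baseChange K)) : K ⊗[R] F) =
          ∑ j, c j • ((1 : K) ⊗ₜ[R] (b j : (Fin (fiberRank C x) → R) × F)) := by
        intro c
        rw [Submodule.coe_sum, map_sum]
        refine Finset.sum_congr rfl fun j _ => ?_
        rw [Submodule.coe_smul, map_smul, e]
      obtain ⟨c, hc, hu⟩ := existsUnique_of_mem_ker K h hh b _ h1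
      refine ⟨c, ?_, fun c' hc' => hu c' ?_⟩
      · apply Subtype.ext
        apply hinr
        rw [e2]
        exact hc
      · change (LinearMap.inr R (Fin (fiberRank C x) → R) F).baseChange K y.1 = _
        rw [← e2, ← hc']
    let e : (Fin n → K) ≃ₗ[K] LinearMap.ker (d.baseChange K) :=
      LinearEquiv.ofBijective (Fintype.linearCombination K v) ⟨by
        intro c c' hcc
        obtain ⟨c₀, h0, hu⟩ := hv (Fintype.linearCombination K v c)
        rw [hu c rfl, hu c' (by rw [hcc]; rfl)], by
        intro y
        obtain ⟨c, hc, -⟩ := hv y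
        exact ⟨c, hc.symm⟩⟩
    rw [← e.finrank_eq, Module.finrank_fin_fun]
  have hn : Module.finrank κ (LinearMap.ker (d.baseChange κ)) = n := by
    refine key κ fun j i => ?_
    have := hker (b j) (b j).2 i
    rw [← hκ] at this
    exact this
  refine ⟨fun i j => (b (finCongr hn j) : (Fin (fiberRank C x) → R) × F).1 (finCongr hrank i),
    fun i j => hker _ (b _).2 _, fun K _ _ hK => ?_⟩
  rw [hn]
  refine key K fun j i => ?_
  have := hK ((finCongr hrank).symm i) ((finCongr hn).symm j)
  simpa using this

end local_ring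

section dim

variable {R : Type*} [CommRing R]

theorem exists_prime_of_le (I : Ideal R) (m : ℕ) (h : (m : WithBot ℕ∞) ≤ ringKrullDim (R ⧸ I)) :
    ∃ q : PrimeSpectrum R, I ≤ q.asIdeal ∧ (m : WithBot ℕ∞) ≤ ringKrullDim (R ⧸ q.asIdeal) := by
  rw [ringKrullDim_quotient, Order.le_krullDim_iff] at h
  obtain ⟨l, hl⟩ := h
  refine ⟨l.head.1, l.head.2, ?_⟩
  rw [ringKrullDim_quotient, Order.le_krullDim_iff]
  have hle : ∀ i, l.head.1 ≤ (l i).1 := fun i => LTSeries.head_le l i
  exact ⟨{ length := l.length
           toFun := fun i => ⟨(l i).1, hle i⟩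
           step := fun i => l.step i }, hl⟩

/-- The dimension of the locus of `n` equations in a Noetherian local ring. -/
theorem exists_prime [IsLocalRing R] [IsNoetherianRing R] {ι : Type*} [Fintype ι] (a : ι → R)
    (ha : ∀ i, a i ∈ IsLocalRing.maximalIdeal R) (m : ℕ)
    (h : ((m + Fintype.card ι : ℕ) : WithBot ℕ∞) ≤ ringKrullDim R) :
    ∃ q : PrimeSpectrum R, (∀ i, a i ∈ q.asIdeal) ∧ (m : WithBot ℕ∞) ≤ ringKrullDim (R ⧸ q.asIdeal) := by
  classical
  let s : Finset R := Finset.univ.image a
  have hs : (s : Set R) ⊆ Ring.jacobson R := by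
    intro x hx
    rw [IsLocalRing.ringJacobson_eq_maximalIdeal]
    obtain ⟨i, -, rfl⟩ := Finset.mem_image.mp hx
    exact ha i
  have h1 := ringKrullDim_le_ringKrullDim_quotient_add_card s hs
  have h2 : s.card ≤ Fintype.card ι := Finset.card_image_le
  have h3 : ((m + s.card : ℕ) : WithBot ℕ∞) ≤ ringKrullDim (R ⧸ Ideal.span (s : Set R)) + s.card := by
    refine le_trans ?_ h1
    refine le_trans ?_ h
    exact_mod_cast Nat.add_le_add_left h2 m
  have h4 : (m : WithBot ℕ∞) ≤ ringKrullDim (R ⧸ Ideal.span (s : Set R)) := by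
    have h5 : ringKrullDim (R ⧸ Ideal.span (s : Set R)) ≠ ⊥ := by
      intro h6
      rw [h6, WithBot.bot_add] at h3
      exact absurd h3 (by simp)
    obtain ⟨x, hx⟩ := WithBot.ne_bot_iff_exists.mp h5
    rw [← hx] at h3 ⊢
    have h7 : ((m + s.card : ℕ) : ℕ∞) ≤ x + (s.card : ℕ∞) := by exact_mod_cast h3
    have h8 : (m : ℕ∞) ≤ x := by
      rw [Nat.cast_add] at h7
      exact (ENat.add_le_add_iff_right (ENat.coe_ne_top _)).mp h7
    exact_mod_cast h8
  obtain ⟨q, hq, hq'⟩ := exists_prime_of_le _ m h4
  exact ⟨q, fun i => hq (Ideal.subset_span (Finset.mem_coe.mpr (Finset.mem_image_of_mem _ (Finset.mem_univ i)))), hq'⟩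

end dim

end K659.BNAlg
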