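import Groth.Agent.FunFld.K659.BNAlg
import Groth.Agent.Picfga.P1AlgNak
import Mathlib.LinearAlgebra.Matrix.ToLin
import Mathlib.LinearAlgebra.Determinant

/-!
# Bases of the kernel adapted to a functional, near a point

`exists_adapted`: for `d : F → M` with `d h d = d`, finitely generated kernel and a functional `l` on the kernel which
is nonzero over the field `κ`, there are `v : Fin (r+1) → ker d` with `l (v j) = 0` for `j ≠ 0` and `g ∈ R`, a
multiple of `l (v 0)`, nonzero in `κ`, such that the `v j` form a basis of the kernel universally where `g` is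
invertible.
-/

set_option autoImplicit false
universe v

open TensorProduct

namespace K659.BNAlg

section free

variable {R : Type*} [CommRing R] {E : Type*} [AddCommGroup E] [Module R E]

/-- The base change of an endomorphism of `Rⁿ` in terms of its matrix. -/
theorem mulVec_baseChange {n : ℕ} (t : (Fin n → R) →ₗ[R] (Fin n → R)) (B : Type*) [CommRing B] [Algebra R B]
    (x : Fin n → B) :
    (TensorProduct.piScalarRight R B B (Fin n)) (t.baseChange B ((TensorProduct.piScalarRight R B B (Fin n)).symm x)) =
      ((LinearMap.toMatrix' t).map (algebraMap R B)).mulVec x := by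
  classical
  have h1 : (((TensorProduct.piScalarRight R B B (Fin n)).toLinearMap.comp (t.baseChange B)).comp
      (TensorProduct.piScalarRight R B B (Fin n)).symm.toLinearMap) =
      Matrix.toLin' ((LinearMap.toMatrix' t).map (algebraMap R B)) := by
    refine LinearMap.pi_ext' fun j => LinearMap.ext_ring ?_
    have h2 : (TensorProduct.piScalarRight R B B (Fin n)).symm (Pi.single j (1 : B)) =
        (1 : B) ⊗ₜ[R] (Pi.single j (1 : R) : Fin n → R) := by
      rw [LinearEquiv.symm_apply_eq, TensorProduct.piScalarRight_apply, TensorProduct.piScalarRightHom_tmul]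
      funext i
      by_cases hij : i = j
      · subst hij; simp
      · simp [Pi.single_eq_of_ne hij]
    simp only [LinearMap.comp_apply, LinearEquiv.coe_coe, LinearMap.coe_single]
    rw [h2, LinearMap.baseChange_tmul, TensorProduct.piScalarRight_apply, TensorProduct.piScalarRightHom_tmul]
    funext i
    simp only [Matrix.toLin'_apply, Matrix.mulVec_single_one, Matrix.col_apply, Matrix.map_apply]
    have h3 : (LinearMap.toMatrix' t) i j = t (Pi.single j 1) i := by
      simp only [LinearMap.toMatrix'_apply]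
    rw [h3, Algebra.smul_def, mul_one]
  exact LinearMap.congr_fun h1 x

/-- A family forming a basis over the field `κ` forms one universally where some `g` is invertible. -/
theorem exists_basis_of_field [Module.Finite R E] [Module.Projective R E] {n : ℕ} (v : Fin n → E)
    (κ : Type*) [Field κ] [Algebra R κ]
    (hv : Function.Bijective (((Fintype.linearCombination R v).baseChange κ))) :
    ∃ g : R, algebraMap R κ g ≠ 0 ∧ ∀ (B : Type v) [CommRing B] [Algebra R B], IsUnit (algebraMap R B g) →
      Function.Bijective ((Fintype.linearCombination R v).baseChange B) := by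
  classical
  set φ : (Fin n → R) →ₗ[R] E := Fintype.linearCombination R v with hφ
  obtain ⟨g₁, hg₁, hg₁E⟩ : ∃ g₁ : R, algebraMap R κ g₁ ≠ 0 ∧ ∀ m : E, g₁ • m ∈ LinearMap.range φ := by
    have hsub : Subsingleton (κ ⊗[R] (E ⧸ LinearMap.range φ)) := by
      have key : ∀ x : κ ⊗[R] (E ⧸ LinearMap.range φ), x = 0 := by
        intro x
        have hs' : Function.Surjective ((LinearMap.range φ).mkQ.baseChange κ) :=
          LinearMap.lTensor_surjective κ (Submodule.mkQ_surjective _)
        obtain ⟨y, rfl⟩ := hs' x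
        obtain ⟨z, rfl⟩ := hv.2 y
        rw [← LinearMap.comp_apply, ← LinearMap.baseChange_comp, LinearMap.range_mkQ_comp,
          LinearMap.baseChange_zero]
        rfl
      exact ⟨fun x y => by rw [key x, key y]⟩
    obtain ⟨g₁, h1, h2⟩ := Groth.Agent.Picfga.P1Alg.exists_smul_eq_zero κ (E ⧸ LinearMap.range φ) hsub
    refine ⟨g₁, h1, fun m => ?_⟩
    have := h2 ((LinearMap.range φ).mkQ m)
    rw [← map_smul] at this
    exact (Submodule.Quotient.mk_eq_zero _).mp this
  obtain ⟨s, hs⟩ : ∃ s : E →ₗ[R] (Fin n → R), ∀ m, φ (s m) = g₁ • m := by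
    obtain ⟨s, hs⟩ := Module.projective_lifting_property φ.rangeRestrict
      ((g₁ • LinearMap.id : E →ₗ[R] E).codRestrict (LinearMap.range φ) hg₁E) φ.surjective_rangeRestrict
    refine ⟨s, fun m => ?_⟩
    have := congrArg Subtype.val (LinearMap.congr_fun hs m)
    simpa using this
  have hφs : φ.comp s = g₁ • LinearMap.id := LinearMap.ext hs
  set A : Matrix (Fin n) (Fin n) R := LinearMap.toMatrix' (s.comp φ) with hAdef
  have hdet : algebraMap R κ A.det ≠ 0 := by
    intro h0
    have h1 : ((algebraMap R κ).mapMatrix A).det = 0 := by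
      rw [← RingHom.map_det]; exact h0
    obtain ⟨x, hx0, hx⟩ := Matrix.exists_mulVec_eq_zero_iff.mpr h1
    have h2 := mulVec_baseChange (s.comp φ) κ x
    have h3 : (A.map (algebraMap R κ)).mulVec x = 0 := hx
    rw [h3] at h2
    have h4 : (s.comp φ).baseChange κ ((TensorProduct.piScalarRight R κ κ (Fin n)).symm x) = 0 :=
      (TensorProduct.piScalarRight R κ κ (Fin n)).map_eq_zero_iff.mp h2
    set z := (TensorProduct.piScalarRight R κ κ (Fin n)).symm x with hz
    have h5 : (φ.comp (s.comp φ)).baseChange κ z = 0 := by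
      rw [LinearMap.baseChange_comp, LinearMap.comp_apply, h4, map_zero]
    have h6 : φ.comp (s.comp φ) = g₁ • φ := by
      rw [← LinearMap.comp_assoc, hφs]; rfl
    rw [h6] at h5
    have h7 : φ.baseChange κ ((algebraMap R κ g₁) • z) = 0 := by
      rw [map_smul, ← h5]
      rw [LinearMap.baseChange_smul]
      rw [algebraMap_smul]; rfl
    have h8 : (algebraMap R κ g₁) • z = 0 := hv.1 (h7.trans (map_zero _).symm)
    have h9 : z = 0 := (smul_eq_zero.mp h8).resolve_left hg₁
    apply hx0
    rw [hz] at h9
    exact (TensorProduct.piScalarRight R κ κ (Fin n)).symm.map_eq_zero_iff.mp h9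
  refine ⟨g₁ * A.det, by rw [map_mul]; exact mul_ne_zero hg₁ hdet, fun B _ _ hu => ?_⟩
  rw [map_mul] at hu
  have hu1 : IsUnit (algebraMap R B g₁) := isUnit_of_mul_isUnit_left hu
  have hu2 : IsUnit (algebraMap R B A.det) := isUnit_of_mul_isUnit_right hu
  constructor
  · have hinj : Function.Injective ((s.comp φ).baseChange B) := by
      have hdetB : IsUnit (A.map (algebraMap R B)).det := by
        have : (A.map (algebraMap R B)).det = algebraMap R B A.det := by
          rw [RingHom.map_det]; rfl
        rw [this]; exact hu2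
      have hmi : Function.Injective (A.map (algebraMap R B)).mulVec := by
        apply Function.LeftInverse.injective (g := ((A.map (algebraMap R B))⁻¹).mulVec)
        intro x
        rw [Matrix.mulVec_mulVec, Matrix.nonsing_inv_mul _ hdetB, Matrix.one_mulVec]
      intro x y hxy
      have hx := mulVec_baseChange (s.comp φ) B ((TensorProduct.piScalarRight R B B (Fin n)) x)
      have hy := mulVec_baseChange (s.comp φ) B ((TensorProduct.piScalarRight R B B (Fin n)) y)
      rw [LinearEquiv.symm_apply_apply] at hx hy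
      exact (TensorProduct.piScalarRight R B B (Fin n)).injective (hmi (by rw [← hx, ← hy, hxy]))
    intro x y hxy
    apply hinj
    rw [LinearMap.baseChange_comp, LinearMap.comp_apply, LinearMap.comp_apply, hxy]
  · intro y
    obtain ⟨w, hw⟩ := hu1
    refine ⟨s.baseChange B ((↑w⁻¹ : B) • y), ?_⟩
    rw [← LinearMap.comp_apply, ← LinearMap.baseChange_comp, hφs, LinearMap.baseChange_smul,
      LinearMap.baseChange_id]
    change g₁ • ((↑w⁻¹ : B) • y) = y
    rw [← algebraMap_smul B g₁, ← hw, smul_smul, Units.mul_inv, one_smul]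

/-- A basis adapted to a functional. -/
theorem exists_adapted [Module.Finite R E] [Module.Projective R E] (l : E →ₗ[R] R) {r : ℕ}
    (κ : Type*) [Field κ] [Algebra R κ] (hr : Module.finrank κ (κ ⊗[R] E) = r + 1)
    (hl : ∃ z : κ ⊗[R] E, l.baseChange κ z ≠ 0) :
    ∃ (v : Fin (r + 1) → E) (g : R), algebraMap R κ g ≠ 0 ∧ (∀ j, j ≠ 0 → l (v j) = 0) ∧ l (v 0) ∣ g ∧
      ∀ (B : Type v) [CommRing B] [Algebra R B], IsUnit (algebraMap R B g) →
      Function.Bijective ((Fintype.linearCombination R v).baseChange B) := by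
  classical
  have hfin : Module.Finite κ (κ ⊗[R] E) := inferInstance
  -- a first element
  obtain ⟨e₀, he₀⟩ : ∃ e₀ : E, algebraMap R κ (l e₀) ≠ 0 := by
    by_contra hcon
    push Not at hcon
    obtain ⟨z, hz⟩ := hl
    apply hz
    clear hz
    induction z with
    | zero => exact map_zero _
    | add x y hx hy => rw [map_add, hx, hy, add_zero]
    | tmul a x =>
      rw [LinearMap.baseChange_tmul]
      have : l x = l x • (1 : R) := by simp
      rw [this, ← TensorProduct.smul_tmul, Algebra.smul_def, hcon x, zero_mul, TensorProduct.zero_tmul]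
  let S : Set (κ ⊗[R] E) := Set.range fun e : E => (1 : κ) ⊗ₜ[R] e
  have hS : ⊤ ≤ Submodule.span κ S := by
    rintro z -
    induction z with
    | zero => exact zero_mem _
    | add x y hx hy => exact add_mem hx hy
    | tmul a x =>
      have : a ⊗ₜ[R] x = a • ((1 : κ) ⊗ₜ[R] x) := by rw [TensorProduct.smul_tmul', smul_eq_mul, mul_one]
      rw [this]
      exact Submodule.smul_mem _ _ (Submodule.subset_span ⟨x, rfl⟩)
  have hne : (1 : κ) ⊗ₜ[R] e₀ ≠ 0 := by
    intro h
    have h1 : l.baseChange κ ((1 : κ) ⊗ₜ[R] e₀) = 0 := by rw [h, map_zero]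
    rw [LinearMap.baseChange_tmul] at h1
    have h2 := congrArg (TensorProduct.rid R κ) h1
    rw [TensorProduct.rid_tmul, map_zero, Algebra.smul_def, mul_one] at h2
    exact he₀ h2
  have hind : LinearIndepOn κ id ({(1 : κ) ⊗ₜ[R] e₀} : Set (κ ⊗[R] E)) :=
    LinearIndepOn.singleton hne
  have hsub : ({(1 : κ) ⊗ₜ[R] e₀} : Set (κ ⊗[R] E)) ⊆ S := by
    rintro _ rfl
    exact ⟨e₀, rfl⟩
  let b := Module.Basis.extendLe hind hsub hS
  have hbfin : Fintype (hind.extend hsub) := FiniteDimensional.fintypeBasisIndex b
  have hcard : Fintype.card (hind.extend hsub) = r + 1 := by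
    rw [← Module.finrank_eq_card_basis b, hr]
  let i₀ : hind.extend hsub := ⟨(1 : κ) ⊗ₜ[R] e₀, hind.subset_extend hsub (Set.mem_singleton _)⟩
  obtain ⟨ε, hε⟩ : ∃ ε : Fin (r + 1) ≃ hind.extend hsub, ε 0 = i₀ := by
    let ε₀ : Fin (r + 1) ≃ hind.extend hsub := (Fintype.equivFinOfCardEq hcard).symm
    exact ⟨ε₀.trans (Equiv.swap (ε₀ 0) i₀), by simp⟩
  have hw : ∀ j : Fin (r + 1), ∃ e : E, (1 : κ) ⊗ₜ[R] e = (ε j : κ ⊗[R] E) := fun j =>
    hind.extend_subset hsub (ε j).2
  choose w hw using hw
  let v : Fin (r + 1) → E := fun j => if j = 0 then e₀ else l e₀ • w j - l (w j) • e₀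
  have hbij : Function.Bijective ((Fintype.linearCombination R v).baseChange κ) := by
    have hv : ∀ j, (Fintype.linearCombination R v).baseChange κ ((1 : κ) ⊗ₜ[R] Pi.single j (1 : R)) = (1 : κ) ⊗ₜ[R] v j := by
      intro j
      rw [LinearMap.baseChange_tmul, Fintype.linearCombination_apply_single, one_smul]
    have h0 : (1 : κ) ⊗ₜ[R] e₀ ∈ LinearMap.range ((Fintype.linearCombination R v).baseChange κ) :=
      ⟨_, hv 0⟩
    have hj : ∀ j, (ε j : κ ⊗[R] E) ∈ LinearMap.range ((Fintype.linearCombination R v).baseChange κ) := by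
      intro j
      by_cases h : j = 0
      · subst h
        rw [hε]
        exact h0
      · have h1 : (1 : κ) ⊗ₜ[R] v j ∈ LinearMap.range ((Fintype.linearCombination R v).baseChange κ) := ⟨_, hv j⟩
        have h2 : v j = l e₀ • w j - l (w j) • e₀ := if_neg h
        rw [h2, TensorProduct.tmul_sub, ← TensorProduct.smul_tmul, ← TensorProduct.smul_tmul, Algebra.smul_def,
          Algebra.smul_def, mul_one, mul_one] at h1
        have h3 : (algebraMap R κ (l (w j))) ⊗ₜ[R] e₀ ∈ LinearMap.range ((Fintype.linearCombination R v).baseChange κ) := by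
          have : (algebraMap R κ (l (w j))) ⊗ₜ[R] e₀ = (algebraMap R κ (l (w j))) • ((1 : κ) ⊗ₜ[R] e₀) := by
            rw [TensorProduct.smul_tmul', smul_eq_mul, mul_one]
          rw [this]
          exact Submodule.smul_mem _ _ h0
        have h4 := add_mem h1 h3
        rw [sub_add_cancel] at h4
        have h5 : (algebraMap R κ (l e₀)) ⊗ₜ[R] w j = (algebraMap R κ (l e₀)) • ((1 : κ) ⊗ₜ[R] w j) := by
          rw [TensorProduct.smul_tmul', smul_eq_mul, mul_one]
        rw [h5, hw] at h4
        have h6 := Submodule.smul_mem _ (algebraMap R κ (l e₀))⁻¹ h4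
        rwa [smul_smul, inv_mul_cancel₀ he₀, one_smul] at h6
    have hsurj : Function.Surjective ((Fintype.linearCombination R v).baseChange κ) := by
      rw [← LinearMap.range_eq_top, eq_top_iff, ← b.span_eq, Submodule.span_le]
      rintro _ ⟨i, rfl⟩
      have h1 := hj (ε.symm i)
      rw [Equiv.apply_symm_apply] at h1
      rw [Module.Basis.extendLe_apply_self]
      exact h1
    refine ⟨?_, hsurj⟩
    rw [LinearMap.injective_iff_surjective_of_finrank_eq_finrank]
    · exact hsurj
    · rw [hr, (TensorProduct.piScalarRight R κ κ (Fin (r + 1))).finrank_eq, Module.finrank_fin_fun]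
  obtain ⟨g, hg, hgB⟩ := exists_basis_of_field v κ hbij
  refine ⟨v, g * l e₀, by rw [map_mul]; exact mul_ne_zero hg he₀, fun j hj => ?_, ?_, fun B _ _ hu => hgB B ?_⟩
  · have h2 : v j = l e₀ • w j - l (w j) • e₀ := if_neg hj
    rw [h2, map_sub, map_smul, map_smul, smul_eq_mul, smul_eq_mul, mul_comm, sub_self]
  · have h2 : v 0 = e₀ := if_pos rfl
    rw [h2]
    exact Dvd.intro_left g rfl
  · rw [map_mul] at hu
    exact isUnit_of_mul_isUnit_left hu

end free

end K659.BNAlg
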