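import Groth.Agent.FunFld.K659.BNAlg2
import Groth.Agent.Picfga.KerBC

/-!
# Kernels of regular maps under base change
-/

set_option autoImplicit false

open TensorProduct

namespace K659.BNAlg

variable {R : Type*} [CommRing R] {F M : Type*} [AddCommGroup F] [Module R F] [AddCommGroup M] [Module R M]
  {d : F →ₗ[R] M} (B : Type*) [CommRing B] [Algebra R B] (h : M →ₗ[R] F) (hh : ∀ x, d (h (d x)) = d x)

include hh in
theorem subtype_baseChange_injective : Function.Injective ((LinearMap.ker d).subtype.baseChange B) := by
  apply Function.LeftInverse.injective (g := (toKer h hh).baseChange B)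
  intro y
  have h1 : (toKer h hh).comp (LinearMap.ker d).subtype = LinearMap.id := LinearMap.ext (toKer_coe h hh)
  rw [← LinearMap.comp_apply, ← LinearMap.baseChange_comp, h1, LinearMap.baseChange_id, LinearMap.id_apply]

theorem subtype_baseChange_mem (y : B ⊗[R] (LinearMap.ker d)) :
    (LinearMap.ker d).subtype.baseChange B y ∈ LinearMap.ker (d.baseChange B) := by
  rw [LinearMap.mem_ker, ← LinearMap.comp_apply, ← LinearMap.baseChange_comp]
  have : d.comp (LinearMap.ker d).subtype = 0 := LinearMap.ext fun z => LinearMap.mem_ker.mp z.2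
  rw [this, LinearMap.baseChange_zero]
  rfl

include hh in
/-- The kernel of a regular map commutes with base change. -/
theorem nonempty_kerEquiv : Nonempty ((B ⊗[R] (LinearMap.ker d)) ≃ₗ[B] LinearMap.ker (d.baseChange B)) := by
  refine ⟨LinearEquiv.ofBijective (((LinearMap.ker d).subtype.baseChange B).codRestrict _
    (subtype_baseChange_mem B)) ⟨?_, ?_⟩⟩
  · intro x y hxy
    exact subtype_baseChange_injective B h hh (congrArg Subtype.val hxy)
  · intro y
    exact ⟨(toKer h hh).baseChange B y.1, Subtype.ext (toKer_baseChange B h hh y.1 y.2)⟩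

theorem linearCombination_baseChange {E : Type*} [AddCommGroup E] [Module R E] {n : ℕ} (v : Fin n → E)
    (c : Fin n → B) : (Fintype.linearCombination R v).baseChange B
      ((TensorProduct.piScalarRight R B B (Fin n)).symm c) = ∑ j, c j • ((1 : B) ⊗ₜ[R] v j) := by
  classical
  have h1 : ((Fintype.linearCombination R v).baseChange B).comp
      (TensorProduct.piScalarRight R B B (Fin n)).symm.toLinearMap =
      Fintype.linearCombination B (fun j => (1 : B) ⊗ₜ[R] v j) := by
    refine LinearMap.pi_ext' fun j => LinearMap.ext_ring ?_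
    have h2 : (TensorProduct.piScalarRight R B B (Fin n)).symm (Pi.single j (1 : B)) =
        (1 : B) ⊗ₜ[R] (Pi.single j (1 : R) : Fin n → R) := by
      rw [LinearEquiv.symm_apply_eq, TensorProduct.piScalarRight_apply, TensorProduct.piScalarRightHom_tmul]
      funext i
      by_cases hij : i = j
      · subst hij; simp
      · simp [Pi.single_eq_of_ne hij]
    simp only [LinearMap.comp_apply, LinearEquiv.coe_coe, LinearMap.coe_single]
    rw [h2, LinearMap.baseChange_tmul, Fintype.linearCombination_apply_single, one_smul,
      Fintype.linearCombination_apply_single, one_smul]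
  exact LinearMap.congr_fun h1 c

include hh in
/-- Coefficients of elements of the kernel after base change. -/
theorem existsUnique_coeff {n : ℕ} (v : Fin n → LinearMap.ker d)
    (hv : Function.Bijective ((Fintype.linearCombination R v).baseChange B)) (x : B ⊗[R] F)
    (hx : d.baseChange B x = 0) : ∃! c : Fin n → B, x = ∑ j, c j • ((1 : B) ⊗ₜ[R] (v j : F)) := by
  have key : ∀ c : Fin n → B, (LinearMap.ker d).subtype.baseChange B
      ((Fintype.linearCombination R v).baseChange B ((TensorProduct.piScalarRight R B B (Fin n)).symm c)) =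
      ∑ j, c j • ((1 : B) ⊗ₜ[R] (v j : F)) := by
    intro c
    rw [linearCombination_baseChange, map_sum]
    refine Finset.sum_congr rfl fun j _ => ?_
    rw [map_smul, LinearMap.baseChange_tmul]
    rfl
  obtain ⟨z, hz⟩ := hv.2 ((toKer h hh).baseChange B x)
  refine ⟨TensorProduct.piScalarRight R B B (Fin n) z, ?_, fun c hc => ?_⟩
  · change x = _
    rw [← key, LinearEquiv.symm_apply_apply, hz, toKer_baseChange B h hh x hx]
  · apply (TensorProduct.piScalarRight R B B (Fin n)).symm.injective
    rw [LinearEquiv.symm_apply_apply]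
    apply hv.1
    apply subtype_baseChange_injective B h hh
    rw [key, hz, toKer_baseChange B h hh x hx]
    exact hc.symm

section bc

variable {B' : Type*} [CommRing B'] [Algebra R B'] {F' M' : Type*}
  [AddCommGroup F'] [Module B' F'] [Module R F'] [IsScalarTower R B' F']
  [AddCommGroup M'] [Module B' M'] [Module R M'] [IsScalarTower R B' M']
  {p : F →ₗ[R] F'} {b : M →ₗ[R] M'} (hp : IsBaseChange B' p) (hb : IsBaseChange B' b)
  {d' : F' →ₗ[B'] M'} (hd : ∀ x, d' (p x) = b (d x))

include hp hb hd hh in
theorem existsUnique_coeff' {n : ℕ} (v : Fin n → LinearMap.ker d)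
    (hv : Function.Bijective ((Fintype.linearCombination R v).baseChange B')) (x : F')
    (hx : d' x = 0) : ∃! c : Fin n → B', x = ∑ j, c j • p (v j : F) := by
  obtain ⟨z, rfl⟩ := hp.equiv.surjective x
  have hz : d.baseChange B' z = 0 := by
    rw [← LinearMap.mem_ker, ← Groth.Agent.Picfga.KerBC.mem_ker_iff hp hb hd]
    exact hx
  have key : ∀ c : Fin n → B', hp.equiv z = ∑ j, c j • p (v j : F) ↔
      z = ∑ j, c j • ((1 : B') ⊗ₜ[R] (v j : F)) := by
    intro c
    rw [← hp.equiv.injective.eq_iff, map_sum]
    simp_rw [map_smul, IsBaseChange.equiv_tmul, one_smul]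
  simp_rw [key]
  exact existsUnique_coeff B' h hh v hv z hz

include hp hb hd hh in
/-- Elements of the kernel after base change are combinations of elements of the kernel. -/
theorem exists_combination (x : F') (hx : d' x = 0) :
    x ∈ Submodule.span B' (Set.range fun v : LinearMap.ker d => p (v : F)) := by
  obtain ⟨z, rfl⟩ := hp.equiv.surjective x
  have hz : d.baseChange B' z = 0 := by
    rw [← LinearMap.mem_ker, ← Groth.Agent.Picfga.KerBC.mem_ker_iff hp hb hd]
    exact hx
  rw [← toKer_baseChange B' h hh z hz]
  generalize (toKer h hh).baseChange B' z = w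
  induction w with
  | zero => rw [map_zero, map_zero]; exact zero_mem _
  | add x y hx hy => rw [map_add, map_add]; exact add_mem hx hy
  | tmul a x =>
    rw [LinearMap.baseChange_tmul, IsBaseChange.equiv_tmul]
    exact Submodule.smul_mem _ _ (Submodule.subset_span ⟨x, rfl⟩)

end bc

end K659.BNAlg
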