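import Groth.Agent.FunFld.K659.BNEnd
import Mathlib.Algebra.Field.ULift
import Mathlib.Algebra.Algebra.Basic

/-!
# Change of universes
-/

set_option autoImplicit false
universe v w

open CategoryTheory AlgebraicGeometry
open Groth.Agent

namespace K659.BNAll

theorem isAlgClosed_of_ringEquiv {k : Type v} {k' : Type w} [Field k] [IsAlgClosed k] [Field k'] (σ : k ≃+* k') :
    IsAlgClosed k' := by
  apply IsAlgClosed.of_exists_root
  intro p _ hp
  have h1 : (p.map σ.symm.toRingHom).degree ≠ 0 := by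
    rw [Polynomial.degree_map]
    exact hp.degree_pos.ne'
  obtain ⟨x, hx⟩ := IsAlgClosed.exists_root _ h1
  refine ⟨σ x, ?_⟩
  apply σ.symm.injective
  rw [map_zero]
  have h2 : Polynomial.eval x (p.map σ.symm.toRingHom) = 0 := hx
  rw [Polynomial.eval_map] at h2
  have h3 := Polynomial.hom_eval₂ p (RingHom.id k') σ.symm.toRingHom (σ x)
  rw [Polynomial.eval₂_id] at h3
  have h4 : σ.symm.toRingHom (σ x) = x := σ.symm_apply_apply x
  rw [h4, RingHom.comp_id, h2] at h3
  exact h3

theorem transfer (k : Type v) [Field k] [IsAlgClosed k] [CharZero k] (K : Type w) [Field K] [Algebra k K]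
    (hK : FunFld.IsFunctionField k K) (g r d : ℕ) (hg : FunFld.genus k K = g)
    (hrho : ((r : ℤ) + 1) * ((g : ℤ) + r - d) ≤ g)
    (hB : ∀ (k' : Type (max v w)) [Field k'] [IsAlgClosed k'] [CharZero k'], BNEnd.NoBundle k') :
    ∃ D : FunFld.Divisor k K, D.deg = d ∧ r + 1 ≤ FunFld.ell D := by
  let σ : k ≃+* ULift.{w} k := ULift.ringEquiv.symm
  let e : K ≃+* ULift.{v} K := ULift.ringEquiv.symm
  haveI : IsAlgClosed (ULift.{w} k) := isAlgClosed_of_ringEquiv σ
  haveI : CharZero (ULift.{w} k) := (RingHom.charZero_iff (σ : k →+* ULift.{w} k).injective).mp inferInstance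
  letI alg : Algebra (ULift.{w} k) (ULift.{v} K) :=
    ((e : K →+* ULift.{v} K).comp ((algebraMap k K).comp (σ.symm : ULift.{w} k →+* k))).toAlgebra
  have h : ∀ c, e (algebraMap k K c) = algebraMap (ULift.{w} k) (ULift.{v} K) (σ c) := fun c => rfl
  have hK' := BNTrans.isFunctionField σ e h hK
  have hg' : FunFld.genus (ULift.{w} k) (ULift.{v} K) = g := by rw [BNTrans.genus_eq σ e h hK, hg]
  obtain ⟨D', hD, hD'⟩ := BNEnd.main (hB (ULift.{w} k)) hK' g r d hg' hrho
  obtain ⟨D, rfl⟩ := (BNTrans.dvEquiv σ e h).surjective D'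
  rw [BNTrans.deg_eq σ e h hK] at hD
  rw [BNTrans.ell_eq] at hD'
  exact ⟨D, hD, hD'⟩

end K659.BNAll
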