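import Groth.Agent.FunFld.K659.BNSec
import Mathlib.AlgebraicGeometry.AffineSpace

/-!
# The scheme of divisors in a family of linear systems, away from a section, is an affine space

`nonempty_iso`: `T` affine over `J`, with an adapted universal basis of the sections of the module classified by
`T ⟶ J`; `H°` the scheme of divisors away from `σ`. Then `H° ×_J T` is the affine space of dimension `r` over `T`.
-/

set_option autoImplicit false
set_option backward.isDefEq.respectTransparency false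
universe u

open CategoryTheory CategoryTheory.Limits AlgebraicGeometry Opposite TopologicalSpace
open Groth.Agent Groth.Agent.Fdesc.LocGen Groth.Agent.Picfga Groth.Agent.Picfga.P1Def Groth.Agent.Picfga.PicGood
  Groth.Agent.Picfga.ZeroDef Groth.Agent.Picfga.ZeroDiv Groth.Agent.Picfga.ZeroFin Groth.Agent.Picfga.HilbPull
  Groth.Agent.Grpsch Groth.Agent.Grpsch.PicGrp Groth.Agent.Fga.JacFactor Groth.Agent.Fga.ZeroClass
  K659.BNAff K659.BNLoc K659.BNSec

namespace K659.BNBundle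

section gen

variable {X S : Scheme.{u}} {f : X ⟶ S}

theorem XTmap_appTop_fn {T T' : Over S} (q : T' ⟶ T) (c : Γ(T.left, ⊤)) :
    (PicF.XTmap f q).appTop (fn f T c) = fn f T' (q.left.appTop c) := by
  change (PicF.XTmap f q).appTop ((PicF.XTproj f T).appTop c) = (PicF.XTproj f T').appTop (q.left.appTop c)
  rw [← CommRingCat.comp_apply, ← CommRingCat.comp_apply, ← Scheme.Hom.comp_appTop, ← Scheme.Hom.comp_appTop,
    Fga.RigGrp.XTmap_XTproj]

theorem pbTop_add {T T' : Over S} (q : T' ⟶ T) (M : (PicF.XT f T).Modules) (s s' : Γ(M, ⊤)) :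
    pbTop f q M (s + s') = pbTop f q M s + pbTop f q M s' := pullSec_add _ _ _

/-- `pbTop` as a homomorphism. -/
noncomputable def pbHom {T T' : Over S} (q : T' ⟶ T) (M : (PicF.XT f T).Modules) : Γ(M, ⊤) →+ Γ(pb f q M, ⊤) :=
  AddMonoidHom.mk' (pbTop f q M) (pbTop_add q M)

theorem pbTop_fn_smul {T T' : Over S} (q : T' ⟶ T) (M : (PicF.XT f T).Modules) (c : Γ(T.left, ⊤)) (s : Γ(M, ⊤)) :
    pbTop f q M (fn f T c • s) = fn f T' (q.left.appTop c) • pbTop f q M s := by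
  refine (pullSec_smul (PicF.XTmap f q) (fn f T c) s).trans ?_
  congr 1
  exact XTmap_appTop_fn q c

/-- The section with coordinates `y` in a basis, with first coordinate one. -/
noncomputable def sy {T : Over S} {M : (PicF.XT f T).Modules} {r : ℕ} (v : Fin (r + 1) → Γ(M, ⊤)) {T' : Over S}
    (g : T' ⟶ T) (y : Fin r → Γ(T'.left, ⊤)) : Γ(pb f g M, ⊤) :=
  pbTop f g M (v 0) + ∑ j : Fin r, fn f T' (y j) • pbTop f g M (v j.succ)

theorem fn_one (T : Over S) : fn f T 1 = 1 := map_one _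

theorem sy_eq {T : Over S} {M : (PicF.XT f T).Modules} {r : ℕ} (v : Fin (r + 1) → Γ(M, ⊤)) {T' : Over S}
    (g : T' ⟶ T) (y : Fin r → Γ(T'.left, ⊤)) :
    sy v g y = ∑ j, fn f T' ((Fin.cons 1 y : Fin (r + 1) → Γ(T'.left, ⊤)) j) • pbTop f g M (v j) := by
  rw [Fin.sum_univ_succ, Fin.cons_zero, fn_one, one_smul]
  simp only [Fin.cons_succ]
  rfl

theorem exists_sy_pull {T : Over S} {M : (PicF.XT f T).Modules} {r : ℕ} (v : Fin (r + 1) → Γ(M, ⊤)) {T' T'' : Over S}
    (q : T'' ⟶ T') (g : T' ⟶ T) (y : Fin r → Γ(T'.left, ⊤)) :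
    ∃ φ : pb f q (pb f g M) ≅ pb f (q ≫ g) M,
      φ.hom.app ⊤ (pbTop f q _ (sy v g y)) = sy v (q ≫ g) (fun j => q.left.appTop (y j)) := by
  obtain ⟨φ, hφ⟩ := exists_pbComp f q g (q ≫ g) rfl M
  refine ⟨φ, ?_⟩
  have h1 : pbTop f q _ (sy v g y) = pbTop f q _ (pbTop f g M (v 0)) +
      ∑ j : Fin r, fn f T'' (q.left.appTop (y j)) • pbTop f q _ (pbTop f g M (v j.succ)) := by
    have h2 : pbTop f q _ (sy v g y) = pbHom q _ (pbTop f g M (v 0) + ∑ j : Fin r, fn f T' (y j) • pbTop f g M (v j.succ)) := rfl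
    rw [h2, map_add, map_sum]
    congr 1
    refine Finset.sum_congr rfl fun j _ => ?_
    exact pbTop_fn_smul q _ _ _
  rw [h1, map_add, map_sum, hφ]
  unfold sy
  congr 1
  refine Finset.sum_congr rfl fun j _ => ?_
  rw [Scheme.Modules.Hom.app_smul, hφ]

/-- Zero ideals of the sections `sy` under pull back. -/
theorem zero_pull {T : Over S} {M : (PicF.XT f T).Modules} (hM : PicF.IsInvertible M) {r : ℕ}
    (v : Fin (r + 1) → Γ(M, ⊤)) {T' T'' : Over S} (q : T'' ⟶ T') (g : T' ⟶ T) (y : Fin r → Γ(T'.left, ⊤))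
    {I : (PicF.XT f T').IdealSheafData} (hI : IsZeroIdeal (pb f g M) (sy v g y) I) :
    IsZeroIdeal (pb f (q ≫ g) M) (sy v (q ≫ g) (fun j => q.left.appTop (y j))) (HilbD.pull f q I) := by
  obtain ⟨φ, hφ⟩ := exists_sy_pull v q g y
  rw [← hφ, pull_eq_comap]
  exact isZeroIdeal_of_iso φ (isZeroIdeal_pullback (PicF.XTmap f q) (isInvertible_pullback _ hM) hI)

end gen

section main

variable {k : Type u} [Field k] {X : Scheme.{u}} {f : X ⟶ Spec (CommRingCat.of k)}
  (hX : Curve.IsSmoothProperCurve k X f)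
  (σ : Spec (CommRingCat.of k) ⟶ X) (hσ : σ ≫ f = 𝟙 (Spec (CommRingCat.of k)))
  {T : Over (Spec (CommRingCat.of k))} {M : (PicF.XT f T).Modules} (hM : PicF.IsInvertible M) {r : ℕ}
  (v : Fin (r + 1) → Γ(M, ⊤)) {e : Γ((Scheme.Modules.pullback (PicF.secT f σ hσ T)).obj M, ⊤)} (he : IsGen e)
  {b : Γ(T.left, ⊤)} (hb : IsUnit b) (hv0 : sg f σ hσ T M (v 0) = b • e)
  (hvj : ∀ j : Fin r, sg f σ hσ T M (v j.succ) = 0)
  (hB : ∀ (T' : Over (Spec (CommRingCat.of k))) (g : T' ⟶ T), IsAffine T'.left →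
    ∀ m : Γ(pb f g M, ⊤), ∃! a : Fin (r + 1) → Γ(T'.left, ⊤), m = ∑ j, fn f T' (a j) • pbTop f g M (v j))

include he hv0 hvj in
/-- The sections `sy` along `σ`. -/
theorem sg_sum {T' : Over (Spec (CommRingCat.of k))} (g : T' ⟶ T) :
    ∃ e' : Γ((Scheme.Modules.pullback (PicF.secT f σ hσ T')).obj (pb f g M), ⊤), IsGen e' ∧
      ∀ a : Fin (r + 1) → Γ(T'.left, ⊤), sg f σ hσ T' (pb f g M) (∑ j, fn f T' (a j) • pbTop f g M (v j)) =
        (a 0 * g.left.appTop b) • e' := by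
  obtain ⟨e', he', hee⟩ := exists_epb f σ hσ g M he
  refine ⟨e', he', fun a => ?_⟩
  let sgH : Γ(pb f g M, ⊤) →+ Γ((Scheme.Modules.pullback (PicF.secT f σ hσ T')).obj (pb f g M), ⊤) :=
    AddMonoidHom.mk' (sg f σ hσ T' (pb f g M)) (sg_add f σ hσ T' (pb f g M))
  have h1 : sg f σ hσ T' (pb f g M) (∑ j, fn f T' (a j) • pbTop f g M (v j)) =
      ∑ j, sg f σ hσ T' (pb f g M) (fn f T' (a j) • pbTop f g M (v j)) := map_sum sgH _ _
  rw [h1, Fin.sum_univ_succ, Finset.sum_eq_zero, add_zero, sg_smul, hee (v 0) b hv0, smul_smul]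
  intro j _
  rw [sg_smul, hee (v j.succ) 0 (by rw [hvj, zero_smul]), map_zero, zero_smul, smul_zero]

include he hv0 hvj in
theorem sg_sy {T' : Over (Spec (CommRingCat.of k))} (g : T' ⟶ T) :
    ∃ e' : Γ((Scheme.Modules.pullback (PicF.secT f σ hσ T')).obj (pb f g M), ⊤), IsGen e' ∧
      ∀ y : Fin r → Γ(T'.left, ⊤), sg f σ hσ T' (pb f g M) (sy v g y) = (g.left.appTop b) • e' := by
  obtain ⟨e', he', h⟩ := sg_sum σ hσ v he hv0 hvj g
  refine ⟨e', he', fun y => ?_⟩
  rw [sy_eq, h, Fin.cons_zero, one_mul]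

include hB in
/-- Uniqueness of the coordinates. -/
theorem sy_injective {T' : Over (Spec (CommRingCat.of k))} (g : T' ⟶ T) (hT' : IsAffine T'.left)
    {y y' : Fin r → Γ(T'.left, ⊤)} (h : sy v g y = sy v g y') : y = y' := by
  obtain ⟨a, ha, hu⟩ := hB T' g hT' (sy v g y)
  have h1 := hu _ (sy_eq v g y)
  have h2 := hu _ (h.trans (sy_eq v g y'))
  have h3 := h1.trans h2.symm
  exact (Fin.cons_injective2 h3).2

include hM he hv0 hvj hB in
/-- The coordinates of a divisor. -/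
theorem exists_coeff {T' : Over (Spec (CommRingCat.of k))} (g : T' ⟶ T) (hT' : IsAffine T'.left)
    (s : Γ(pb f g M, ⊤)) {I : (PicF.XT f T').IdealSheafData} (hI : IsZeroIdeal (pb f g M) s I)
    (hoff : off f σ hσ T' I = ⊤) :
    ∃ y : Fin r → Γ(T'.left, ⊤), IsZeroIdeal (pb f g M) (sy v g y) I := by
  obtain ⟨a, ha, -⟩ := hB T' g hT' s
  have ha' : s = ∑ j, fn f T' (a j) • pbTop f g M (v j) := ha
  obtain ⟨e', he', h⟩ := sg_sum σ hσ v he hv0 hvj g
  have h1 := h a
  rw [← ha'] at h1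
  have h2 := isUnit_of_off_eq_top f σ hσ T' (isInvertible_pullback _ hM) hI he' h1 hoff
  have h3 : IsUnit (a 0) := isUnit_of_mul_isUnit_left h2
  obtain ⟨w, hw⟩ := h3
  have hw' : IsUnit (fn f T' (↑w⁻¹ : Γ(T'.left, ⊤))) := (w⁻¹).isUnit.map (PicF.XTproj f T').appTop.hom
  have h4 := isZeroIdeal_unit_smul hw' hI
  refine ⟨fun j => (↑w⁻¹ : Γ(T'.left, ⊤)) * a j.succ, ?_⟩
  have h5 : sy v g (fun j => (↑w⁻¹ : Γ(T'.left, ⊤)) * a j.succ) = fn f T' (↑w⁻¹ : Γ(T'.left, ⊤)) • s := by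
    have hfm : ∀ x y : Γ(T'.left, ⊤), fn f T' (x * y) = fn f T' x * fn f T' y := fun x y => map_mul _ _ _
    rw [ha', Fin.sum_univ_succ, smul_add, smul_smul, ← hfm, ← hw, Units.inv_mul, fn_one, one_smul, Finset.smul_sum]
    unfold sy
    congr 1
    refine Finset.sum_congr rfl fun j _ => ?_
    rw [hfm, mul_smul]
  rw [h5]
  exact h4

include hX hM he hb hv0 hvj hB in
/-- The coordinates are determined by the divisor. -/
theorem coeff_unique {T' : Over (Spec (CommRingCat.of k))} (g : T' ⟶ T) (hT' : IsAffine T'.left)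
    {y y' : Fin r → Γ(T'.left, ⊤)} {I : (PicF.XT f T').IdealSheafData} (hE : BlowUp.IsEffCartierIdeal I)
    (h : IsZeroIdeal (pb f g M) (sy v g y) I) (h' : IsZeroIdeal (pb f g M) (sy v g y') I) : y = y' := by
  apply sy_injective v hB g hT'
  obtain ⟨e', he', hs⟩ := sg_sy σ hσ v he hv0 hvj g
  exact eq_of_isZeroIdeal hX σ hσ T' (isInvertible_pullback _ hM) h h' hE he' (hb.map g.left.appTop.hom) (hs y) (hs y')

include hX hM he hb hv0 hvj in
/-- The divisor with given coordinates. -/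
theorem exists_zero [IsSepClosed k] {T' : Over (Spec (CommRingCat.of k))} (g : T' ⟶ T)
    (y : Fin r → Γ(T'.left, ⊤)) :
    ∃ I : (PicF.XT f T').IdealSheafData, IsZeroIdeal (pb f g M) (sy v g y) I ∧
      Mor2.IsFinLocFree (I.subschemeι ≫ PicF.XTproj f T') ∧ off f σ hσ T' I = ⊤ := by
  obtain ⟨I, hI⟩ := exists_zeroIdeal (isInvertible_pullback (PicF.XTmap f g) hM) (sy v g y)
  obtain ⟨e', he', hs⟩ := sg_sy σ hσ v he hv0 hvj g
  have hu : IsUnit (g.left.appTop b) := hb.map g.left.appTop.hom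
  refine ⟨I, hI, isFinLocFree_of_isZeroIdeal hX T' _ (isInvertible_pullback _ hM) (sy v g y) (fun t h0 => ?_) I hI, ?_⟩
  · obtain ⟨e'', he'', hee⟩ := exists_epb f σ hσ (ptHom T' t) (pb f g M) he'
    have h1 := hee (sy v g y) _ (hs y)
    rw [h0, sg_zero] at h1
    have h2 : (ptHom T' t).left.appTop (g.left.appTop b) = 0 := by
      apply he''.ext
      rw [← h1, zero_smul]
    have h3 : IsUnit ((ptHom T' t).left.appTop (g.left.appTop b)) := hu.map (ptHom T' t).left.appTop.hom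
    rw [h2] at h3
    have h4 := (isField_pt t).nontrivial
    exact not_isUnit_zero h3
  · rw [off_eq_basicOpen f σ hσ T' (isInvertible_pullback _ hM) hI he' (hs y)]
    exact Scheme.basicOpen_of_isUnit _ hu

end main

end K659.BNBundle
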