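import Groth.Agent.FunFld.K659.BNBundle

/-!
# The scheme of divisors in a family of linear systems, away from a section, is an affine space

`nonempty_iso`: `T` affine over `J`, with an adapted universal basis of the sections of the module classified by
`T ⟶ J`; `H°` the scheme of divisors away from `σ`. Then `H° ×_J T` is the affine space of dimension `r` over `T`.
-/

set_option autoImplicit false
set_option backward.isDefEq.respectTransparency false
universe u

open CategoryTheory CategoryTheory.Limits AlgebraicGeometry Opposite TopologicalSpace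
open Groth.Agent Groth.Agent.Fdesc.LocGen Groth.Agent.Picfga Groth.Agent.Picfga.P1Def Groth.Agent.Picfga.PicGood
  Groth.Agent.Picfga.ZeroDef Groth.Agent.Picfga.ZeroDiv Groth.Agent.Picfga.ZeroFin Groth.Agent.Picfga.HilbPull
  Groth.Agent.Grpsch Groth.Agent.Grpsch.PicGrp Groth.Agent.Fga.JacFactor Groth.Agent.Fga.ZeroClass
  K659.BNAff K659.BNLoc K659.BNSec

namespace K659.BNBundle

theorem homOfVector_coord {Y B : Scheme.{u}} {r : ℕ} (g : Y ⟶ B) (y : Fin r → Γ(Y, ⊤)) (i : Fin r) :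
    (AffineSpace.homOfVector g (fun i : ULift.{u} (Fin r) => y i.down)).appTop
      (AffineSpace.coord B (ULift.up i)) = y i :=
  AffineSpace.homOfVector_appTop_coord g _ _

variable {k : Type u} [Field k] {X : Scheme.{u}} {f : X ⟶ Spec (CommRingCat.of k)}
  (hX : Curve.IsSmoothProperCurve k X f)
  (σ : Spec (CommRingCat.of k) ⟶ X) (hσ : σ ≫ f = 𝟙 (Spec (CommRingCat.of k)))
  {T : Over (Spec (CommRingCat.of k))} {M : (PicF.XT f T).Modules} (hM : PicF.IsInvertible M) {r : ℕ}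
  (v : Fin (r + 1) → Γ(M, ⊤)) {e : Γ((Scheme.Modules.pullback (PicF.secT f σ hσ T)).obj M, ⊤)} (he : IsGen e)
  {b : Γ(T.left, ⊤)} (hb : IsUnit b) (hv0 : sg f σ hσ T M (v 0) = b • e)
  (hvj : ∀ j : Fin r, sg f σ hσ T M (v j.succ) = 0)
  (hB : ∀ (T' : Over (Spec (CommRingCat.of k))) (g : T' ⟶ T), IsAffine T'.left →
    ∀ m : Γ(pb f g M, ⊤), ∃! a : Fin (r + 1) → Γ(T'.left, ⊤), m = ∑ j, fn f T' (a j) • pbTop f g M (v j))

include hX hM he hb hv0 hvj hB in
/-- The scheme of divisors away from `σ` in the family is an affine space. -/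
theorem nonempty_iso [IsSepClosed k] [SmoothOfRelativeDimension 1 f] [IsSeparated f] (D : ℕ)
    (hdeg : ∀ (T' : Over (Spec (CommRingCat.of k))) (g : T' ⟶ T) (s : Γ(pb f g M, ⊤))
      (I : (PicF.XT f T').IdealSheafData), IsZeroIdeal (pb f g M) s I →
      Mor2.IsFinLocFree (I.subschemeι ≫ PicF.XTproj f T') →
      Mor2.IsFinLocFreeOfDeg D (I.subschemeι ≫ PicF.XTproj f T'))
    (H : Over (Spec (CommRingCat.of k))) (Z : HilbD.Obj f D H) (hZ : HilbD.IsUniversal f D H Z)
    (J : Over (Spec (CommRingCat.of k))) (ζ : Pic (PicF.XT f J))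
    (hJ : ∀ (T' : Over (Spec (CommRingCat.of k))) (a b : T' ⟶ J),
      pull (PicF.XTmap f a) ζ = pull (PicF.XTmap f b) ζ → a = b)
    (a : Over.mk ((off f σ hσ H Z.1).ι ≫ H.hom) ⟶ J)
    (hE : BlowUp.IsEffCartierIdeal (HilbD.pull f (OverRep.res H (off f σ hσ H Z.1)) Z.1))
    (ha : pull (PicF.XTmap f a) ζ = (dcl _ hE)⁻¹)
    (τ : T ⟶ J) (hτ : pull (PicF.XTmap f τ) ζ = mk M hM) [IsAffine T.left] [IsAffine (pullback a.left τ.left)] :
    ∃ φ : 𝔸(ULift.{u} (Fin r); T.left) ≅ pullback a.left τ.left,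
      φ.hom ≫ pullback.snd a.left τ.left = (𝔸(ULift.{u} (Fin r); T.left) ↘ T.left) := by
  -- the pull back of an effective Cartier divisor finite locally free over the base
  have hEff : ∀ (T' : Over (Spec (CommRingCat.of k))) (I : (PicF.XT f T').IdealSheafData),
      Mor2.IsFinLocFree (I.subschemeι ≫ PicF.XTproj f T') → BlowUp.IsEffCartierIdeal I := by
    intro T' I h
    have := Fga.JacSum.smoothOfRelDim_XTproj f T'
    exact ((Groth.Agent.S1184.result (PicF.XTproj f T') I).2 h).1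
  let W : H.left.Opens := off f σ hσ H Z.1
  let Ho : Over (Spec (CommRingCat.of k)) := Over.mk (W.ι ≫ H.hom)
  let j : Ho ⟶ H := OverRep.res H W
  have hj : ∀ {T' : Over (Spec (CommRingCat.of k))} (x y : T' ⟶ Ho),
      HilbD.pull f (x ≫ j) Z.1 = HilbD.pull f (y ≫ j) Z.1 → x = y := by
    intro T' x y hxy
    have h1 := hom_ext_of_isUniversal hZ hxy
    ext1
    rw [← cancel_mono W.ι]
    exact congrArg (fun z => z.left) h1
  have ha' : ∀ {T' : Over (Spec (CommRingCat.of k))} (x : T' ⟶ Ho) (hE' : BlowUp.IsEffCartierIdeal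
      (HilbD.pull f (x ≫ j) Z.1)), pull (PicF.XTmap f (x ≫ a)) ζ = (dcl _ hE')⁻¹ := by
    intro T' x hE'
    rw [Fga.RigGrp.XTmap_comp, PicGrp.pull_comp, ha, map_inv, dcl, dcl, pull_mk, inv_inj, mk_eq_iff]
    have h1 : (HilbD.pull f (OverRep.res H (off f σ hσ H Z.1)) Z.1).comap (PicF.XTmap f x) =
        HilbD.pull f (x ≫ j) Z.1 := by
      rw [← pull_eq_comap, ← HilbPull.pull_comp]
    have h2 := Dix.IdealModCartier.pullback_idealMod (PicF.XTmap f x) hE (by rw [h1]; exact hE')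
    rwa [h1] at h2
  have hτ' : ∀ {T' : Over (Spec (CommRingCat.of k))} (g : T' ⟶ T),
      pull (PicF.XTmap f (g ≫ τ)) ζ = mk (pb f g M) (isInvertible_pullback _ hM) := by
    intro T' g
    rw [Fga.RigGrp.XTmap_comp, PicGrp.pull_comp, hτ, pull_mk]
  -- the point with given coordinates
  have hpt : ∀ {T' : Over (Spec (CommRingCat.of k))} (g : T' ⟶ T) (y : Fin r → Γ(T'.left, ⊤)),
      ∃ x : T' ⟶ Ho, IsZeroIdeal (pb f g M) (sy v g y) (HilbD.pull f (x ≫ j) Z.1) ∧ x ≫ a = g ≫ τ := by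
    intro T' g y
    obtain ⟨I, hI, hfl, hoff⟩ := exists_zero hX σ hσ hM v he hb hv0 hvj g y
    obtain ⟨x₀, hx₀, -⟩ := hZ T' ⟨I, hdeg T' g _ I hI hfl⟩
    change HilbD.pull f x₀ Z.1 = I at hx₀
    have h1 : Set.range x₀.left ⊆ W := by
      rintro _ ⟨t, rfl⟩
      have h2 := preimage_off f σ hσ x₀ Z.1
      rw [hx₀, hoff] at h2
      have h3 : t ∈ x₀.left ⁻¹ᵁ off f σ hσ H Z.1 := by rw [h2]; trivial
      exact h3
    let x : T' ⟶ Ho := Over.homMk (IsOpenImmersion.lift W.ι x₀.left (by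
      rintro _ ⟨t, rfl⟩
      exact ⟨⟨x₀.left t, h1 ⟨t, rfl⟩⟩, rfl⟩)) (by
      change IsOpenImmersion.lift W.ι x₀.left _ ≫ W.ι ≫ H.hom = _
      rw [IsOpenImmersion.lift_fac_assoc, Over.w])
    have hx : x ≫ j = x₀ := by
      ext1
      exact IsOpenImmersion.lift_fac _ _ _
    refine ⟨x, by rw [hx, hx₀]; exact hI, ?_⟩
    apply hJ
    have hE' : BlowUp.IsEffCartierIdeal (HilbD.pull f (x ≫ j) Z.1) := by
      rw [hx, hx₀]; exact hEff T' I hfl
    rw [ha' x hE', hτ']
    exact (mk_eq_inv_dcl (isInvertible_pullback _ hM) (sy v g y) (by rw [hx, hx₀]; exact hI) hE').symm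
  -- the fibre product
  let U : Over (Spec (CommRingCat.of k)) := Over.mk (pullback.snd a.left τ.left ≫ T.hom)
  let p₂ : U ⟶ T := Over.homMk (pullback.snd a.left τ.left) rfl
  let p₁ : U ⟶ Ho := Over.homMk (pullback.fst a.left τ.left) (by
    change pullback.fst a.left τ.left ≫ Ho.hom = pullback.snd a.left τ.left ≫ T.hom
    rw [← Over.w a, ← Over.w τ, pullback.condition_assoc])
  have hp : p₁ ≫ a = p₂ ≫ τ := by
    ext1
    exact pullback.condition
  have hUaff : IsAffine U.left := inferInstanceAs (IsAffine (pullback a.left τ.left))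
  -- the affine space
  let A : Over (Spec (CommRingCat.of k)) := Over.mk ((𝔸(ULift.{u} (Fin r); T.left) ↘ T.left) ≫ T.hom)
  let π : A ⟶ T := Over.homMk (𝔸(ULift.{u} (Fin r); T.left) ↘ T.left) rfl
  have hAaff : IsAffine A.left := inferInstanceAs (IsAffine 𝔸(ULift.{u} (Fin r); T.left))
  let yA : Fin r → Γ(A.left, ⊤) := fun i => AffineSpace.coord T.left (ULift.up i)
  -- the two maps
  obtain ⟨xA, hxA, hxA'⟩ := hpt π yA
  let φ : A ⟶ U := Over.homMk (pullback.lift xA.left π.left (congrArg (fun z => z.left) hxA')) (by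
    change pullback.lift xA.left π.left _ ≫ pullback.snd a.left τ.left ≫ T.hom = A.hom
    rw [pullback.lift_snd_assoc]
    exact Over.w π)
  have hφ₁ : φ ≫ p₁ = xA := by ext1; exact pullback.lift_fst _ _ _
  have hφ₂ : φ ≫ p₂ = π := by ext1; exact pullback.lift_snd _ _ _
  -- coordinates on the fibre product
  have hZfl : ∀ {T' : Over (Spec (CommRingCat.of k))} (x : T' ⟶ H),
      Mor2.IsFinLocFree ((HilbD.pull f x Z.1).subschemeι ≫ PicF.XTproj f T') :=
    fun x => (isFinLocFreeOfDeg_pull f x Z.2).1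
  have hEU : BlowUp.IsEffCartierIdeal (HilbD.pull f (p₁ ≫ j) Z.1) := hEff U _ (hZfl (p₁ ≫ j))
  obtain ⟨yU, hyU⟩ : ∃ y : Fin r → Γ(U.left, ⊤), IsZeroIdeal (pb f p₂ M) (sy v p₂ y) (HilbD.pull f (p₁ ≫ j) Z.1) := by
    obtain ⟨N, hN, s, hs⟩ := exists_section_of_isEffCartier hEU
    have h1 := mk_eq_inv_dcl hN s hs hEU
    rw [← ha' p₁ hEU, hp, hτ', mk_eq_iff] at h1
    obtain ⟨θ⟩ := h1
    refine exists_coeff σ hσ hM v he hv0 hvj hB p₂ hUaff _ (isZeroIdeal_of_iso θ hs) ?_
    rw [HilbPull.pull_comp, ← preimage_off]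
    have h2 := preimage_off f σ hσ j Z.1
    rw [← h2]
    have h3 : j.left ⁻¹ᵁ off f σ hσ H Z.1 = ⊤ := by
      ext t
      exact iff_of_true t.2 trivial
    rw [h3]
    rfl
  let ψ : U ⟶ A := Over.homMk (AffineSpace.homOfVector p₂.left (fun i => yU i.down)) (by
    change AffineSpace.homOfVector p₂.left _ ≫ (𝔸(ULift.{u} (Fin r); T.left) ↘ T.left) ≫ T.hom = U.hom
    rw [AffineSpace.homOfVector_over_assoc]
    exact Over.w p₂)
  have hψ : ψ ≫ π = p₂ := by
    ext1
    exact AffineSpace.homOfVector_over _ _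
  have hψy : (fun i => ψ.left.appTop (yA i)) = yU := by
    funext i
    exact homOfVector_coord p₂.left yU i
  have e1 : ψ ≫ φ = 𝟙 U := by
    have h1 : (ψ ≫ φ) ≫ p₂ = 𝟙 U ≫ p₂ := by rw [Category.assoc, hφ₂, hψ, Category.id_comp]
    have h2 : (ψ ≫ φ) ≫ p₁ = 𝟙 U ≫ p₁ := by
      rw [Category.assoc, hφ₁, Category.id_comp]
      apply hj
      have h3 := zero_pull hM v ψ π yA hxA
      rw [hψy] at h3
      rw [Category.assoc, HilbPull.pull_comp]
      have h4 : ∀ (g g' : U ⟶ T) (_ : g = g') (A B : (PicF.XT f U).IdealSheafData),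
          IsZeroIdeal (pb f g M) (sy v g yU) A → IsZeroIdeal (pb f g' M) (sy v g' yU) B → A = B := by
        rintro g g' rfl A B hA hB
        exact isZeroIdeal_unique (isInvertible_pullback _ hM) hA hB
      exact h4 _ _ hψ _ _ h3 hyU
    ext1
    apply pullback.hom_ext
    · exact congrArg (fun z => z.left) h2
    · exact congrArg (fun z => z.left) h1
  have e2 : φ ≫ ψ = 𝟙 A := by
    have h1 : (φ ≫ ψ) ≫ π = 𝟙 A ≫ π := by rw [Category.assoc, hψ, hφ₂, Category.id_comp]
    have h2 : (fun i => φ.left.appTop (yU i)) = yA := by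
      have h3 := zero_pull hM v φ p₂ yU hyU
      rw [← HilbPull.pull_comp, ← Category.assoc, hφ₁] at h3
      have h4 : ∀ (g g' : A ⟶ T) (_ : g = g') (y y' : Fin r → Γ(A.left, ⊤)),
          IsZeroIdeal (pb f g M) (sy v g y) (HilbD.pull f (xA ≫ j) Z.1) →
          IsZeroIdeal (pb f g' M) (sy v g' y') (HilbD.pull f (xA ≫ j) Z.1) → y = y' := by
        rintro g g' rfl y y' hy hy'
        exact coeff_unique hX σ hσ hM v he hb hv0 hvj hB g hAaff (hEff A _ (hZfl (xA ≫ j))) hy hy'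
      exact h4 _ _ hφ₂ _ _ h3 hxA
    ext1
    refine AffineSpace.hom_ext (congrArg (fun z => z.left) h1) fun i => ?_
    have h3 : (φ ≫ ψ).left.appTop (AffineSpace.coord T.left i) = φ.left.appTop (ψ.left.appTop (yA i.down)) := by
      rw [Over.comp_left, Scheme.Hom.comp_appTop]
      rfl
    refine h3.trans ?_
    refine (congrArg (fun z => φ.left.appTop z) (show ψ.left.appTop (yA i.down) = yU i.down from congrFun hψy i.down)).trans ?_
    refine (congrFun h2 i.down).trans ?_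
    have h5 : (𝟙 A : A ⟶ A).left.appTop (AffineSpace.coord T.left i) = AffineSpace.coord T.left i := by
      rw [Over.id_left, Scheme.Hom.id_appTop]
      rfl
    exact h5.symm
  exact ⟨⟨φ.left, ψ.left, congrArg (fun z => z.left) e2, congrArg (fun z => z.left) e1⟩,
    congrArg (fun z => z.left) hφ₂⟩

end K659.BNBundle
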