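import Groth.Agent.FunFld.K659.BNLocus2
import Groth.Agent.FunFld.K659.BNIso

/-!
# Degrees of zero ideals
-/

set_option autoImplicit false
set_option backward.isDefEq.respectTransparency false
universe u

open CategoryTheory CategoryTheory.Limits AlgebraicGeometry Opposite TopologicalSpace
open Groth.Agent Groth.Agent.Fdesc.LocGen Groth.Agent.Picfga.P1Def Groth.Agent.Picfga.SecBC
  Groth.Agent.Picfga.LatOf Groth.Agent.Picfga.LatH0 Groth.Agent.Picfga.PicGood Groth.Agent.Picfga.ZeroDef
  Groth.Agent.Picfga.ZeroDiv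
  Groth.Agent.Grpsch.PicGrp Groth.Agent.Fga.JacSum Groth.Agent.Fga.JacSurj Groth.Agent.Fga.JacFactor
  Groth.Agent.Fga.ZeroClass
  Groth.Agent.Picfga.ChiDef K659.BNLoc K659.BNFib K659.BNPt

namespace K659.BNDeg

variable {k : Type u} [Field k] {X : Scheme.{u}} {f : X ⟶ Spec (CommRingCat.of k)}
  [SmoothOfRelativeDimension 1 f] [IsSeparated f]

theorem isEff_of_isFinLocFree (T : Over (Spec (CommRingCat.of k))) (I : (PicF.XT f T).IdealSheafData)
    (h : Mor2.IsFinLocFree (I.subschemeι ≫ PicF.XTproj f T)) : BlowUp.IsEffCartierIdeal I := by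
  have := smoothOfRelDim_XTproj f T
  exact ((Groth.Agent.S1184.result (PicF.XTproj f T) I).2 h).1

theorem chiAt_eq_of_zero (P : P1Data f) {T : Over (Spec (CommRingCat.of k))} {M : (PicF.XT f T).Modules}
    (hM : PicF.IsInvertible M) {s : Γ(M, ⊤)} {I : (PicF.XT f T).IdealSheafData} (hI : IsZeroIdeal M s I)
    (hfl : Mor2.IsFinLocFree (I.subschemeι ≫ PicF.XTproj f T)) (t : T.left) :
    chiAt f T t (mk M hM) = chiAt f T t 1 +
      (haveI := hfl.1; (Scheme.Hom.finrank (I.subschemeι ≫ PicF.XTproj f T) t : ℤ)) := by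
  haveI := hfl.1
  haveI := hfl.2.1
  haveI := hfl.2.2
  let y := fsr T.left t
  let g := ofHom T y
  have hfl' : Mor2.IsFinLocFree ((HilbD.pull f g I).subschemeι ≫ PicF.XTproj f (Over.mk (y ≫ T.hom))) := by
    obtain ⟨m, hm⟩ := Picfga.HilbPull.isPullback_pull_base f g I
    exact ⟨MorphismProperty.of_isPullback hm hfl.1, MorphismProperty.of_isPullback hm hfl.2.1,
      MorphismProperty.of_isPullback hm hfl.2.2⟩
  haveI := hfl'.1
  have hE := isEff_of_isFinLocFree _ _ hfl'
  have hs' : IsZeroIdeal (pb f g M) (pbTop f g M s) (HilbD.pull f g I) := by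
    rw [Picfga.HilbPull.pull_eq_comap]
    exact isZeroIdeal_pullback (PicF.XTmap f g) hM hI
  have h1 := Picfga.ChiRR.chiK_mul_mk P (y ≫ T.hom) 1 (isInvertible_pullback (PicF.XTmap f g) hM) hs' hE
    (IsLocalRing.closedPoint (T.left.residueField t) : Spec (CommRingCat.of (T.left.residueField t)))
  rw [one_mul] at h1
  have h2 : Scheme.Hom.finrank (S := Spec (CommRingCat.of (T.left.residueField t)))
      ((HilbD.pull f g I).subschemeι ≫ PicF.XTproj f (Over.mk (y ≫ T.hom)))
      (IsLocalRing.closedPoint (T.left.residueField t) : Spec (CommRingCat.of (T.left.residueField t))) =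
      Scheme.Hom.finrank (I.subschemeι ≫ PicF.XTproj f T) t := by
    obtain ⟨m, hm⟩ := Picfga.HilbPull.isPullback_pull_base f g I
    have h3 := Scheme.Hom.finrank_of_isPullback _ _ _ _ hm
      (IsLocalRing.closedPoint (T.left.residueField t) : Spec (CommRingCat.of (T.left.residueField t)))
    have h4 : g.left (IsLocalRing.closedPoint (T.left.residueField t) :
      Spec (CommRingCat.of (T.left.residueField t))) = t := fsr_apply T.left t _
    rw [h4] at h3
    exact h3
  rw [h2] at h1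
  rw [chiAt, chiPt, chiAt, chiPt, pull_mk, map_one]
  exact h1

theorem isFinLocFreeOfDeg (P : P1Data f) {T : Over (Spec (CommRingCat.of k))} {M : (PicF.XT f T).Modules}
    (hM : PicF.IsInvertible M) {s : Γ(M, ⊤)} {I : (PicF.XT f T).IdealSheafData} (hI : IsZeroIdeal M s I)
    (hfl : Mor2.IsFinLocFree (I.subschemeι ≫ PicF.XTproj f T)) (D : ℕ)
    (hD : ∀ t, chiAt f T t (mk M hM) = chiAt f T t 1 + D) :
    Mor2.IsFinLocFreeOfDeg D (I.subschemeι ≫ PicF.XTproj f T) := by
  haveI := hfl.1
  refine ⟨hfl, fun t => ?_⟩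
  have h1 := chiAt_eq_of_zero P hM hI hfl t
  rw [hD] at h1
  have h2 := add_left_cancel h1
  exact_mod_cast h2.symm

end K659.BNDeg
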