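import Mathlib
import Groth.Agent.Sga3C.DimTop

/-!
# Dimensions and finiteness for affine space bundles
-/

set_option autoImplicit false
universe u

open CategoryTheory CategoryTheory.Limits AlgebraicGeometry Opposite TopologicalSpace

namespace K659.BNDim

/-- The topological dimension of a scheme is at most `d` iff all its local rings have dimension at most `d`. -/
theorem krullDim_le_iff (U : Scheme.{u}) (d : WithBot ℕ∞) :
    topologicalKrullDim ↥U ≤ d ↔ ∀ u : U, ringKrullDim ↥(U.presheaf.stalk u) ≤ d := by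
  have h1 : topologicalKrullDim ↥U =
      ⨆ v : ↥U, ((@Order.coheight _ (specializationOrder _).toPreorder v : ℕ∞) : WithBot ℕ∞) :=
    (Groth.Agent.Sga3C.DimTop.topologicalKrullDim_eq_krullDim (X := ↥U)).trans
      (@Order.krullDim_eq_iSup_coheight _ (specializationOrder ↥U).toPreorder)
  rw [h1, iSup_le_iff]
  refine forall_congr' fun u => ?_
  rw [ringKrullDim_stalk_eq_coheight]

/-- Dimension can be computed on a cover by open immersions. -/
theorem krullDim_le_of_cover {U : Scheme.{u}} (d : WithBot ℕ∞)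
    (h : ∀ x : U, ∃ (V : Scheme.{u}) (v : V ⟶ U), IsOpenImmersion v ∧ x ∈ Set.range v ∧ topologicalKrullDim V ≤ d) :
    topologicalKrullDim U ≤ d := by
  rw [krullDim_le_iff]
  intro x
  obtain ⟨V, v, hv, ⟨y, rfl⟩, hd⟩ := h x
  refine le_trans ?_ ((krullDim_le_iff V d).1 hd y)
  exact (ringKrullDim_eq_of_ringEquiv (asIso (v.stalkMap y)).commRingCatIsoToRingEquiv).le

theorem krullDim_spec (R : CommRingCat.{u}) : topologicalKrullDim (Spec R) = ringKrullDim R :=
  PrimeSpectrum.topologicalKrullDim_eq_ringKrullDim R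

theorem krullDim_eq_of_iso {X Y : Scheme.{u}} (e : X ≅ Y) : topologicalKrullDim X = topologicalKrullDim Y :=
  e.hom.homeomorph.isHomeomorph.topologicalKrullDim_eq

theorem krullDim_affineSpace_spec (r : ℕ) (R : CommRingCat.{u}) [IsNoetherianRing R] :
    topologicalKrullDim 𝔸(ULift.{u} (Fin r); Spec R) = ringKrullDim R + r := by
  rw [krullDim_eq_of_iso (AffineSpace.SpecIso (ULift.{u} (Fin r)) R), krullDim_spec]
  change ringKrullDim (MvPolynomial (ULift.{u} (Fin r)) R) = _
  rw [MvPolynomial.ringKrullDim_of_isNoetherianRing]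
  simp

theorem krullDim_affineSpace_le {V : Scheme.{u}} [IsLocallyNoetherian V] (r N : ℕ)
    (hV : topologicalKrullDim V ≤ (N : WithBot ℕ∞)) :
    topologicalKrullDim 𝔸(ULift.{u} (Fin r); V) ≤ ((N + r : ℕ) : WithBot ℕ∞) := by
  apply krullDim_le_of_cover
  intro x
  obtain ⟨W, hW, hx, -⟩ := exists_isAffineOpen_mem_and_subset (x := (𝔸(ULift.{u} (Fin r); V) ↘ V) x) (U := ⊤) trivial
  have h1 : (𝔸(ULift.{u} (Fin r); V) ↘ V) x ∈ Set.range hW.fromSpec := by
    rw [hW.range_fromSpec]
    exact hx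
  obtain ⟨y, hy⟩ := h1
  have hpb := AffineSpace.isPullback_map (n := ULift.{u} (Fin r)) hW.fromSpec
  obtain ⟨z, hz, -⟩ := Scheme.exists_preimage_of_isPullback hpb x y hy.symm
  haveI : IsNoetherianRing Γ(V, W) := IsLocallyNoetherian.component_noetherian ⟨W, hW⟩
  refine ⟨_, AffineSpace.map (ULift.{u} (Fin r)) hW.fromSpec,
    MorphismProperty.of_isPullback hpb.flip (inferInstanceAs (IsOpenImmersion hW.fromSpec)), ⟨z, hz⟩, ?_⟩
  rw [krullDim_affineSpace_spec, ← krullDim_spec]
  have h2 : topologicalKrullDim (Spec Γ(V, W)) ≤ (N : WithBot ℕ∞) :=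
    (hW.fromSpec.isOpenEmbedding.isInducing.topologicalKrullDim_le).trans hV
  push_cast
  gcongr

/-- The local structure of an affine space bundle. -/
def IsBun {T U : Scheme.{u}} (p : U ⟶ T) (r : ℕ) : Prop :=
  ∀ τ : T, ∃ (V : Scheme.{u}) (v : V ⟶ T),
      IsOpenImmersion v ∧ τ ∈ Set.range v ∧ ∃ φ : 𝔸(ULift.{u} (Fin r); V) ≅ pullback p v,
        φ.hom ≫ pullback.snd p v = (𝔸(ULift.{u} (Fin r); V) ↘ V)

variable {T U : Scheme.{u}} {p : U ⟶ T} {r : ℕ} (h : IsBun p r)

include h in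
theorem locallyOfFiniteType : LocallyOfFiniteType p := by
  choose V v hv hτ φ hφ using h
  let 𝒰 : T.OpenCover :=
    Scheme.Cover.mkOfCovers T V v (fun x => ⟨x, hτ x⟩) (fun x => hv x)
  apply IsZariskiLocalAtTarget.of_openCover (P := @LocallyOfFiniteType) 𝒰
  intro i
  change LocallyOfFiniteType (pullback.snd p (v i))
  have h1 : pullback.snd p (v i) = (φ i).inv ≫ (𝔸(ULift.{u} (Fin r); V i) ↘ V i) := by
    rw [← hφ i, Iso.inv_hom_id_assoc]
  rw [h1]
  infer_instance

include h in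
theorem krullDim_le [IsLocallyNoetherian T] (N : ℕ) (hT : topologicalKrullDim T ≤ (N : WithBot ℕ∞)) :
    topologicalKrullDim U ≤ ((N + r : ℕ) : WithBot ℕ∞) := by
  apply krullDim_le_of_cover
  intro x
  obtain ⟨V, v, hv, ⟨y, hy⟩, φ, hφ⟩ := h (p x)
  obtain ⟨z, hz, -⟩ := Scheme.exists_preimage_of_isPullback (IsPullback.of_hasPullback p v) x y hy.symm
  haveI := hv
  haveI : IsLocallyNoetherian V := isLocallyNoetherian_of_isOpenImmersion v
  refine ⟨pullback p v, pullback.fst p v, inferInstance, ⟨z, hz⟩, ?_⟩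
  rw [← krullDim_eq_of_iso φ]
  exact krullDim_affineSpace_le r N ((v.isOpenEmbedding.isInducing.topologicalKrullDim_le).trans hT)

end K659.BNDim
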