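import Groth.Agent.FunFld.K659.BNRatio
import Groth.Agent.MiscA.CurveH1Place
import Groth.Agent.FunFld.K663.Bridge
import Groth.Agent.Picfga.ZeroDef

/-!
# Divisors of the function field attached to sections of invertible modules
-/

set_option autoImplicit false
universe u

open CategoryTheory CategoryTheory.Limits AlgebraicGeometry Opposite TopologicalSpace
open Groth.Agent Groth.Agent.Fdesc.LocGen Groth.Agent.Grpsch.PicGrp Groth.Agent.Picfga.ZeroDef
open WithZero Groth.Agent.MiscA.WCPlace Groth.Agent.MiscA.WCBridge Groth.Agent.MiscA.CurveH1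
  Groth.Agent.MiscA.CurvePlaces K663.Bridge K659.BNRatio

namespace K659.BNDiv

section val

variable {k : Type u} [Field k] {C : Scheme.{u}} [IsIntegral C] (f : C ⟶ Spec (CommRingCat.of k))
  [Algebra k C.functionField]
  (hk : genericPt C ≫ f = Spec.map (CommRingCat.ofHom (algebraMap k C.functionField)))
  [IsProper f] [Smooth f] (hdim : topologicalKrullDim C = 1)

/-- The centre of a place. -/
noncomputable def cen (P : FunFld.Place k C.functionField) : C := centre f hk hdim (toWC P)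

theorem cen_eq (P : FunFld.Place k C.functionField) (x : {x : C // IsClosed ({x} : Set C)})
    (hx : placeEquiv f hk hdim x = toWC P) : cen f hk hdim P = x.1 := by
  unfold cen centre
  rw [← hx, Equiv.symm_apply_apply]

theorem isClosed_cen (P : FunFld.Place k C.functionField) : IsClosed ({cen f hk hdim P} : Set C) :=
  ((Groth.Agent.MiscA.WCBridge.placeEquiv f hk hdim).symm (toWC P)).2

theorem val_le_one_iff' (P : FunFld.Place k C.functionField) (y : C.functionField) :
    P.1 y ≤ 1 ↔ ∃ a : C.presheaf.stalk (cen f hk hdim P),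
      algebraMap (C.presheaf.stalk (cen f hk hdim P)) C.functionField a = y := by
  have h1 : (placeOf f hk hdim ((Groth.Agent.MiscA.WCBridge.placeEquiv f hk hdim).symm (toWC P))) = toWC P :=
    (Groth.Agent.MiscA.WCBridge.placeEquiv f hk hdim).apply_symm_apply (toWC P)
  rw [← mem_toWC, ← h1]
  exact Iff.rfl

variable (P : FunFld.Place k C.functionField) (U : C.Opens) [Nonempty U] (hx : cen f hk hdim P ∈ U) (a : Γ(C, U))

theorem algebraMap_germ (x : C) (hx : x ∈ U) :
    algebraMap (C.presheaf.stalk x) C.functionField (C.presheaf.germ U x hx a) = gf U a :=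
  Scheme.algebraMap_germ_eq_germToFunctionField C hx a

include hx in
theorem val_gf_le : P.1 (gf U a) ≤ 1 :=
  (val_le_one_iff' f hk hdim P _).2 ⟨C.presheaf.germ U _ hx a, algebraMap_germ U a _ hx⟩

theorem val_eq_one_of_isUnit {z : C.presheaf.stalk (cen f hk hdim P)} (hz : IsUnit z) :
    P.1 (algebraMap (C.presheaf.stalk (cen f hk hdim P)) C.functionField z) = 1 := by
  obtain ⟨w, hw⟩ := hz.exists_right_inv
  have h1 : P.1 (algebraMap (C.presheaf.stalk (cen f hk hdim P)) C.functionField z) *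
      P.1 (algebraMap (C.presheaf.stalk (cen f hk hdim P)) C.functionField w) = 1 := by
    rw [← map_mul, ← map_mul, hw, map_one, map_one]
  have h2 : P.1 (algebraMap (C.presheaf.stalk (cen f hk hdim P)) C.functionField z) ≤ 1 :=
    (val_le_one_iff' f hk hdim P _).2 ⟨z, rfl⟩
  have h3 : P.1 (algebraMap (C.presheaf.stalk (cen f hk hdim P)) C.functionField w) ≤ 1 :=
    (val_le_one_iff' f hk hdim P _).2 ⟨w, rfl⟩
  refine le_antisymm h2 ?_
  calc (1 : ℤᵐ⁰) = _ := h1.symm
    _ ≤ P.1 (algebraMap (C.presheaf.stalk (cen f hk hdim P)) C.functionField z) * 1 := by gcongr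
    _ = _ := mul_one _

include hx in
theorem val_gf_eq_one_iff : P.1 (gf U a) = 1 ↔ cen f hk hdim P ∈ C.basicOpen a := by
  rw [C.mem_basicOpen a _ hx]
  constructor
  · intro h
    have h0 : gf U a ≠ 0 := by
      intro h0
      rw [h0, map_zero] at h
      exact zero_ne_one h
    have h1 : P.1 (gf U a)⁻¹ ≤ 1 := by rw [map_inv₀, h, inv_one]
    obtain ⟨w, hw⟩ := (val_le_one_iff' f hk hdim P _).1 h1
    refine IsUnit.of_mul_eq_one w ?_
    apply IsFractionRing.injective (C.presheaf.stalk (cen f hk hdim P)) C.functionField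
    rw [map_mul, hw, algebraMap_germ U a _ hx, map_one, mul_inv_cancel₀ h0]
  · intro h
    rw [← algebraMap_germ U a _ hx]
    exact val_eq_one_of_isUnit f hk hdim P h

include hx in
theorem exists_unif (hU : IsAffineOpen U) : ∃ n : Γ(C, U), P.1 (gf U n) = exp (-1 : ℤ) := by
  obtain ⟨y, hy⟩ := P.2.2 (exp (-1 : ℤ))
  obtain ⟨b, rfl⟩ := (val_le_one_iff' f hk hdim P y).1 (by
    rw [hy, ← exp_zero, exp_le_exp]; omega)
  letI := TopCat.Presheaf.algebra_section_stalk C.presheaf (⟨cen f hk hdim P, hx⟩ : U)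
  haveI : IsLocalization.AtPrime (C.presheaf.stalk (cen f hk hdim P)) (hU.primeIdealOf ⟨_, hx⟩).asIdeal :=
    hU.isLocalization_stalk ⟨_, hx⟩
  obtain ⟨⟨n, d⟩, h⟩ := IsLocalization.surj (hU.primeIdealOf ⟨_, hx⟩).asIdeal.primeCompl b
  have h1 : IsUnit (algebraMap Γ(C, U) (C.presheaf.stalk (cen f hk hdim P)) d.1) :=
    IsLocalization.map_units _ d
  have h2 := val_eq_one_of_isUnit f hk hdim P h1
  refine ⟨n, ?_⟩
  have h3 : algebraMap Γ(C, U) (C.presheaf.stalk (cen f hk hdim P)) n = C.presheaf.germ U _ hx n := rfl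
  rw [← algebraMap_germ U n _ hx, ← h3, ← h, map_mul, map_mul, h2, mul_one, hy]

omit [Algebra k C.functionField] [IsProper f] [Smooth f] [IsIntegral C] [Nonempty U] in
theorem exists_away (hU : IsAffineOpen U) (x : C) (hx : x ∈ U) (z : C) (hz : IsClosed ({z} : Set C)) (hxz : z ≠ x) :
    ∃ n : Γ(C, U), x ∈ C.basicOpen n ∧ z ∉ C.basicOpen n := by
  let V : C.Opens := U ⊓ ⟨({z} : Set C)ᶜ, hz.isOpen_compl⟩
  obtain ⟨n, hn, hxn⟩ := hU.exists_basicOpen_le (V := V) ⟨x, hx, fun h => hxz (Set.mem_singleton_iff.mp h).symm⟩ hx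
  exact ⟨n, hxn, fun h => (hn h).2 rfl⟩

end val

section ker

variable {k : Type u} [Field k] {C : Scheme.{u}} (s : Spec (CommRingCat.of k) ⟶ C) [QuasiCompact s]

theorem mem_ker_ideal (U : C.affineOpens) (n : Γ(C, U.1)) :
    n ∈ s.ker.ideal U ↔ s (IsLocalRing.closedPoint k) ∉ C.basicOpen n := by
  rw [Scheme.Hom.ker_apply, RingHom.mem_ker]
  have h1 : (s.app U.1).hom n = 0 ↔ (Spec (CommRingCat.of k)).basicOpen ((s.app U.1).hom n) = ⊥ :=
    (basicOpen_eq_bot_iff _).symm
  rw [h1]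
  have h2 := Scheme.preimage_basicOpen s n
  change _ = (Spec (CommRingCat.of k)).basicOpen ((s.app U.1).hom n) at h2
  rw [← h2]
  constructor
  · intro h h3
    have h4 : (IsLocalRing.closedPoint k : Spec (CommRingCat.of k)) ∈ s ⁻¹ᵁ C.basicOpen n := h3
    rw [h] at h4
    exact h4
  · intro h
    ext x
    refine iff_of_false (fun hx => h ?_) (fun h => h)
    have : Subsingleton (Spec (CommRingCat.of k)) := inferInstanceAs (Subsingleton (PrimeSpectrum k))
    have h3 : s x ∈ C.basicOpen n := hx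
    rwa [Subsingleton.elim x (IsLocalRing.closedPoint k : Spec (CommRingCat.of k))] at h3

theorem prod_mem_ideal {d : ℕ} (D : Fin d → C.IdealSheafData) (U : C.affineOpens) (u : Fin d → Γ(C, U.1))
    (hu : ∀ i, u i ∈ (D i).ideal U) : ∏ i, u i ∈ (∏ i, D i).ideal U := by
  induction d with
  | zero =>
    rw [Fin.prod_univ_zero, Fin.prod_univ_zero]
    exact Submodule.mem_top
  | succ d ih =>
    rw [Fin.prod_univ_succ, Fin.prod_univ_succ]
    exact Ideal.mul_mem_mul (hu 0) (ih (fun i => D i.succ) (fun i => u i.succ) fun i => hu i.succ)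

end ker

section main

variable {k : Type u} [Field k] {C : Scheme.{u}} [IsIntegral C] (f : C ⟶ Spec (CommRingCat.of k))
  [Algebra k C.functionField]
  (hk : genericPt C ≫ f = Spec.map (CommRingCat.ofHom (algebraMap k C.functionField)))
  [IsProper f] [Smooth f] (hdim : topologicalKrullDim C = 1)

/-- The point of a morphism from the spectrum of a field. -/
noncomputable abbrev pt (x : Spec (CommRingCat.of k) ⟶ C) : C := x (IsLocalRing.closedPoint k)

open scoped Classical in
theorem val_ratio_le {M : C.Modules} (hM : PicF.IsInvertible M) {s : Γ(M, ⊤)} {d : ℕ}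
    (x : Fin d → (Spec (CommRingCat.of k) ⟶ C)) (hqc : ∀ i, QuasiCompact (x i))
    (hcl : ∀ i, IsClosed ({pt (x i)} : Set C))
    (hI : IsZeroIdeal M s (∏ i, (x i).ker)) {φ : Γ(M, ⊤) → C.functionField}
    (hφ : ∀ (t : Γ(M, ⊤)) (U : C.Opens) [Nonempty U] (m : Γ(M, U)), IsGen m → ∀ a b : Γ(C, U),
        res M le_top s = a • m → res M le_top t = b • m → gf U a ≠ 0 ∧ φ t = gf U b / gf U a)
    (P : FunFld.Place k C.functionField) (t : Γ(M, ⊤)) :
    P.1 (φ t) ≤ exp ((Finset.univ.filter fun i => pt (x i) = cen f hk hdim P).card : ℤ) := by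
  obtain ⟨U₀, m₀, hx₀, hm₀⟩ := (isInvertible_iff M).mp hM (cen f hk hdim P)
  obtain ⟨V, hV, hxV, hVU⟩ := exists_isAffineOpen_mem_and_subset (x := cen f hk hdim P) (U := U₀) hx₀
  haveI : Nonempty V := ⟨⟨_, hxV⟩⟩
  have hVU' : V ≤ U₀ := hVU
  have hm := hm₀.res hVU'
  obtain ⟨a, ha⟩ := hm.exists_eq (res M le_top s)
  obtain ⟨b, hb⟩ := hm.exists_eq (res M le_top t)
  have hIa := hI ⟨V, hV⟩ _ hm a ha
  obtain ⟨ha0, hφt⟩ := hφ t V _ hm a b ha hb
  have hu : ∀ i, ∃ u : Γ(C, V), u ∈ (x i).ker.ideal ⟨V, hV⟩ ∧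
      P.1 (gf V u) = if pt (x i) = cen f hk hdim P then exp (-1 : ℤ) else 1 := by
    intro i
    haveI := hqc i
    by_cases h : pt (x i) = cen f hk hdim P
    · obtain ⟨n, hn⟩ := exists_unif f hk hdim P V hxV hV
      refine ⟨n, ?_, by rw [if_pos h, hn]⟩
      rw [mem_ker_ideal]
      intro hcon
      change pt (x i) ∈ _ at hcon
      rw [h, ← val_gf_eq_one_iff f hk hdim P V hxV, hn, ← exp_zero, exp_inj] at hcon
      omega
    · obtain ⟨n, hn, hn'⟩ := exists_away V hV _ hxV (pt (x i)) (hcl i) h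
      refine ⟨n, ?_, by rw [if_neg h]; exact (val_gf_eq_one_iff f hk hdim P V hxV n).2 hn⟩
      rw [mem_ker_ideal]
      exact hn'
  choose u hu1 hu2 using hu
  have h1 : ∏ i, u i ∈ Ideal.span {a} := by
    rw [← hIa]
    exact prod_mem_ideal _ ⟨V, hV⟩ u hu1
  obtain ⟨w, hw⟩ := Ideal.mem_span_singleton.mp h1
  set N := (Finset.univ.filter fun i => pt (x i) = cen f hk hdim P).card with hN
  have h2 : P.1 (gf V (∏ i, u i)) = exp (-(N : ℤ)) := by
    rw [map_prod, map_prod, Finset.prod_congr rfl fun i _ => hu2 i, Finset.prod_ite, Finset.prod_const,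
      Finset.prod_const_one, mul_one, ← hN, ← exp_nsmul]
    congr 1
    simp
  have h3 : exp (-(N : ℤ)) ≤ P.1 (gf V a) := by
    rw [← h2, hw, map_mul, map_mul]
    calc P.1 (gf V a) * P.1 (gf V w) ≤ P.1 (gf V a) * 1 := by
          gcongr
          exact val_gf_le f hk hdim P V hxV w
      _ = P.1 (gf V a) := mul_one _
  rw [hφt, map_div₀, div_le_iff₀ (lt_of_lt_of_le exp_pos h3)]
  refine (val_gf_le f hk hdim P V hxV b).trans ?_
  calc (1 : ℤᵐ⁰) = exp (N : ℤ) * exp (-(N : ℤ)) := by rw [← exp_add, add_neg_cancel, exp_zero]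
    _ ≤ exp (N : ℤ) * P.1 (gf V a) := by gcongr

end main

end K659.BNDiv
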