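import Groth.Agent.FunFld.K659.BNDiv
import Groth.Agent.FunFld.K660.Compare
import Groth.Agent.Picfga.ChiCech

/-!
# Divisors of the function field attached to sections of invertible modules, II
-/

set_option autoImplicit false
set_option backward.isDefEq.respectTransparency false
universe u

open CategoryTheory CategoryTheory.Limits AlgebraicGeometry Opposite TopologicalSpace
open Groth.Agent Groth.Agent.Fdesc.LocGen Groth.Agent.Grpsch.PicGrp Groth.Agent.Picfga.ZeroDef
open WithZero Groth.Agent.MiscA.WCPlace Groth.Agent.MiscA.WCBridge Groth.Agent.MiscA.CurveH1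
  Groth.Agent.MiscA.CurvePlaces K663.Bridge K659.BNRatio

namespace K659.BNDiv

/-- Over an algebraically closed field all places have degree one. -/
theorem deg_eq_one {k K : Type*} [Field k] [IsAlgClosed k] [Field K] [Algebra k K]
    (hK : FunFld.IsFunctionField k K) (P : FunFld.Place k K) : P.deg = 1 := by
  have h1 := K660.Compare.finite_residue hK P
  have h2 : Function.Bijective (algebraMap k (IsLocalRing.ResidueField P.O)) :=
    ⟨(algebraMap k (IsLocalRing.ResidueField P.O)).injective,
      (IsAlgClosed.algebraMap_bijective_of_isIntegral (k := k) (K := IsLocalRing.ResidueField P.O)).2⟩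
  unfold FunFld.Place.deg
  rw [← (LinearEquiv.ofBijective (Algebra.linearMap k (IsLocalRing.ResidueField P.O)) h2).finrank_eq,
    Module.finrank_self]

theorem deg_sum {k K : Type*} [Field k] [Field K] [Algebra k K] {ι : Type*} (s : Finset ι)
    (D : ι → FunFld.Divisor k K) : (∑ i ∈ s, D i).deg = ∑ i ∈ s, (D i).deg :=
  map_sum (AddMonoidHom.mk' (FunFld.Divisor.deg (k := k) (K := K)) K660.Compare.deg_add) D s

variable {k : Type u} [Field k] [IsAlgClosed k] [CharZero k] {C : Scheme.{u}} [IsIntegral C]
  [C.Over (Spec (CommRingCat.of k))] [Algebra k C.functionField]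
  (hk : genericPt C ≫ (C ↘ Spec (CommRingCat.of k)) =
    Spec.map (CommRingCat.ofHom (algebraMap k C.functionField)))
  [IsProper (C ↘ Spec (CommRingCat.of k))] [Smooth (C ↘ Spec (CommRingCat.of k))]
  (hdim : topologicalKrullDim C = 1)

include hk hdim in
open scoped Classical in
/-- The divisor of zeros of a section of an invertible module. -/
theorem exists_divisor (hK : FunFld.IsFunctionField k C.functionField) {M : C.Modules}
    (hM : PicF.IsInvertible M) {s : Γ(M, ⊤)} (hs : s ≠ 0) {d : ℕ}
    (x : Fin d → (Spec (CommRingCat.of k) ⟶ C))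
    (hx : ∀ i, x i ≫ (C ↘ Spec (CommRingCat.of k)) = 𝟙 (Spec (CommRingCat.of k)))
    (hI : IsZeroIdeal M s (∏ i, (x i).ker)) :
    ∃ D : FunFld.Divisor k C.functionField, D.deg = d ∧
      Module.finrank k (Picfga.ChiCech.SecA k M ⊤) ≤ FunFld.ell D := by
  let f := C ↘ Spec (CommRingCat.of k)
  have hci : ∀ i, IsClosedImmersion (x i) := by
    intro i
    have : IsClosedImmersion (x i ≫ f) := by
      change IsClosedImmersion (x i ≫ (C ↘ Spec (CommRingCat.of k)))
      rw [hx i]
      infer_instance
    exact IsClosedImmersion.of_comp _ f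
  have hqc : ∀ i, QuasiCompact (x i) := fun i => inferInstance
  have hcl : ∀ i, IsClosed ({pt (x i)} : Set C) := by
    intro i
    have h1 : Set.range (x i) = {pt (x i)} := by
      have : Subsingleton (Spec (CommRingCat.of k)) := inferInstanceAs (Subsingleton (PrimeSpectrum k))
      ext z
      constructor
      · rintro ⟨y, rfl⟩
        rw [Subsingleton.elim y (IsLocalRing.closedPoint k : Spec (CommRingCat.of k))]
        rfl
      · rintro rfl
        exact ⟨_, rfl⟩
    rw [← h1]
    exact (x i).isClosedEmbedding.isClosed_range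
  have hsep := exists_isSep hK
  choose P hP using fun i => (K663.Bridge.placeEquiv hsep).surjective
    (Groth.Agent.MiscA.WCBridge.placeEquiv f hk hdim ⟨pt (x i), hcl i⟩)
  have hcen : ∀ i, cen f hk hdim (P i) = pt (x i) := fun i => cen_eq f hk hdim (P i) _ (hP i).symm
  have hinj : ∀ Q Q' : FunFld.Place k C.functionField, cen f hk hdim Q = cen f hk hdim Q' → Q = Q' := by
    intro Q Q' h
    exact (K663.Bridge.placeEquiv hsep).injective (centre_injective f hk hdim h)
  obtain ⟨φ, h0, hadd, hsmul, hφ⟩ := exists_ratio hM hs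
  let D : FunFld.Divisor k C.functionField := ∑ i, Finsupp.single (P i) 1
  have hDP : ∀ Q, D Q = ((Finset.univ.filter fun i => pt (x i) = cen f hk hdim Q).card : ℤ) := by
    intro Q
    rw [Finsupp.finsetSum_apply, Finset.card_filter]
    push_cast
    refine Finset.sum_congr rfl fun i _ => ?_
    rw [Finsupp.single_apply]
    by_cases h : P i = Q
    · rw [if_pos h, if_pos (by rw [← hcen, h])]
    · rw [if_neg h, if_neg (fun h' => h (hinj _ _ (by rw [hcen, h'])))]
  have hL : ∀ t, φ t ∈ FunFld.L D := by
    intro t Q
    rw [hDP]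
    exact val_ratio_le f hk hdim hM x hqc hcl hI hφ Q t
  have hconst : ∀ c : k, gf ⊤ (Picfga.ChiCech.str (X := C) k ⊤ c) = algebraMap k C.functionField c := by
    intro c
    have h1 := val_toGlobal f hk c ⟨genericPoint C, trivial⟩
    rw [val_eq] at h1
    have h2 : Picfga.ChiCech.str (X := C) k ⊤ c = Coh.toGlobal f c := ores_refl _
    rw [h2]
    exact h1
  let Φ : Picfga.ChiCech.SecA k M ⊤ →ₗ[k] FunFld.L D :=
    { toFun := fun t => ⟨φ t, hL t⟩
      map_add' := fun t t' => Subtype.ext (hadd t t')
      map_smul' := fun c t => by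
        apply Subtype.ext
        refine (hsmul (Picfga.ChiCech.str (X := C) k ⊤ c) t).trans ?_
        rw [hconst]
        exact (Algebra.smul_def c (φ t)).symm }
  have hΦ : Function.Injective Φ := by
    rw [← LinearMap.ker_eq_bot, LinearMap.ker_eq_bot']
    intro t ht
    exact h0 t (congrArg Subtype.val ht)
  have hfin := K660.Compare.finite_L hK D
  refine ⟨D, ?_, LinearMap.finrank_le_finrank_of_injective hΦ⟩
  rw [deg_sum]
  simp only [K660.Compare.deg_single, deg_eq_one hK]
  simp

end K659.BNDiv
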