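import Groth.Agent.FunFld.K659.BNMain
import Groth.Agent.FunFld.K659.BNAff
import Groth.Agent.S1170

/-!
# The scheme of divisors over the Brill-Noether locus is locally an affine space, II
-/

set_option autoImplicit false
set_option backward.isDefEq.respectTransparency false
universe u

open CategoryTheory CategoryTheory.Limits AlgebraicGeometry Opposite TopologicalSpace
open Groth.Agent Groth.Agent.Fdesc.LocGen Groth.Agent.Picfga.P1Def Groth.Agent.Picfga.SecBC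
  Groth.Agent.Picfga.LatOf Groth.Agent.Picfga.LatH0 Groth.Agent.Picfga.PicGood Groth.Agent.Picfga.ZeroDef
  Groth.Agent.Picfga.ZeroDiv
  Groth.Agent.Grpsch.PicGrp Groth.Agent.Fga.JacSum Groth.Agent.Fga.JacSurj Groth.Agent.Fga.JacFactor
  Groth.Agent.Fga.ZeroClass Groth.Agent.Fga.RigGrp
  Groth.Agent.Picfga.ChiDef K659.BNLoc K659.BNFib K659.BNPt K659.BNAff K659.BNLocus K659.BNRig

namespace K659.BNMain

variable {k : Type u} [Field k] [IsSepClosed k] {X : Scheme.{u}} {f : X ⟶ Spec (CommRingCat.of k)}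
  [SmoothOfRelativeDimension 1 f] [IsSeparated f] [QuasiCompact f]
  (hX : Curve.IsSmoothProperCurve k X f)
  {σ : Spec (CommRingCat.of k) ⟶ X} {hσ : σ ≫ f = 𝟙 (Spec (CommRingCat.of k))}
  (P : P1Data f) {J : Over (Spec (CommRingCat.of k))} {ξ : Pic (PicF.XT f J)}
  (hJ : IsJac σ hσ J ξ) (D r n : ℕ) {T : Over (Spec (CommRingCat.of k))} (ι : T ⟶ J)
  (h0 : ∀ τ, hAt f T τ 0 (pull (PicF.XTmap f ι) (tw σ hσ ξ (D + 1))) = r + 1)
  (h1 : ∀ τ, hAt f T τ 1 (pull (PicF.XTmap f ι) (tw σ hσ ξ (D + 1))) = n)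
  (hD : ∀ τ, hAt f T τ 0 (pull (PicF.XTmap f ι) (tw σ hσ ξ D)) ≤ r)
  {H : Over (Spec (CommRingCat.of k))} {Z : HilbD.Obj f (D + 1) H} (hZ : HilbD.IsUniversal f (D + 1) H Z)
  (hWaff : IsAffineOpen (off f σ hσ H Z.1))
  {a : Over.mk ((off f σ hσ H Z.1).ι ≫ H.hom) ⟶ J}
  {hE : BlowUp.IsEffCartierIdeal (HilbD.pull f (Picfga.OverRep.res H (off f σ hσ H Z.1)) Z.1)}
  (ha : pull (PicF.XTmap f a) (tw σ hσ ξ (D + 1)) = (dcl _ hE)⁻¹)

include hX P hJ h0 h1 hD hZ hWaff ha in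
theorem exists_open [IsReduced T.left] [IsLocallyNoetherian T.left] [IsSeparated J.hom] (τ : T.left) :
    ∃ (V : Scheme.{u}) (v : V ⟶ T.left), IsOpenImmersion v ∧ τ ∈ Set.range v ∧
      ∃ φ : 𝔸(ULift.{u} (Fin r); V) ≅ pullback a.left (v ≫ ι.left),
        φ.hom ≫ pullback.snd a.left (v ≫ ι.left) = (𝔸(ULift.{u} (Fin r); V) ↘ V) := by
  obtain ⟨W, hW, hτW, -⟩ := exists_isAffineOpen_mem_and_subset (x := τ) (U := ⊤) trivial
  let TW : Over (Spec (CommRingCat.of k)) := Over.mk (W.ι ≫ T.hom)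
  let jW : TW ⟶ T := Picfga.OverRep.res T W
  haveI i1 : IsAffine TW.left := hW
  haveI i2 : IsReduced TW.left := inferInstanceAs (IsReduced (W : Scheme.{u}))
  haveI i3 : IsLocallyNoetherian (W : Scheme.{u}) := isLocallyNoetherian_of_isOpenImmersion W.ι
  haveI i4 : IsNoetherianRing Γ(TW.left, ⊤) :=
    IsLocallyNoetherian.component_noetherian (X := (W : Scheme.{u})) ⟨⊤, @isAffineOpen_top (W : Scheme.{u}) hW⟩
  obtain ⟨M, hM, hMc⟩ := exists_mk (pull (PicF.XTmap f (jW ≫ ι)) (tw σ hσ ξ (D + 1)))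
  have hMr : mk M hM ∈ Rg f σ hσ TW := by
    rw [← hMc]
    exact pull_mem _ (mul_mem hJ.mem (pow_mem (inv_mem (gs_mem σ hσ J)) _))
  have hMc' : ∀ {T' : Over (Spec (CommRingCat.of k))} (g : T' ⟶ TW) (m : ℕ),
      pull (PicF.XTmap f (g ≫ jW ≫ ι)) (tw σ hσ ξ m) =
        pull (PicF.XTmap f g) (pull (PicF.XTmap f jW) (pull (PicF.XTmap f ι) (tw σ hσ ξ m))) := by
    intro T' g m
    rw [Fga.RigGrp.XTmap_comp, Grpsch.PicGrp.pull_comp, Fga.RigGrp.XTmap_comp, Grpsch.PicGrp.pull_comp]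
  have hAt' : ∀ (t : TW.left) (i : ℕ) (_ : i ≤ 1) (m : ℕ),
      hAt f TW t i (pull (PicF.XTmap f (jW ≫ ι)) (tw σ hσ ξ m)) =
        hAt f T (jW.left t) i (pull (PicF.XTmap f ι) (tw σ hσ ξ m)) := by
    intro t i hi m
    rw [Fga.RigGrp.XTmap_comp, Grpsch.PicGrp.pull_comp, hAt_pull P jW t i hi]
  obtain ⟨c, hc, hloc⟩ := exists_loc σ hσ P hM hMr n (fun t => by rw [← hMc, hAt' t 1 le_rfl, h1])
    (⟨τ, hτW⟩ : W) r (by rw [← hMc, hAt' _ 0 (by omega), h0]) (by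
      have h2 := hD (jW.left (⟨τ, hτW⟩ : W))
      rw [← hAt' _ 0 (by omega) D] at h2
      have h3 : pull (PicF.XTmap f (jW ≫ ι)) (tw σ hσ ξ D) = mk M hM * gs σ hσ TW := by
        rw [← hMc, pull_tw, pull_tw, tw_succ, inv_mul_cancel_right]
      rwa [h3] at h2)
  let V : TW.left.Opens := TW.left.basicOpen c
  let TV : Over (Spec (CommRingCat.of k)) := Over.mk (V.ι ≫ TW.hom)
  let j : TV ⟶ TW := Picfga.OverRep.res TW V
  have hV : IsAffine TV.left := (isAffineOpen_top TW.left).basicOpen c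
  have hu : IsUnit (j.left.appTop c) := by
    apply Picfga.PicCBC.isUnit_of_basicOpen_eq_top
    have h3 := Scheme.preimage_basicOpen_top V.ι c
    have h4 : V.ι ⁻¹ᵁ TW.left.basicOpen c = ⊤ := by
      ext t
      exact iff_of_true t.2 trivial
    rw [h4] at h3
    exact h3.symm
  obtain ⟨B⟩ := hloc TV j hV hu
  let v : (V : Scheme.{u}) ⟶ T.left := V.ι ≫ W.ι
  let τ' : TV ⟶ J := Over.homMk (v ≫ ι.left) (by
    change ((V.ι ≫ W.ι) ≫ ι.left) ≫ J.hom = V.ι ≫ W.ι ≫ T.hom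
    rw [Category.assoc, Category.assoc, Over.w])
  have hτ' : τ' = j ≫ jW ≫ ι := by
    ext1
    exact Category.assoc _ _ _
  haveI : IsAffine (Over.mk ((off f σ hσ H Z.1).ι ≫ H.hom)).left := hWaff
  haveI : IsAffineHom a.left := by
    have h3 : IsAffineHom (a.left ≫ J.hom) := by
      rw [Over.w]
      infer_instance
    exact IsAffineHom.of_comp a.left J.hom
  haveI : IsAffine (pullback a.left τ'.left) := inferInstance
  have hMj := isInvertible_pullback (PicF.XTmap f j) hM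
  have hcls : pull (PicF.XTmap f τ') (tw σ hσ ξ (D + 1)) = mk (pb f j M) hMj := by
    rw [hτ', hMc', ← pull_mk (PicF.XTmap f j) hM, ← hMc, Fga.RigGrp.XTmap_comp, Grpsch.PicGrp.pull_comp]
  refine ⟨V, v, inferInstance, ⟨⟨⟨τ, hτW⟩, hc⟩, rfl⟩, ?_⟩
  refine BNBundle.nonempty_iso hX σ hσ (T := TV) (M := pb f j M) hMj B.v B.he B.hb B.hv0 B.hvj B.hB (D + 1)
    (fun T' g s I hI hfl => ?_) H Z hZ J (tw σ hσ ξ (D + 1)) (fun T' x y hxy => hJ.hom_ext_tw (D + 1) hxy)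
    a hE ha τ' hcls
  refine BNDeg.isFinLocFreeOfDeg P (isInvertible_pullback _ hMj) hI hfl (D + 1) fun t => ?_
  have hBC := Fga.JacFib.bcStep f
  have h3 : mk (pb f g (pb f j M)) (isInvertible_pullback _ hMj) =
      pull (PicF.XTmap f (g ≫ τ')) (tw σ hσ ξ (D + 1)) := by
    rw [Fga.RigGrp.XTmap_comp, Grpsch.PicGrp.pull_comp, hcls, pull_mk]
  have h4 := chiAt_pull hBC (g ≫ τ') t 1
  rw [map_one] at h4
  rw [h3, chiAt_pull hBC, tw, chiAt_mul_gs_pow hX, hJ.chi, h4]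

include hX P hJ in
/-- The scheme of divisors away from `σ` over the Brill-Noether locus. -/
theorem exists_family [GeometricallyIrreducible f] [IsReduced T.left] [IsLocallyNoetherian T.left]
    [IsSeparated J.hom] [IsClosedImmersion ι.left]
    (h0 : ∀ τ, hAt f T τ 0 (pull (PicF.XTmap f ι) (tw σ hσ ξ (D + 1))) = r + 1)
    (h1 : ∀ τ, hAt f T τ 1 (pull (PicF.XTmap f ι) (tw σ hσ ξ (D + 1))) = n)
    (hD : ∀ τ, hAt f T τ 0 (pull (PicF.XTmap f ι) (tw σ hσ ξ D)) ≤ r) :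
    ∃ (U : Scheme.{u}) (p : U ⟶ T.left), IsAffine U ∧ ∀ τ : T.left, ∃ (V : Scheme.{u}) (v : V ⟶ T.left),
      IsOpenImmersion v ∧ τ ∈ Set.range v ∧ ∃ φ : 𝔸(ULift.{u} (Fin r); V) ≅ pullback p v,
        φ.hom ≫ pullback.snd p v = (𝔸(ULift.{u} (Fin r); V) ↘ V) := by
  obtain ⟨H, Z, hZ, hHp, -⟩ := Groth.Agent.S1170.result k X f hX (D + 1)
  have hW := K659.BNAff.isAffineOpen_off f hX σ hσ (D + 1) H Z hZ
  let Ho : Over (Spec (CommRingCat.of k)) := Over.mk ((off f σ hσ H Z.1).ι ≫ H.hom)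
  have hfl := Picfga.HilbPull.isFinLocFreeOfDeg_pull f (Picfga.OverRep.res H (off f σ hσ H Z.1)) Z.2
  have hE := BNDeg.isEff_of_isFinLocFree _ _ hfl.1
  have hoff : off f σ hσ Ho (HilbD.pull f (Picfga.OverRep.res H (off f σ hσ H Z.1)) Z.1) = ⊤ := by
    rw [← preimage_off]
    ext t
    exact iff_of_true t.2 trivial
  obtain ⟨a, ha⟩ := hJ.exists_hom P hX (D + 1) hfl hE hoff
  haveI : IsAffine Ho.left := hW
  haveI : IsAffine (pullback a.left ι.left) := inferInstance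
  refine ⟨pullback a.left ι.left, pullback.snd a.left ι.left, inferInstance, fun τ => ?_⟩
  obtain ⟨V, v, hv, hτ, φ, hφ⟩ := exists_open hX P hJ D r n ι h0 h1 hD hZ hW ha τ
  refine ⟨V, v, hv, hτ, φ ≪≫ (pullbackLeftPullbackSndIso a.left ι.left v).symm, ?_⟩
  rw [Iso.trans_hom, Category.assoc, Iso.symm_hom, pullbackLeftPullbackSndIso_inv_snd_snd, hφ]

end K659.BNMain
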