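import Groth.Agent.FunFld.K660.Compare
import Mathlib.LinearAlgebra.Dimension.Basic
import Mathlib.FieldTheory.IsAlgClosed.Basic
import Mathlib.FieldTheory.IntermediateField.Adjoin.Defs

/-!
# Transport of divisors on function fields along isomorphisms of pairs
-/

set_option autoImplicit false
set_option backward.isDefEq.respectTransparency false

open WithZero FunFld

namespace K659.BNTrans

universe u v u' v'

variable {k : Type u} {K : Type v} {k' : Type u'} {K' : Type v'} [Field k] [Field K] [Algebra k K] [Field k']
  [Field K'] [Algebra k' K'] (σ : k ≃+* k') (e : K ≃+* K') (h : ∀ c, e (algebraMap k K c) = algebraMap k' K' (σ c))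

theorem finrank_eq {R : Type u} {R' : Type v} {M : Type u'} {M' : Type v'} [Semiring R] [Semiring R']
    [AddCommMonoid M] [AddCommMonoid M'] [Module R M] [Module R' M'] (i : R → R') (j : M ≃+ M')
    (hi : Function.Bijective i) (hc : ∀ (r : R) (m : M), j (r • m) = i r • j m) :
    Module.finrank R M = Module.finrank R' M' := by
  have h := lift_rank_eq_of_equiv_equiv i j hi hc
  unfold Module.finrank
  have h1 := congrArg Cardinal.toNat h
  simpa using h1

include h in
theorem symm_comp (c : k') : e.symm (algebraMap k' K' c) = algebraMap k K (σ.symm c) := by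
  rw [e.symm_apply_eq, h, σ.apply_symm_apply]

include h in
theorem isFunctionField (hK : IsFunctionField k K) : IsFunctionField k' K' := by
  have hcomp : (algebraMap k' K').comp (σ : k →+* k') = (e : K →+* K').comp (algebraMap k K) :=
    RingHom.ext fun c => (h c).symm
  obtain ⟨⟨x, hx, hfin⟩, hcl⟩ := hK
  refine ⟨⟨e x, ?_, ?_⟩, fun y hy => ?_⟩
  · exact (transcendental_ringHom_iff_of_comp_eq σ (e : K →+* K') e.injective hcomp).2 hx
  · have hsub : (IntermediateField.adjoin k ({x} : Set K)).toSubfield.map (e : K →+* K') =
        (IntermediateField.adjoin k' ({e x} : Set K')).toSubfield := by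
      change (Subfield.closure (Set.range (algebraMap k K) ∪ {x})).map (e : K →+* K') =
        Subfield.closure (Set.range (algebraMap k' K') ∪ {e x})
      rw [RingHom.map_field_closure, Set.image_union, Set.image_singleton]
      congr 2
      ext z
      constructor
      · rintro ⟨_, ⟨c, rfl⟩, rfl⟩
        exact ⟨σ c, (h c).symm⟩
      · rintro ⟨c, rfl⟩
        refine ⟨_, ⟨σ.symm c, rfl⟩, ?_⟩
        change e _ = _
        rw [h, σ.apply_symm_apply]
    have hmem : ∀ z : K, z ∈ IntermediateField.adjoin k ({x} : Set K) ↔
        e z ∈ IntermediateField.adjoin k' ({e x} : Set K') := by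
      intro z
      have h1 : e z ∈ (IntermediateField.adjoin k' ({e x} : Set K')).toSubfield ↔
          z ∈ (IntermediateField.adjoin k ({x} : Set K)).toSubfield := by
        rw [← hsub, Subfield.mem_map]
        constructor
        · rintro ⟨w, hw, hwz⟩
          have : w = z := e.injective hwz
          rwa [← this]
        · intro hz
          exact ⟨z, hz, rfl⟩
      exact h1.symm
    let e₁ : IntermediateField.adjoin k ({x} : Set K) ≃+* IntermediateField.adjoin k' ({e x} : Set K') :=
      { toFun := fun z => ⟨e z.1, (hmem z.1).1 z.2⟩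
        invFun := fun z => ⟨e.symm z.1, (hmem _).2 (by rw [e.apply_symm_apply]; exact z.2)⟩
        left_inv := fun z => Subtype.ext (e.symm_apply_apply z.1)
        right_inv := fun z => Subtype.ext (e.apply_symm_apply z.1)
        map_mul' := fun a b => Subtype.ext (map_mul e a.1 b.1)
        map_add' := fun a b => Subtype.ext (map_add e a.1 b.1) }
    exact Module.Finite.of_equiv_equiv e₁ e (RingHom.ext fun z => rfl)
  · have h1 : IsAlgebraic k (e.symm y) := by
      rw [← isAlgebraic_ringHom_iff_of_comp_eq σ (e : K →+* K') e.injective hcomp]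
      change IsAlgebraic k' (e (e.symm y))
      rwa [e.apply_symm_apply]
    obtain ⟨c, hc⟩ := hcl _ h1
    refine ⟨σ c, ?_⟩
    rw [← h, hc, e.apply_symm_apply]

/-- Transport of places. -/
def plMap (P : Place k K) : Place k' K' :=
  ⟨P.1.comap (e.symm : K' →+* K), fun c => by
    change P.1 (e.symm (algebraMap k' K' c)) ≤ 1
    rw [symm_comp σ e h]
    exact P.2.1 _, fun y => by
    obtain ⟨x, hx⟩ := P.2.2 y
    refine ⟨e x, ?_⟩
    change P.1 (e.symm (e x)) = y
    rw [e.symm_apply_apply, hx]⟩

/-- Transport of places as an equivalence. -/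
def plEquiv : Place k K ≃ Place k' K' where
  toFun := plMap σ e h
  invFun := plMap σ.symm e.symm (symm_comp σ e h)
  left_inv P := Subtype.ext (Valuation.ext fun x => by
    change P.1 (e.symm (e x)) = P.1 x
    rw [e.symm_apply_apply])
  right_inv P := Subtype.ext (Valuation.ext fun x => by
    change P.1 (e (e.symm x)) = P.1 x
    rw [e.apply_symm_apply])

theorem plEquiv_val (P : Place k K) (y : K') : (plEquiv σ e h P).1 y = P.1 (e.symm y) := rfl

/-- Transport of divisors. -/
noncomputable def dvEquiv : Divisor k K ≃ Divisor k' K' := Finsupp.domCongr (M := ℤ) (plEquiv σ e h)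

theorem dvEquiv_apply (D : Divisor k K) (P : Place k K) : dvEquiv σ e h D (plEquiv σ e h P) = D P := by
  change D ((plEquiv σ e h).symm (plEquiv σ e h P)) = D P
  rw [Equiv.symm_apply_apply]

theorem ell_eq (D : Divisor k K) : ell (dvEquiv σ e h D) = ell D := by
  have hm : ∀ x : K, x ∈ L D ↔ e x ∈ L (dvEquiv σ e h D) := by
    intro x
    constructor
    · intro hx Q
      obtain ⟨P, rfl⟩ := (plEquiv σ e h).surjective Q
      rw [plEquiv_val, e.symm_apply_apply, dvEquiv_apply]
      exact hx P
    · intro hx P
      have h1 := hx (plEquiv σ e h P)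
      rw [plEquiv_val, e.symm_apply_apply, dvEquiv_apply] at h1
      exact h1
  let j : L D ≃+ L (dvEquiv σ e h D) :=
    { toFun := fun x => ⟨e x.1, (hm x.1).1 x.2⟩
      invFun := fun x => ⟨e.symm x.1, (hm _).2 (by rw [e.apply_symm_apply]; exact x.2)⟩
      left_inv := fun x => Subtype.ext (e.symm_apply_apply x.1)
      right_inv := fun x => Subtype.ext (e.apply_symm_apply x.1)
      map_add' := fun a b => Subtype.ext (map_add e a.1 b.1) }
  symm
  refine finrank_eq σ j σ.bijective fun c x => Subtype.ext ?_
  change e (c • x.1) = σ c • e x.1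
  rw [Algebra.smul_def, Algebra.smul_def, map_mul, h]

variable [IsAlgClosed k] [IsAlgClosed k']

theorem deg_one {k K : Type*} [Field k] [IsAlgClosed k] [Field K] [Algebra k K]
    (hK : FunFld.IsFunctionField k K) (P : FunFld.Place k K) : P.deg = 1 := by
  have h1 := K660.Compare.finite_residue hK P
  have h2 : Function.Bijective (algebraMap k (IsLocalRing.ResidueField P.O)) :=
    IsAlgClosed.algebraMap_bijective_of_isIntegral (k := k) (K := IsLocalRing.ResidueField P.O)
  unfold FunFld.Place.deg
  rw [← (LinearEquiv.ofBijective (Algebra.linearMap k (IsLocalRing.ResidueField P.O)) h2).finrank_eq,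
    Module.finrank_self]

theorem deg_eq (hK : IsFunctionField k K) (D : Divisor k K) : (dvEquiv σ e h D).deg = D.deg := by
  have hK' := isFunctionField σ e h hK
  unfold Divisor.deg
  change (Finsupp.equivMapDomain (plEquiv σ e h) D).sum _ = _
  rw [Finsupp.sum_equivMapDomain]
  refine Finsupp.sum_congr fun P _ => ?_
  rw [deg_one hK, deg_one hK']

include σ e h in
theorem genus_eq (hK : IsFunctionField k K) : genus k' K' = genus k K := by
  unfold genus
  congr 1
  ext n
  constructor
  · rintro ⟨D', rfl⟩
    obtain ⟨D, rfl⟩ := (dvEquiv σ e h).surjective D'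
    refine ⟨D, ?_⟩
    simp only
    rw [ell_eq, deg_eq σ e h hK]
  · rintro ⟨D, rfl⟩
    refine ⟨dvEquiv σ e h D, ?_⟩
    simp only
    rw [ell_eq, deg_eq σ e h hK]

end K659.BNTrans
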