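import Groth.Agent.FunFld.K659.BNZero
import Groth.Agent.FunFld.K659.BNTrans
import Groth.Agent.FunFld.K659.BNCurve
import Groth.Agent.FunFld.K659.BNMain2
import Groth.Agent.MiscA.CurveH1Place
import Groth.Agent.Fga.JacFinal
import Groth.Agent.Picfga.CurveP1

/-!
# Existence of special divisors, assuming that affine space bundles have small base
-/

set_option autoImplicit false
set_option backward.isDefEq.respectTransparency false
universe u

open CategoryTheory CategoryTheory.Limits AlgebraicGeometry Opposite TopologicalSpace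
open Groth.Agent Groth.Agent.Fdesc.LocGen Groth.Agent.Picfga.P1Def Groth.Agent.Picfga.SecBC
  Groth.Agent.Picfga.LatOf Groth.Agent.Picfga.LatH0 Groth.Agent.Picfga.PicGood Groth.Agent.Picfga.ZeroDef
  Groth.Agent.Picfga.ZeroDiv
  Groth.Agent.Grpsch.PicGrp Groth.Agent.Fga.JacSum Groth.Agent.Fga.JacSurj Groth.Agent.Fga.JacFactor
  Groth.Agent.Fga.ZeroClass Groth.Agent.Fga.RigGrp
  Groth.Agent.Picfga.ChiDef K659.BNLoc K659.BNFib K659.BNPt K659.BNAff K659.BNLocus K659.BNRig
open Groth.Agent.MiscA.CurvePlaces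

namespace K659.BNEnd

/-- The function fields of isomorphic schemes. -/
theorem exists_iso {X Y : Scheme.{u}} [IsIntegral X] [IsIntegral Y] (i : Y ⟶ X) [IsIso i] :
    ∃ e : X.functionField ≅ Y.functionField,
      Y.fromSpecStalk (genericPoint Y) ≫ i = Spec.map e.hom ≫ X.fromSpecStalk (genericPoint X) := by
  have h : i (genericPoint Y) = genericPoint X := genericPoint_eq_of_isOpenImmersion i
  refine ⟨X.presheaf.stalkCongr (.of_eq h.symm) ≪≫ asIso (i.stalkMap (genericPoint Y)), ?_⟩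
  rw [Iso.trans_hom, Spec.map_comp, asIso_hom, Category.assoc]
  rw [← Scheme.SpecMap_stalkMap_fromSpecStalk]
  congr 1
  exact (Scheme.SpecMap_stalkSpecializes_fromSpecStalk (X := X) (specializes_of_eq h)).symm


theorem exists_nat {x : WithBot ℕ∞} {a b : ℕ} (h : (a : WithBot ℕ∞) ≤ x) (h' : x ≤ (b : WithBot ℕ∞)) :
    ∃ n : ℕ, x = (n : WithBot ℕ∞) := by
  induction x using WithBot.recBotCoe with
  | bot => exact absurd h (by simp)
  | coe x =>
    have h1 : x ≤ (b : ℕ∞) := by exact_mod_cast h'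
    obtain ⟨n, hn⟩ := ENat.ne_top_iff_exists.mp (ne_top_of_le_ne_top (ENat.coe_ne_top b) h1)
    exact ⟨n, by rw [← hn]; rfl⟩

theorem genericPt_eq (X : Scheme.{u}) [IsIntegral X] : genericPt X = X.fromSpecStalk (genericPoint X) := rfl

/-- The conclusion in terms of the curve `X_k`. -/
theorem exists_div {k : Type u} [Field k] [IsAlgClosed k] [CharZero k] {X : Scheme.{u}}
    {f : X ⟶ Spec (CommRingCat.of k)} [IsIntegral X] [SmoothOfRelativeDimension 1 f] [IsProper f]
    (hdim : topologicalKrullDim X = 1) (P : P1Data f) {K : Type u} [Field K] [Algebra k K]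
    (hF₀ : FunFld.IsFunctionField k K) (e : X.functionField ≅ CommRingCat.of K)
    (he : X.fromSpecStalk (genericPoint X) ≫ f = Spec.map e.inv ≫ Spec.map (CommRingCat.ofHom (algebraMap k K)))
    (c : Pic (PicF.XT f (BNTriv.T₀ k))) (n d : ℕ)
    (hn : n + 1 ≤ hK f (𝟙 (Spec (CommRingCat.of k))) 0 c)
    (hd : ∀ t, chiAt f (BNTriv.T₀ k) t c = chiAt f (BNTriv.T₀ k) t 1 + d) :
    ∃ D : FunFld.Divisor k K, D.deg = d ∧ n + 1 ≤ FunFld.ell D := by
  obtain ⟨M, hM, rfl⟩ := exists_mk c
  haveI : Nonempty (PicF.XT f (BNTriv.T₀ k)) := ⟨inv (BNTriv.pr f) (genericPoint X)⟩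
  haveI : IsIntegral (PicF.XT f (BNTriv.T₀ k)) := isIntegral_of_isOpenImmersion (BNTriv.pr f)
  letI := overK f (𝟙 (Spec (CommRingCat.of k)))
  have h1 : K659.BNFib.hK f (𝟙 (Spec (CommRingCat.of k))) 0 (mk M hM) =
      Module.finrank k (Coh.HH (PicF.XT f (BNTriv.T₀ k)) M 0) := rfl
  rw [h1, (Picfga.ChiCech.h0Top k M).finrank_eq] at hn
  obtain ⟨s, hs⟩ : ∃ s : Γ(M, ⊤), s ≠ 0 := by
    by_contra hcon
    push Not at hcon
    have : Subsingleton (Picfga.ChiCech.SecA k M ⊤) := ⟨fun a b => (hcon a).trans (hcon b).symm⟩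
    rw [Module.finrank_zero_of_subsingleton] at hn
    omega
  obtain ⟨x, hx⟩ := BNZero.exists_points P hM hs d hd
  obtain ⟨e₁, he₁⟩ := exists_iso (BNTriv.pr f)
  let e' : (PicF.XT f (BNTriv.T₀ k)).functionField ≅ CommRingCat.of K := e₁.symm ≪≫ e
  letI alg : Algebra k (PicF.XT f (BNTriv.T₀ k)).functionField :=
    (CommRingCat.ofHom (algebraMap k K) ≫ e'.inv).hom.toAlgebra
  have hk : genericPt (PicF.XT f (BNTriv.T₀ k)) ≫ (PicF.XT f (BNTriv.T₀ k) ↘ Spec (CommRingCat.of k)) =
      Spec.map (CommRingCat.ofHom (algebraMap k (PicF.XT f (BNTriv.T₀ k)).functionField)) := by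
    have h2 : Spec.map (CommRingCat.ofHom (algebraMap k (PicF.XT f (BNTriv.T₀ k)).functionField)) =
        Spec.map e'.inv ≫ Spec.map (CommRingCat.ofHom (algebraMap k K)) := by
      rw [← Spec.map_comp]
      rfl
    have h3 : (PicF.XT f (BNTriv.T₀ k) ↘ Spec (CommRingCat.of k)) = PicF.XTproj f (BNTriv.T₀ k) := rfl
    rw [h2, h3, genericPt_eq, ← BNTriv.pr_comp, reassoc_of% he₁, he]
    simp [e']
  haveI : IsProper (PicF.XT f (BNTriv.T₀ k) ↘ Spec (CommRingCat.of k)) :=
    inferInstanceAs (IsProper (pullback.snd _ _))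
  haveI : Smooth (PicF.XT f (BNTriv.T₀ k) ↘ Spec (CommRingCat.of k)) :=
    haveI : SmoothOfRelativeDimension 1 (PicF.XTproj f (BNTriv.T₀ k)) := smoothOfRelDim_XTproj f _
    SmoothOfRelativeDimension.smooth 1 (PicF.XTproj f (BNTriv.T₀ k))
  have hdim' : topologicalKrullDim (PicF.XT f (BNTriv.T₀ k)) = 1 := by
    rw [← hdim]
    exact (BNTriv.pr f).homeomorph.isHomeomorph.topologicalKrullDim_eq
  let σ := e'.commRingCatIsoToRingEquiv
  have hσ : ∀ c : k, σ (algebraMap k (PicF.XT f (BNTriv.T₀ k)).functionField c) = algebraMap k K (RingEquiv.refl k c) := by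
    intro c
    change e'.hom (e'.inv (algebraMap k K c)) = _
    simp
  have hσ' : ∀ c : k, σ.symm (algebraMap k K c) =
      algebraMap k (PicF.XT f (BNTriv.T₀ k)).functionField (RingEquiv.refl k c) := fun c => rfl
  have hF : FunFld.IsFunctionField k (PicF.XT f (BNTriv.T₀ k)).functionField :=
    BNTrans.isFunctionField (RingEquiv.refl k) σ.symm hσ' hF₀
  obtain ⟨D, hD, hD'⟩ := BNDiv.exists_divisor hk hdim' hF hM hs (fun i => (x i).1) (fun i => (x i).2) hx
  refine ⟨BNTrans.dvEquiv (RingEquiv.refl k) σ hσ D, ?_, ?_⟩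
  · rw [BNTrans.deg_eq _ _ _ hF, hD]
  · rw [BNTrans.ell_eq]
    exact hn.trans hD'


/-- Affine space bundles with affine total space over a proper base: the base has dimension at most the
relative dimension. -/
def NoBundle (k : Type u) [Field k] : Prop :=
  ∀ (T : Over (Spec (CommRingCat.of k))) [IsProper T.hom] [IsIntegral T.left] (N r : ℕ)
    (_ : topologicalKrullDim T.left = (N : WithBot ℕ∞)) (U : Scheme.{u}) (p : U ⟶ T.left) [IsAffine U]
    (_ : ∀ τ : T.left, ∃ (V : Scheme.{u}) (v : V ⟶ T.left),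
      IsOpenImmersion v ∧ τ ∈ Set.range v ∧ ∃ φ : 𝔸(ULift.{u} (Fin r); V) ≅ pullback p v,
        φ.hom ≫ pullback.snd p v = (𝔸(ULift.{u} (Fin r); V) ↘ V)), N ≤ r

theorem main {k : Type u} [Field k] [IsAlgClosed k] [CharZero k] (hB : NoBundle k) {K : Type u} [Field K]
    [Algebra k K] (hF₀ : FunFld.IsFunctionField k K) (g r d : ℕ) (hg : FunFld.genus k K = g)
    (hrho : ((r : ℤ) + 1) * ((g : ℤ) + r - d) ≤ g) :
    ∃ D : FunFld.Divisor k K, D.deg = d ∧ r + 1 ≤ FunFld.ell D := by
  obtain ⟨X, f, hint, hp, hs, hgi, hdim, e, he⟩ := BNCurve.exists_model k K hF₀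
  have hX := Fga.JacFinal.isSmoothProperCurve k X f hdim
  haveI : SmoothOfRelativeDimension 1 f := Fga.JacAlg.smoothOfRelDim hX
  letI : X.Over (Spec (CommRingCat.of k)) := ⟨f⟩
  letI alg : Algebra k X.functionField := (CommRingCat.ofHom (algebraMap k K) ≫ e.inv).hom.toAlgebra
  have hk : genericPt X ≫ (X ↘ Spec (CommRingCat.of k)) =
      Spec.map (CommRingCat.ofHom (algebraMap k X.functionField)) := by
    have h2 : Spec.map (CommRingCat.ofHom (algebraMap k X.functionField)) =
        Spec.map e.inv ≫ Spec.map (CommRingCat.ofHom (algebraMap k K)) := by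
      rw [← Spec.map_comp]
      rfl
    rw [h2]
    exact he
  have hσ' : ∀ c : k, e.commRingCatIsoToRingEquiv.symm (algebraMap k K c) =
      algebraMap k X.functionField (RingEquiv.refl k c) := fun c => rfl
  have hF : FunFld.IsFunctionField k X.functionField :=
    BNTrans.isFunctionField (RingEquiv.refl k) e.commRingCatIsoToRingEquiv.symm hσ' hF₀
  have hgen : g = Module.finrank k (Coh.HH X (Coh.structureModule X) 1) := by
    have h1 := BNTrans.genus_eq (RingEquiv.refl k) e.commRingCatIsoToRingEquiv.symm hσ' hF₀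
    have hsep := K663.Bridge.exists_isSep hF
    have h2 := K663.Bridge.genus_eq hsep hF.2
    haveI : IsProper (X ↘ Spec (CommRingCat.of k)) := hp
    haveI : Smooth (X ↘ Spec (CommRingCat.of k)) := hs
    have h3 := (MiscA.CurveH1.i_zero_eq_finrank hk hdim hsep).2
    rw [← hg, ← h1, h2, K663.Bridge.i_zero_eq, h3]
  haveI : LocallyOfFiniteType f := inferInstance
  haveI : JacobsonSpace X := LocallyOfFiniteType.jacobsonSpace f
  obtain ⟨x, -, hx⟩ := nonempty_inter_closedPoints (Z := (Set.univ : Set X)) ⟨genericPoint X, trivial⟩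
    isClosed_univ.isLocallyClosed
  let σ := pointOfClosedPoint f x hx
  have hσ : σ ≫ f = 𝟙 (Spec (CommRingCat.of k)) := pointOfClosedPoint_comp f x hx
  obtain ⟨P⟩ := Picfga.CurveP1.exists_p1Data hX
  obtain ⟨J, ξ, hJp, hJs, hJi, hJ, hJd⟩ := BNTriv.exists_jac σ hσ hdim rfl
  have hchi := BNTriv.chiK_one hX σ hσ rfl
  rw [← hgen] at hJd hchi
  haveI : IrreducibleSpace J.left := by
    have : Subsingleton (Spec (CommRingCat.of k)) := inferInstanceAs (Subsingleton (PrimeSpectrum k))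
    exact GeometricallyIrreducible.irreducibleSpace_of_subsingleton J.hom
  have key : ∃ t, r + 1 ≤ hAt f J t 0 (tw σ hσ ξ d) := by
    by_contra hcon
    push Not at hcon
    obtain ⟨D, n, T, ι, hι, hT, hdT, h0, h1, hD⟩ := exists_locus hX σ hσ P J g hJd ξ hJ.chi hchi r d hrho
      (fun t => by have := hcon t; omega)
    haveI : IsProper T.hom := by
      rw [← Over.w ι]
      infer_instance
    haveI : IsLocallyNoetherian T.left := LocallyOfFiniteType.isLocallyNoetherian T.hom
    obtain ⟨U, p, hU, hp'⟩ := BNMain.exists_family hX P hJ D r n ι h0 h1 hD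
    have h2 : topologicalKrullDim T.left ≤ (g : WithBot ℕ∞) := by
      rw [← hJd]
      exact ι.left.isClosedEmbedding.isInducing.topologicalKrullDim_le
    obtain ⟨N, hN⟩ : ∃ N : ℕ, topologicalKrullDim T.left = (N : WithBot ℕ∞) := exists_nat hdT h2
    have h3 := hB T N r hN U p hp'
    rw [hN] at hdT
    have h4 : r + 1 ≤ N := by exact_mod_cast hdT
    omega
  obtain ⟨t, ht⟩ := key
  have hBC := Fga.JacFib.bcStep f
  have hchi1 : ∀ t, chiAt f J t 1 = chiK f (𝟙 (Spec (CommRingCat.of k))) 1 := fun t => chiAt_one J t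
  obtain ⟨y, hy⟩ := BNZero.exists_point P J (tw σ hσ ξ d) (chiK f (𝟙 (Spec (CommRingCat.of k))) 1 + d)
    (fun t => by rw [tw, chiAt_mul_gs_pow hX, hJ.chi, hchi1]) (r + 1) t ht
  refine exists_div hdim P hF₀ e he _ r d hy fun t => ?_
  have h4 := chiAt_pull hBC y t 1
  rw [map_one] at h4
  rw [chiAt_pull hBC, tw, chiAt_mul_gs_pow hX, hJ.chi, h4]

end K659.BNEnd
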