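import Groth.Agent.FunFld.K659.BNDim
import Groth.Agent.Fga.DimCut
import Groth.Agent.VarietyA.SmoothReg
import Groth.Agent.Picfga.CurveRelDim

/-!
# The smooth locus of a variety
-/

set_option autoImplicit false
universe u

open CategoryTheory CategoryTheory.Limits AlgebraicGeometry Opposite TopologicalSpace
open Groth.Agent

namespace K659.BNSmo

variable {k : Type u} [Field k] {T : Scheme.{u}} (a : T ⟶ Spec (CommRingCat.of k)) [LocallyOfFiniteType a]
  [IsIntegral T]

include a in
/-- A nonempty open subscheme of a variety has the same dimension. -/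
theorem krullDim_open (W : T.Opens) (hW : Nonempty W) :
    topologicalKrullDim (W : Scheme.{u}) = topologicalKrullDim T := by
  letI : T.Over (Spec (CommRingCat.of k)) := ⟨a⟩
  haveI : LocallyOfFiniteType (T ↘ Spec (CommRingCat.of k)) := ‹LocallyOfFiniteType a›
  letI : (W : Scheme.{u}).Over (Spec (CommRingCat.of k)) := ⟨W.ι ≫ a⟩
  haveI : LocallyOfFiniteType ((W : Scheme.{u}) ↘ Spec (CommRingCat.of k)) :=
    inferInstanceAs (LocallyOfFiniteType (W.ι ≫ a))
  haveI : IsIntegral (W : Scheme.{u}) := isIntegral_of_isOpenImmersion W.ι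
  haveI : JacobsonSpace T := LocallyOfFiniteType.jacobsonSpace a
  haveI : JacobsonSpace (W : Scheme.{u}) := LocallyOfFiniteType.jacobsonSpace (W.ι ≫ a)
  obtain ⟨x, -, hx⟩ := nonempty_inter_closedPoints (Z := (Set.univ : Set (W : Scheme.{u}))) ⟨hW.some, trivial⟩
    isClosed_univ.isLocallyClosed
  have hx' : IsClosed ({W.ι x} : Set T) := by
    have h1 := W.ι.isOpenEmbedding.preimage_closedPoints
    have h2 : x ∈ W.ι ⁻¹' closedPoints T := by
      rw [h1]
      exact hx
    exact h2
  rw [← Fga.DimCut.ringKrullDim_stalk_eq (k := k) (W : Scheme.{u}) x hx,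
    ← Fga.DimCut.ringKrullDim_stalk_eq (k := k) T (W.ι x) hx']
  exact ringKrullDim_eq_of_ringEquiv (asIso (W.ι.stalkMap x)).commRingCatIsoToRingEquiv.symm

theorem exists_smooth_open [PerfectField k] (N : ℕ) (hN : topologicalKrullDim T = (N : WithBot ℕ∞))
    (V : T.Opens) (hV : Nonempty V) : ∃ W : T.Opens, W ≤ V ∧ Nonempty W ∧ SmoothOfRelativeDimension N (W.ι ≫ a) := by
  haveI : LocallyOfFinitePresentation a := inferInstance
  have h1 : genericPoint T ∈ a.smoothLocus := Scheme.Hom.genericPoint_mem_smoothLocus_of_perfectField a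
  let W : T.Opens := a.smoothLocus ⊓ V
  have hWne : Nonempty W := ⟨⟨genericPoint T, h1, ((genericPoint_spec T).mem_open_set_iff V.2).2 (by simpa using hV)⟩⟩
  haveI : IsIntegral (W : Scheme.{u}) := isIntegral_of_isOpenImmersion W.ι
  haveI : Smooth (W.ι ≫ a) := by
    rw [← Scheme.Hom.smoothLocus_eq_top_iff, ← Scheme.Hom.preimage_smoothLocus_eq]
    ext x
    exact iff_of_true x.2.1 trivial
  refine ⟨W, inf_le_right, hWne, ?_⟩
  apply Picfga.CurveRelDim.smoothOfRelativeDimension_of_topologicalKrullDim_eq k (W : Scheme.{u}) (W.ι ≫ a) N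
  rw [krullDim_open a W hWne, hN]

end K659.BNSmo
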