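import Groth.Agent.FunFld.K659.BNDim
import Groth.Agent.FunFld.K659.BNSmo
import Groth.Agent.Sga4h.GSqEt
import Groth.Agent.S3117
import Groth.Agent.EtpbcA.ArtinSupp
import Groth.Agent.Sga4h.PushDer
import Groth.Agent.Etrest.ConstBasic
import Groth.Agent.Etrest.HPush
import Groth.Agent.S3173
import Groth.Agent.S0654
import Groth.Agent.EtpbcA.CdTwoDim
import Groth.Agent.S3112
import Groth.Agent.Sga4B.TateConst
import Groth.Agent.Sga4B.HTools
import Groth.Agent.Sga4B.ShriekTools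
import Groth.Agent.Sga4B.ConstLC
import Groth.Agent.CurvesA.CohBasic
import Groth.Agent.Etcore.ShriekBasic

/-!
# Affine space bundles with affine total space over a proper base
-/

set_option autoImplicit false
universe u

open CategoryTheory CategoryTheory.Limits AlgebraicGeometry Opposite TopologicalSpace
open Groth.Agent K659.BNDim

namespace K659.BNEt

/-- Étale base change. -/
theorem rpush_etale {X Y X' Y' : Scheme.{u}} {f : X ⟶ Y} {g : Y' ⟶ Y} {f' : X' ⟶ Y'} {g' : X' ⟶ X}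
    (h : IsPullback g' f' f g) [Etale g] (F : EtCoh.Ab X) (q : ℕ) :
    Nonempty ((EtCoh.pull g).obj ((EtCoh.Rpush f q).obj F) ≅
      (EtCoh.Rpush f' q).obj ((EtCoh.pull g').obj F)) :=
  Sga4h.GSq.nonempty_baseChange_iso F (Sga4h.GSq.bc_of_etale h _) q

section chart

variable {T U V : Scheme.{u}} {p : U ⟶ T} {r : ℕ} (v : V ⟶ T) [IsOpenImmersion v]
  (φ : 𝔸(ULift.{u} (Fin r); V) ≅ pullback p v)
  (hφ : φ.hom ≫ pullback.snd p v = (𝔸(ULift.{u} (Fin r); V) ↘ V)) (n : ℕ)

include hφ in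
theorem chart_iso (q : ℕ) :
    Nonempty ((EtCoh.pull v).obj ((EtCoh.Rpush p q).obj (EtCoh.const U (ZMod n))) ≅
      (EtCoh.Rpush (𝔸(ULift.{u} (Fin r); V) ↘ V) q).obj
        ((EtCoh.pull (𝔸(ULift.{u} (Fin r); V) ↘ V)).obj (EtCoh.const V (ZMod n)))) := by
  have hpb : IsPullback (φ.hom ≫ pullback.fst p v) (𝔸(ULift.{u} (Fin r); V) ↘ V) p v :=
    IsPullback.of_iso (IsPullback.of_hasPullback p v) φ.symm (Iso.refl _) (Iso.refl _) (Iso.refl _)
      (by simp) (by simp [← hφ]) (by simp) (by simp)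
  obtain ⟨e⟩ := rpush_etale hpb (EtCoh.const U (ZMod n)) q
  exact ⟨e ≪≫ (EtCoh.Rpush (𝔸(ULift.{u} (Fin r); V) ↘ V) q).mapIso
    (EtCore.pullConst _ (ZMod n) ≪≫ (EtCore.pullConst _ (ZMod n)).symm)⟩

variable (hn : IsUnit (n : Γ(V, ⊤)))

include hφ hn in
theorem chart_pos (q : ℕ) (hq : 0 < q) :
    IsZero ((EtCoh.pull v).obj ((EtCoh.Rpush p q).obj (EtCoh.const U (ZMod n)))) := by
  obtain ⟨e⟩ := chart_iso v φ hφ n q
  exact ((Groth.Agent.S3117.result V r n hn (EtCoh.const V (ZMod n))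
    (Etrest.ConstBasic.killedBy_const V (ZMod n) n (fun m => by simp))).2 q hq).of_iso e

include hφ hn in
theorem chart_zero :
    Nonempty ((EtCoh.pull v).obj ((EtCoh.push p).obj (EtCoh.const U (ZMod n))) ≅ EtCoh.const V (ZMod n)) := by
  obtain ⟨e⟩ := chart_iso v φ hφ n 0
  haveI := (Groth.Agent.S3117.result V r n hn (EtCoh.const V (ZMod n))
    (Etrest.ConstBasic.killedBy_const V (ZMod n) n (fun m => by simp))).1
  exact ⟨(EtCoh.pull v).mapIso ((Sga4h.PushDer.rpushZeroIso p).symm.app _) ≪≫ e ≪≫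
    (Sga4h.PushDer.rpushZeroIso _).app _ ≪≫
    (asIso ((EtCoh.pullPushAdj (𝔸(ULift.{u} (Fin r); V) ↘ V)).unit.app (EtCoh.const V (ZMod n)))).symm⟩

end chart

section main

variable {k : Type u} [Field k] {T U : Scheme.{u}}
  (a : T ⟶ Spec (CommRingCat.of k)) {p : U ⟶ T} {r : ℕ} (h : IsBun p r) (n : ℕ) (hn : (n : k) ≠ 0)

theorem isUnit_of_over {V : Scheme.{u}} (b : V ⟶ Spec (CommRingCat.of k)) (hn : (n : k) ≠ 0) :
    IsUnit (n : Γ(V, ⊤)) := by
  have h1 : IsUnit (n : k) := isUnit_iff_ne_zero.mpr hn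
  have h2 := (h1.map (Scheme.ΓSpecIso (CommRingCat.of k)).inv.hom).map b.appTop.hom
  simpa using h2

include a h hn in
theorem rpush_pos (q : ℕ) (hq : 0 < q) : IsZero ((EtCoh.Rpush p q).obj (EtCoh.const U (ZMod n))) := by
  apply EtpbcA.Artin.isZero_of_forall
  intro τ hτ
  obtain ⟨V, v, hv, ⟨y, rfl⟩, φ, hφ⟩ := h τ
  have h1 := chart_pos v φ hφ n (isUnit_of_over n (v ≫ a) hn) q hq
  have h2 := EtpbcA.Artin.supp_eq_empty_of_isZero h1 y
  rw [EtpbcA.Artin.supp_pull] at h2
  exact h2 hτ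

end main

section fin

/-- `H⁰(X, M)` is the group of locally constant functions with values in `M`. -/
noncomputable def H0const (X : Scheme.{u}) (M : Type) [AddCommGroup M] :
    EtCoh.H X (EtCoh.const X M) 0 ≃+ LocallyConstant X (ULift.{u + 1} M) :=
  AddEquiv.trans (Sheaf.H.equiv₀ _ (EtCore.topIsTerminal X))
    (((sheafToPresheaf _ _).mapIso (Sga4B.ConstLC.constIso X M)).app
      (op (EtCoh.top X))).addCommGroupIsoToAddEquiv

theorem not_subsingleton_H0 (X : Scheme.{u}) [Nonempty X] :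
    ¬ Subsingleton (EtCoh.H X (EtCoh.const X (ZMod 2)) 0) := by
  intro hs
  have h1 := (H0const X (ZMod 2)).symm.toEquiv.subsingleton
  have h2 : LocallyConstant.const X (ULift.up.{u + 1} (1 : ZMod 2)) = LocallyConstant.const X (ULift.up 0) :=
    Subsingleton.elim _ _
  have h3 := congrArg (fun f => (f (Classical.arbitrary X)).down) h2
  change (1 : ZMod 2) = 0 at h3
  exact absurd h3 (by decide)

/-- Restriction of `p_* Λ` to a small open subscheme. -/
theorem restr_iso {T V : Scheme.{u}} (v : V ⟶ T) [IsOpenImmersion v] (W : T.Opens)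
    (hW : (W : Set T) ⊆ Set.range v) (G : EtCoh.Ab T)
    (e : Nonempty ((EtCoh.pull v).obj G ≅ EtCoh.const V (ZMod 2))) :
    Nonempty ((EtCoh.pull W.ι).obj G ≅ EtCoh.const (W : Scheme.{u}) (ZMod 2)) := by
  obtain ⟨e⟩ := e
  have h1 : Set.range W.ι ⊆ Set.range v := by
    rw [Scheme.Opens.range_ι]
    exact hW
  have h2 : IsOpenImmersion.lift v W.ι h1 ≫ v = W.ι := IsOpenImmersion.lift_fac v W.ι h1
  exact ⟨(EtCore.pullCongr h2.symm).app G ≪≫ (EtCore.pullComp _ v).app G ≪≫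
    (EtCoh.pull (IsOpenImmersion.lift v W.ι h1)).mapIso e ≪≫ EtCore.pullConst _ (ZMod 2)⟩

variable {k : Type u} [Field k] [IsAlgClosed k] [CharZero k]

theorem le_of_bundle {T U : Scheme.{u}} (a : T ⟶ Spec (CommRingCat.of k)) [IsProper a] [IsIntegral T]
    (N r : ℕ) (hN : topologicalKrullDim T = (N : WithBot ℕ∞)) (p : U ⟶ T) [IsAffine U] (h : IsBun p r) :
    N ≤ r := by
  by_contra hlt
  push Not at hlt
  obtain ⟨M, rfl⟩ : ∃ M, N = M + 1 := ⟨N - 1, by omega⟩
  have hn : ((2 : ℕ) : k) ≠ 0 := by exact_mod_cast (two_ne_zero : (2 : k) ≠ 0)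
  haveI : IsLocallyNoetherian T := LocallyOfFiniteType.isLocallyNoetherian a
  haveI : CompactSpace T := QuasiCompact.compactSpace_of_compactSpace a
  haveI : LocallyOfFiniteType p := locallyOfFiniteType h
  haveI : LocallyOfFiniteType (p ≫ a) := inferInstance
  haveI : IsSeparated (p ≫ a) := inferInstance
  -- the cohomology of `U`
  have h1 : Subsingleton (EtCoh.H U (EtCoh.const U (ZMod 2)) (2 * (M + 1))) :=
    Groth.Agent.S3173.result k 2 hn U (p ≫ a) (M + 1 + r) 1 (krullDim_le h (M + 1) hN.le) (fun _ => ⊤)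
      (fun _ => isAffineOpen_top U) (by simp) (EtCoh.const U (ZMod 2))
      (Etrest.ConstBasic.isConstructible_const U (ZMod 2))
      (Etrest.ConstBasic.killedBy_const U (ZMod 2) 2 (fun m => by revert m; decide)) _ (by omega)
  -- the cohomology of `G`
  let G : EtCoh.Ab T := (EtCoh.push p).obj (EtCoh.const U (ZMod 2))
  have h2 : Subsingleton (EtCoh.H T G (2 * (M + 1))) := by
    obtain ⟨e⟩ := Etrest.HPush.nonempty_HPushEquiv p (EtCoh.const U (ZMod 2))
      (fun q hq => rpush_pos a h 2 hn q hq) (2 * (M + 1))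
    exact e.symm.toEquiv.subsingleton
  have hG : EtCoh.KilledBy 2 G := by
    intro V s
    exact Etrest.ConstBasic.killedBy_const U (ZMod 2) 2 (fun m => by revert m; decide) ((EtCoh.bc p).obj V) s
  -- a good open subscheme
  obtain ⟨V, v, hv, ⟨y, hy⟩, φ, hφ⟩ := h (genericPoint T)
  have hVne : Nonempty v.opensRange := ⟨⟨v y, ⟨y, rfl⟩⟩⟩
  obtain ⟨W, hWV, hWne, hWs⟩ := BNSmo.exists_smooth_open a (M + 1) hN v.opensRange hVne
  obtain ⟨eW⟩ := restr_iso v W hWV G (chart_zero v φ hφ 2 (isUnit_of_over 2 (v ≫ a) hn))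
  -- the complement
  let I := Scheme.IdealSheafData.vanishingIdeal (X := T) ⟨(W : Set T)ᶜ, W.2.isClosed_compl⟩
  have hr : Set.range I.subschemeι = (W : Set T)ᶜ := by
    rw [Scheme.IdealSheafData.range_subschemeι, Scheme.IdealSheafData.coe_support_vanishingIdeal]
    rfl
  obtain ⟨w, hw⟩ := Groth.Agent.S0654.result I.subschemeι W (by
    have h3 : Set.range I.subschemeι.base = (W : Set T)ᶜ := hr
    rw [h3, compl_compl]) G
  have hdim : topologicalKrullDim I.subscheme ≤ (M : WithBot ℕ∞) := by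
    have h3 : topologicalKrullDim (Set.range I.subschemeι) ≤ (M : WithBot ℕ∞) := by
      rw [hr]
      refine Fga.DimCut.dim_le_of_forall_not_subset _ W.2.isClosed_compl (fun Z hZ hZW => ?_) M hN.le
      have h4 : Z = Set.univ := by
        rw [irreducibleComponents_eq_singleton] at hZ
        exact hZ
      rw [h4] at hZW
      obtain ⟨z, hz⟩ := hWne
      exact hZW (Set.mem_univ z) hz
    have h5 : Topology.IsInducing (Set.rangeFactorization I.subschemeι) :=
      Topology.IsInducing.of_comp (I.subschemeι.continuous.subtype_mk _) continuous_subtype_val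
        I.subschemeι.isClosedEmbedding.isInducing
    exact h5.topologicalKrullDim_le.trans h3
  have h6 : Subsingleton (EtCoh.H T ((EtCoh.push I.subschemeι).obj ((EtCoh.pull I.subschemeι).obj G)) (2 * M + 1)) := by
    obtain ⟨e⟩ := Etrest.HPush.nonempty_HPushEquiv_of_isFinite I.subschemeι
      ((EtCoh.pull I.subschemeι).obj G) (2 * M + 1)
    have h7 := EtpbcA.CdTwoDim.cohDimLE_two_mul I.subscheme (I.subschemeι ≫ a) M hdim
      ((EtCoh.pull I.subschemeι).obj G)
      (Etrest.ConstBasic.isTorsion_of_killedBy two_pos (Sga4B.ShriekTools.killedBy_pull _ 2 G hG))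
      (2 * M + 1) (by omega)
    exact e.symm.toEquiv.subsingleton
  have h8 : Subsingleton (EtCoh.H T ((EtShriek.extZero W.ι).obj ((EtShriek.restrAlong W.ι).obj G)) (2 * M + 1 + 1)) :=
    CurvesA.CohBasic.van_succ hw (2 * M + 1) h2 h6
  have h9 : Subsingleton (EtCoh.H T ((EtShriek.extZero W.ι).obj (EtCoh.const (W : Scheme.{u}) (ZMod 2)))
      (2 * (M + 1))) :=
    Sga4B.HTools.subsingleton_H_of_iso ((EtShriek.extZero W.ι).mapIso
      ((Etcore.ShriekBasic.pullIsoRestr W.ι).symm.app G ≪≫ eW)) _ h8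
  obtain ⟨E⟩ := Groth.Agent.S3112.result k a W.ι (M + 1) 2 hn (2 * (M + 1)) le_rfl
  have h10 : Subsingleton (EtCoh.H (W : Scheme.{u}) (EtDual.tate (W : Scheme.{u}) 2 (M + 1))
      (2 * (M + 1) - 2 * (M + 1))) := by
    have h11 : Subsingleton (EtCoh.H T ((EtShriek.extZero W.ι).obj (EtCoh.const (W : Scheme.{u}) (ZMod 2)))
      (2 * (M + 1)) →+ ZMod 2) := ⟨fun f g => AddMonoidHom.ext fun x => by
        rw [Subsingleton.elim x 0, map_zero, map_zero]⟩
    exact E.toEquiv.subsingleton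
  rw [Nat.sub_self] at h10
  obtain ⟨t⟩ := Sga4B.TateConst.nonempty_iso k 2 hn (W.ι ≫ a) (M + 1)
  exact not_subsingleton_H0 (W : Scheme.{u}) (Sga4B.HTools.subsingleton_H_of_iso t.symm 0 h10)

end fin

end K659.BNEt
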