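import Groth.Agent.FunFld.K659.BNFin
import Groth.Agent.FunFld.K659.BNAlg
import Groth.Agent.Picfga.ChiFin
import Groth.Agent.Picfga.PicGood
import Groth.Agent.Fga.JacSurj
import Groth.Agent.JacVar.K532.CurvePic

/-!
# Dimensions of the cohomology of the fibres of a family of classes on a curve
-/

set_option autoImplicit false
set_option backward.isDefEq.respectTransparency false
universe u

open CategoryTheory CategoryTheory.Limits AlgebraicGeometry Opposite TopologicalSpace
open Groth.Agent Groth.Agent.Fdesc.LocGen Groth.Agent.Picfga.P1Def Groth.Agent.Picfga.SecBC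
  Groth.Agent.Picfga.LatOf Groth.Agent.Picfga.LatH0 Groth.Agent.Picfga.ChiCech
  Groth.Agent.Picfga.ChiDef Groth.Agent.Picfga.ChiFin Groth.Agent.Grpsch.PicGrp Groth.Agent.Fga.JacSurj
open scoped TensorProduct

namespace K659.BNFib

/-- The dimension of `H^i` of a class on `X_K`. -/
noncomputable def hK {X S : Scheme.{u}} (f : X ⟶ S) {K : Type u} [Field K] (t : Spec (CommRingCat.of K) ⟶ S)
    (i : ℕ) (c : Pic (PicF.XT f (Over.mk t))) : ℕ :=
  letI := overK f t
  K532.CurvePic.h K (PicF.XT f (Over.mk t)) i c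

section one

variable {k : Type u} [Field k] {X : Scheme.{u}} {f : X ⟶ Spec (CommRingCat.of k)} (P : P1Data f)
  {K : Type u} [Field K] (t : Spec (CommRingCat.of K) ⟶ Spec (CommRingCat.of k))
  (M : (PicF.XT f (Over.mk t)).Modules)

theorem sig_bijective : Function.Bijective (sig t) :=
  (Scheme.ΓSpecIso (CommRingCat.of K)).commRingCatIsoToRingEquiv.bijective

theorem hK_zero (hM : PicF.IsInvertible M) :
    hK f t 0 (mk M hM) = Module.finrank Γ((Over.mk t).left, ⊤) (LinearMap.ker (dd P (Over.mk t) M)) := by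
  letI := overK f t
  have h1 : hK f t 0 (mk M hM) = Module.finrank K (Coh.HH (PicF.XT f (Over.mk t)) M 0) := rfl
  rw [h1, (h0Equiv K M (UT_sup P (Over.mk t))).finrank_eq]
  symm
  let j : LinearMap.ker (dd P (Over.mk t) M) ≃+ LinearMap.ker
      (cechD K M (UT f (Over.mk t) P.U₀) (UT f (Over.mk t) P.U₁)) :=
    { toFun := fun x => ⟨(toA t M P.U₀ x.1.1, toA t M P.U₁ x.1.2), by
        rw [LinearMap.mem_ker, toA_dd, LinearMap.mem_ker.mp x.2, map_zero]⟩
      invFun := fun x => ⟨(x.1.1, x.1.2), (toA_dd P t M (x.1.1, x.1.2)).symm.trans x.2⟩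
      left_inv := fun x => rfl
      right_inv := fun x => rfl
      map_add' := fun x y => by
        apply Subtype.ext
        exact Prod.ext (map_add (toA t M P.U₀) _ _) (map_add (toA t M P.U₁) _ _) }
  refine BNFin.finrank_eq_of_semilinear (sig t) j (sig_bijective t) ?_
  intro b x
  apply Subtype.ext
  exact Prod.ext (map_smulₛₗ (toA t M P.U₀) _ _) (map_smulₛₗ (toA t M P.U₁) _ _)

theorem hK_one (hM : PicF.IsInvertible M) :
    hK f t 1 (mk M hM) = Module.finrank Γ((Over.mk t).left, ⊤)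
      (Sec f (Over.mk t) M (P.U₀ ⊓ P.U₁) ⧸ LinearMap.range (dd P (Over.mk t) M)) := by
  letI := overK f t
  have : IsAffine (Over.mk t).left := inferInstanceAs (IsAffine (Spec (CommRingCat.of K)))
  have h1 : hK f t 1 (mk M hM) = Module.finrank K (Coh.HH (PicF.XT f (Over.mk t)) M 1) := rfl
  rw [h1, ← (h1Equiv K M (Ega2.QCohLocal.isQCoh_of_isInvertible hM) (UT_sup P (Over.mk t))
    (isAffineOpen_UT f P.affine₀) (isAffineOpen_UT f P.affine₁)).finrank_eq]
  symm
  let F : (Sec f (Over.mk t) M (P.U₀ ⊓ P.U₁) ⧸ LinearMap.range (dd P (Over.mk t) M)) →ₛₗ[sig t]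
      (SecA K M (UT f (Over.mk t) P.U₀ ⊓ UT f (Over.mk t) P.U₁) ⧸ LinearMap.range
        (cechD K M (UT f (Over.mk t) P.U₀) (UT f (Over.mk t) P.U₁))) :=
    (LinearMap.range (dd P (Over.mk t) M)).liftQ
      ((LinearMap.range (cechD K M (UT f (Over.mk t) P.U₀) (UT f (Over.mk t) P.U₁))).mkQ.comp
      (toA t M (P.U₀ ⊓ P.U₁))) (by
        rintro _ ⟨x, rfl⟩
        rw [LinearMap.mem_ker]
        exact (Submodule.Quotient.mk_eq_zero _).mpr ⟨_, toA_dd P t M x⟩)
  have hF : Function.Bijective F := by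
    constructor
    · rw [injective_iff_map_eq_zero]
      intro y hy
      obtain ⟨m, rfl⟩ := Submodule.mkQ_surjective _ y
      obtain ⟨x, hx⟩ := (Submodule.Quotient.mk_eq_zero _).mp hy
      refine (Submodule.Quotient.mk_eq_zero _).mpr ⟨(x.1, x.2), ?_⟩
      have h2 := toA_dd P t M (x.1, x.2)
      exact h2.symm.trans hx
    · intro y
      obtain ⟨m, rfl⟩ := Submodule.mkQ_surjective _ y
      exact ⟨Submodule.Quotient.mk m, rfl⟩
  exact BNFin.finrank_eq_of_semilinear (sig t) (AddEquiv.ofBijective F.toAddMonoidHom hF) (sig_bijective t)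
    (fun b x => map_smulₛₗ F b x)

end one

end K659.BNFib
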