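import Groth.Agent.FunFld.K659.BNFib
import Groth.Agent.Picfga.PicGood

/-!
# Dimensions of the cohomology of the fibres: base change and semicontinuity
-/

set_option autoImplicit false
set_option backward.isDefEq.respectTransparency false
universe u

open CategoryTheory CategoryTheory.Limits AlgebraicGeometry Opposite TopologicalSpace
open Groth.Agent Groth.Agent.Fdesc.LocGen Groth.Agent.Picfga.P1Def Groth.Agent.Picfga.SecBC
  Groth.Agent.Picfga.LatOf Groth.Agent.Picfga.LatH0 Groth.Agent.Picfga.ChiCech Groth.Agent.Picfga.PicGood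
  Groth.Agent.Picfga.ChiDef Groth.Agent.Picfga.ChiFin Groth.Agent.Grpsch.PicGrp Groth.Agent.Fga.JacSurj
  Groth.Agent.Ega3A.FiberRank Groth.Agent.Fga.RigGrp
open scoped TensorProduct

namespace K659.BNFib

section defs

variable {X S : Scheme.{u}} (f : X ⟶ S)

/-- The dimension of `H^i` along a field-valued point of the base. -/
noncomputable def hPt (T : Over S) {K : Type u} [Field K] (y : Spec (CommRingCat.of K) ⟶ T.left) (i : ℕ)
    (c : Pic (PicF.XT f T)) : ℕ :=
  hK f (y ≫ T.hom) i (pull (PicF.XTmap f (ofHom T y)) c)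

/-- The dimension of `H^i` at a point of the base. -/
noncomputable def hAt (T : Over S) (τ : T.left) (i : ℕ) (c : Pic (PicF.XT f T)) : ℕ :=
  hPt f T (fsr T.left τ) i c

variable {f}

theorem hK_congr {K : Type u} [Field K] {t t' : Spec (CommRingCat.of K) ⟶ S} (h : t = t')
    {T : Over S} (g : Over.mk t ⟶ T) (g' : Over.mk t' ⟶ T) (hg : g.left = g'.left) (i : ℕ)
    (c : Pic (PicF.XT f T)) :
    hK f t i (pull (PicF.XTmap f g) c) = hK f t' i (pull (PicF.XTmap f g') c) := by
  subst h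
  have : g = g' := Over.OverMorphism.ext hg
  rw [this]

theorem hPt_congr {K : Type u} [Field K] (T : Over S) {y y' : Spec (CommRingCat.of K) ⟶ T.left} (h : y = y')
    (i : ℕ) (c : Pic (PicF.XT f T)) : hPt f T y i c = hPt f T y' i c := by
  subst h; rfl

theorem hPt_pull {K : Type u} [Field K] {T T' : Over S} (g : T' ⟶ T) (y : Spec (CommRingCat.of K) ⟶ T'.left)
    (i : ℕ) (c : Pic (PicF.XT f T)) : hPt f T' y i (pull (PicF.XTmap f g) c) = hPt f T (y ≫ g.left) i c := by
  rw [hPt, hPt, ← pull_comp, ← XTmap_comp]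
  have h1 : y ≫ T'.hom = (y ≫ g.left) ≫ T.hom := by rw [Category.assoc, Over.w g]
  exact hK_congr h1 _ _ rfl i c

end defs

section two

variable {k : Type u} [Field k] {X : Scheme.{u}} {f : X ⟶ Spec (CommRingCat.of k)} (P : P1Data f)

/-- The cokernel of the Čech differential. -/
abbrev Cok (T : Over (Spec (CommRingCat.of k))) (M : (PicF.XT f T).Modules) : Type u :=
  Sec f T M (P.U₀ ⊓ P.U₁) ⧸ LinearMap.range (dd P T M)

section bc

variable {T T' : Over (Spec (CommRingCat.of k))} (g : T' ⟶ T) [IsAffine T.left] [IsAffine T'.left]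
  {M : (PicF.XT f T).Modules} (hM : PicF.IsInvertible M)

include hM in
theorem ker_pb :
    letI := algT g
    Module.finrank Γ(T'.left, ⊤) (LinearMap.ker (dd P T' (pb f g M))) =
      Module.finrank Γ(T'.left, ⊤) (LinearMap.ker ((dd P T M).baseChange Γ(T'.left, ⊤))) := by
  letI := algT g
  exact (nonempty_kerEquiv P g M (Ega2.QCohLocal.isQCoh_of_isInvertible hM)).some.finrank_eq.symm

include hM in
theorem cok_pb :
    letI := algT g
    Module.finrank Γ(T'.left, ⊤) (Cok P T' (pb f g M)) =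
      Module.finrank Γ(T'.left, ⊤) (Γ(T'.left, ⊤) ⊗[Γ(T.left, ⊤)] Cok P T M) := by
  letI := algT g
  letI i (V : X.Opens) : Module Γ(T.left, ⊤) (Sec f T' (pb f g M) V) :=
    Module.compHom _ (algebraMap Γ(T.left, ⊤) Γ(T'.left, ⊤))
  haveI (V : X.Opens) : IsScalarTower Γ(T.left, ⊤) Γ(T'.left, ⊤) (Sec f T' (pb f g M) V) :=
    ⟨fun a b c => by rw [Algebra.smul_def, mul_smul]; rfl⟩
  have hM' := Ega2.QCohLocal.isQCoh_of_isInvertible hM
  have hp := Picfga.KerBC.isBaseChange_prodMap (isBaseChange_pbSecL f g P.affine₀ M hM')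
    (isBaseChange_pbSecL f g P.affine₁ M hM')
  have hb := isBaseChange_pbSecL f g (isAffineOpen_inf P) M hM'
  exact (BNFin.cokerEquiv hp hb (d := dd P T M) (d' := dd P T' (pb f g M))
    (fun x => dd_pbSec P g M x)).finrank_eq.symm

variable (hT : IsField Γ(T.left, ⊤)) (hT' : IsField Γ(T'.left, ⊤))

include hM hT hT' in
theorem ker_field : Module.finrank Γ(T'.left, ⊤) (LinearMap.ker (dd P T' (pb f g M))) =
    Module.finrank Γ(T.left, ⊤) (LinearMap.ker (dd P T M)) := by
  letI := algT g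
  rw [ker_pb P g hM]
  exact Picfga.KerBC.finrank_ker_isField (d := dd P T M) hT hT'

include hM hT hT' in
theorem cok_field : Module.finrank Γ(T'.left, ⊤) (Cok P T' (pb f g M)) =
    Module.finrank Γ(T.left, ⊤) (Cok P T M) := by
  letI := algT g
  rw [cok_pb P g hM]
  letI := hT.toField
  letI := hT'.toField
  exact Module.finrank_baseChange

end bc

theorem hPt_zero {K : Type u} [Field K] {T : Over (Spec (CommRingCat.of k))}
    (y : Spec (CommRingCat.of K) ⟶ T.left) {M : (PicF.XT f T).Modules} (hM : PicF.IsInvertible M) :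
    hPt f T y 0 (mk M hM) = Module.finrank Γ((Over.mk (y ≫ T.hom)).left, ⊤)
      (LinearMap.ker (dd P (Over.mk (y ≫ T.hom)) (pb f (ofHom T y) M))) := by
  rw [hPt, pull_mk]
  exact hK_zero P _ _ _

theorem hPt_one {K : Type u} [Field K] {T : Over (Spec (CommRingCat.of k))}
    (y : Spec (CommRingCat.of K) ⟶ T.left) {M : (PicF.XT f T).Modules} (hM : PicF.IsInvertible M) :
    hPt f T y 1 (mk M hM) = Module.finrank Γ((Over.mk (y ≫ T.hom)).left, ⊤)
      (Cok P (Over.mk (y ≫ T.hom)) (pb f (ofHom T y) M)) := by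
  rw [hPt, pull_mk]
  exact hK_one P _ _ _

include P in
theorem hPt_specMap {K K' : Type u} [Field K] [Field K'] (φ : CommRingCat.of K ⟶ CommRingCat.of K')
    (t : Spec (CommRingCat.of K) ⟶ Spec (CommRingCat.of k)) (c : Pic (PicF.XT f (Over.mk t))) (i : ℕ) (hi : i ≤ 1) :
    hPt f (Over.mk t) (Spec.map φ) i c = hK f t i c := by
  obtain ⟨M, hM, rfl⟩ := exists_mk c
  have : IsAffine (Over.mk t).left := inferInstanceAs (IsAffine (Spec (CommRingCat.of K)))
  have : IsAffine (Over.mk (Spec.map φ ≫ (Over.mk t).hom)).left := inferInstanceAs (IsAffine (Spec (CommRingCat.of K')))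
  have h1 : IsField Γ((Over.mk t).left, ⊤) := isField_Γ t
  have h2 : IsField Γ((Over.mk (Spec.map φ ≫ (Over.mk t).hom)).left, ⊤) := isField_Γ (Spec.map φ ≫ (Over.mk t).hom)
  interval_cases i
  · rw [hPt_zero P (T := Over.mk t) (Spec.map φ) hM, hK_zero P t M hM]
    exact ker_field P (ofHom (Over.mk t) (Spec.map φ)) hM h1 h2
  · rw [hPt_one P (T := Over.mk t) (Spec.map φ) hM, hK_one P t M hM]
    exact cok_field P (ofHom (Over.mk t) (Spec.map φ)) hM h1 h2

include P in
theorem hPt_comp {K K' : Type u} [Field K] [Field K'] (φ : CommRingCat.of K ⟶ CommRingCat.of K')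
    (T : Over (Spec (CommRingCat.of k))) (y : Spec (CommRingCat.of K) ⟶ T.left) (i : ℕ) (hi : i ≤ 1)
    (c : Pic (PicF.XT f T)) : hPt f T (Spec.map φ ≫ y) i c = hPt f T y i c := by
  have h := hPt_specMap P φ (y ≫ T.hom) (pull (PicF.XTmap f (ofHom T y)) c) i hi
  rw [hPt_pull (ofHom T y) (Spec.map φ)] at h
  exact h

include P in
/-- The dimension along a field-valued point only depends on the image point. -/
theorem hPt_eq_hAt {K : Type u} [Field K] (T : Over (Spec (CommRingCat.of k)))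
    (y : Spec (CommRingCat.of K) ⟶ T.left) (τ : T.left)
    (hy : ∀ z, y z = τ) (i : ℕ) (hi : i ≤ 1) (c : Pic (PicF.XT f T)) : hPt f T y i c = hAt f T τ i c := by
  obtain ⟨φ, hφ⟩ := exists_fsr y τ (hy _)
  rw [← hPt_congr T hφ i c]
  exact hPt_comp P φ T _ i hi c

include P in
theorem hAt_pull {T T' : Over (Spec (CommRingCat.of k))} (g : T' ⟶ T) (τ : T'.left) (i : ℕ) (hi : i ≤ 1)
    (c : Pic (PicF.XT f T)) : hAt f T' τ i (pull (PicF.XTmap f g) c) = hAt f T (g.left τ) i c := by
  rw [hAt, hPt_pull]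
  refine hPt_eq_hAt P T _ _ (fun z => ?_) i hi c
  rw [Scheme.Hom.comp_apply, fsr_apply]

/-- The ideal of the image of a field-valued point. -/
theorem asIdeal_isoSpec {K : Type u} [Field K] {Y : Scheme.{u}} [IsAffine Y] (y : Spec (CommRingCat.of K) ⟶ Y)
    (z : Spec (CommRingCat.of K)) : (Y.isoSpec.hom (y z) : PrimeSpectrum Γ(Y, ⊤)).asIdeal =
      RingHom.ker y.appTop.hom := by
  have h1 : Y.isoSpec.hom (y z) = Spec.map y.appTop ((Spec (CommRingCat.of K)).isoSpec.hom z) := by
    rw [← Scheme.Hom.comp_apply, ← Scheme.Hom.comp_apply, Scheme.isoSpec_hom_naturality]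
  rw [h1]
  have h2 : IsField Γ(Spec (CommRingCat.of K), ⊤) :=
    ((Scheme.ΓSpecIso (CommRingCat.of K)).commRingCatIsoToRingEquiv.toMulEquiv).isField (Field.toIsField K)
  letI := h2.toField
  have h3 : ((Spec (CommRingCat.of K)).isoSpec.hom z : PrimeSpectrum Γ(Spec (CommRingCat.of K), ⊤)).asIdeal = ⊥ :=
    Ideal.eq_bot_of_prime _
  change Ideal.comap y.appTop.hom _ = _
  rw [h3]
  rfl

/-- The dimension of `H^1` as a fibre rank. -/
theorem hAt_one_eq_fiberRank {T : Over (Spec (CommRingCat.of k))} [IsAffine T.left] {M : (PicF.XT f T).Modules}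
    (hM : PicF.IsInvertible M) (τ : T.left) :
    hAt f T τ 1 (mk M hM) = fiberRank (R := Γ(T.left, ⊤)) (Cok P T M) (T.left.isoSpec.hom τ) := by
  have i1 : IsAffine (Over.mk (fsr T.left τ ≫ T.hom)).left :=
    inferInstanceAs (IsAffine (Spec (CommRingCat.of (T.left.residueField τ))))
  have h2 : IsField Γ((Over.mk (fsr T.left τ ≫ T.hom)).left, ⊤) := isField_Γ (fsr T.left τ ≫ T.hom)
  rw [hAt, hPt_one P, cok_pb P (ofHom T (fsr T.left τ)) hM]
  letI := algT (ofHom T (fsr T.left τ))
  letI := h2.toField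
  refine finrank_tensor_eq_fiberRank (R := Γ(T.left, ⊤)) (Cok P T M) _ (T.left.isoSpec.hom τ) ?_
  have h3 := asIdeal_isoSpec (fsr T.left τ) (IsLocalRing.closedPoint (T.left.residueField τ))
  rw [fsr_apply] at h3
  exact h3

theorem finite_Cok {T : Over (Spec (CommRingCat.of k))} [IsAffine T.left] {M : (PicF.XT f T).Modules}
    (hM : PicF.IsInvertible M) : Module.Finite Γ(T.left, ⊤) (Cok P T M) :=
  BNAlg.finite_coker (dd P T M) (latOf T P hM).exists_fg_coker

include P in
/-- Semicontinuity, affine case. -/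
theorem isOpen_hAt_one_le_affine {T : Over (Spec (CommRingCat.of k))} [IsAffine T.left] (c : Pic (PicF.XT f T))
    (n : ℕ) : IsOpen {τ : T.left | hAt f T τ 1 c ≤ n} := by
  obtain ⟨M, hM, rfl⟩ := exists_mk c
  have := finite_Cok P hM
  have h1 := isOpen_fiberRank_le (R := Γ(T.left, ⊤)) (M := Cok P T M) n
  have h2 := h1.preimage T.left.isoSpec.hom.continuous
  convert h2 using 1
  ext τ
  change hAt f T τ 1 (mk M hM) ≤ n ↔ fiberRank (R := Γ(T.left, ⊤)) (Cok P T M) (T.left.isoSpec.hom τ) ≤ n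
  rw [hAt_one_eq_fiberRank P hM τ]

include P in
/-- Semicontinuity. -/
theorem isOpen_hAt_one_le (T : Over (Spec (CommRingCat.of k))) (c : Pic (PicF.XT f T))
    (n : ℕ) : IsOpen {τ : T.left | hAt f T τ 1 c ≤ n} := by
  rw [isOpen_iff_forall_mem_open]
  intro τ hτ
  obtain ⟨W, hW, hτW, -⟩ := exists_isAffineOpen_mem_and_subset (x := τ) (U := ⊤) trivial
  let TW : Over (Spec (CommRingCat.of k)) := Over.mk (W.ι ≫ T.hom)
  haveI : IsAffine TW.left := hW
  let j : TW ⟶ T := Picfga.OverRep.res T W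
  have h1 := isOpen_hAt_one_le_affine P (pull (PicF.XTmap f j) c) n
  have h2 := W.ι.isOpenEmbedding.isOpenMap _ h1
  refine ⟨_, ?_, h2, ⟨(⟨τ, hτW⟩ : W), ?_, rfl⟩⟩
  · rintro _ ⟨z, hz, rfl⟩
    change hAt f TW z 1 (pull (PicF.XTmap f j) c) ≤ n at hz
    rw [hAt_pull P j z 1 le_rfl c] at hz
    exact hz
  · change hAt f TW (⟨τ, hτW⟩ : W) 1 (pull (PicF.XTmap f j) c) ≤ n
    rw [hAt_pull P j _ 1 le_rfl c]
    exact hτ

/-- Constant `h^1` over a reduced Noetherian affine base gives a projective cokernel. -/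
theorem projective_Cok {T : Over (Spec (CommRingCat.of k))} [IsAffine T.left] [IsReduced T.left]
    [IsNoetherianRing Γ(T.left, ⊤)] {M : (PicF.XT f T).Modules} (hM : PicF.IsInvertible M) (n : ℕ)
    (h : ∀ τ : T.left, hAt f T τ 1 (mk M hM) = n) : Module.Projective Γ(T.left, ⊤) (Cok P T M) := by
  have := finite_Cok P hM
  have : Module.FinitePresentation Γ(T.left, ⊤) (Cok P T M) := Module.finitePresentation_of_finite _ _
  apply projective_of_isReduced
  have h1 : fiberRank (R := Γ(T.left, ⊤)) (Cok P T M) = fun _ => n := by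
    funext x
    obtain ⟨τ, rfl⟩ : ∃ τ, T.left.isoSpec.hom τ = x := (ConcreteCategory.bijective_of_isIso T.left.isoSpec.hom.base).2 x
    rw [← hAt_one_eq_fiberRank P hM τ, h]
  rw [h1]
  exact IsLocallyConstant.const n

end two

end K659.BNFib
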