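import Mathlib.LinearAlgebra.Dimension.Finrank
import Mathlib.LinearAlgebra.Dimension.Basic
import Mathlib.RingTheory.TensorProduct.Basic
import Mathlib.RingTheory.IsTensorProduct
import Mathlib.LinearAlgebra.TensorProduct.RightExactness
import Groth.Agent.Picfga.KerBC

/-!
# Dimensions under semilinear bijections, cokernels under base change
-/

set_option autoImplicit false
universe u

open TensorProduct

namespace K659.BNFin

theorem finrank_eq_of_semilinear {R R' M M' : Type u} [Semiring R] [Semiring R'] [AddCommMonoid M]
    [AddCommMonoid M'] [Module R M] [Module R' M'] (i : R → R') (j : M ≃+ M') (hi : Function.Bijective i)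
    (hc : ∀ (r : R) (m : M), j (r • m) = i r • j m) : Module.finrank R M = Module.finrank R' M' := by
  have h := lift_rank_eq_of_equiv_equiv i j hi hc
  unfold Module.finrank
  have h1 := congrArg Cardinal.toNat h
  simpa using h1

section alg

variable {B B' K : Type u} [CommRing B] [CommRing B'] [CommRing K] [Algebra B B'] [Algebra B K] (e : B' ≃ₐ[B] K)

/-- Change the coefficient ring along an isomorphism. -/
noncomputable def cong (F : Type u) [AddCommGroup F] [Module B F] : B' ⊗[B] F ≃ₗ[B] K ⊗[B] F :=
  TensorProduct.congr e.toLinearEquiv (LinearEquiv.refl B F)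

theorem cong_tmul (F : Type u) [AddCommGroup F] [Module B F] (b : B') (x : F) :
    cong e F (b ⊗ₜ x) = e b ⊗ₜ x := rfl

theorem cong_smul (F : Type u) [AddCommGroup F] [Module B F] (b : B') (z : B' ⊗[B] F) :
    cong e F (b • z) = e b • cong e F z := by
  induction z with
  | zero => simp
  | add x y hx hy => rw [smul_add, map_add, hx, hy, map_add, smul_add]
  | tmul a x => rw [TensorProduct.smul_tmul', cong_tmul, cong_tmul, TensorProduct.smul_tmul', smul_eq_mul, map_mul, smul_eq_mul]

variable {F M : Type u} [AddCommGroup F] [Module B F] [AddCommGroup M] [Module B M] (d : F →ₗ[B] M)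

theorem cong_baseChange (z : B' ⊗[B] F) : d.baseChange K (cong e F z) = cong e M (d.baseChange B' z) := by
  induction z with
  | zero => simp
  | add x y hx hy => rw [map_add, map_add, hx, hy, map_add, map_add]
  | tmul a x => rw [cong_tmul, LinearMap.baseChange_tmul, LinearMap.baseChange_tmul, cong_tmul]

include e in
theorem finrank_ker_eq : Module.finrank B' (LinearMap.ker (d.baseChange B')) =
    Module.finrank K (LinearMap.ker (d.baseChange K)) := by
  let j : LinearMap.ker (d.baseChange B') ≃+ LinearMap.ker (d.baseChange K) :=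
    { toFun := fun z => ⟨cong e F z.1, by
        rw [LinearMap.mem_ker, cong_baseChange, LinearMap.mem_ker.mp z.2, map_zero]⟩
      invFun := fun z => ⟨(cong e F).symm z.1, by
        rw [LinearMap.mem_ker]
        apply (cong e M).injective
        rw [← cong_baseChange, LinearEquiv.apply_symm_apply, map_zero]
        exact z.2⟩
      left_inv := fun z => Subtype.ext ((cong e F).symm_apply_apply z.1)
      right_inv := fun z => Subtype.ext ((cong e F).apply_symm_apply z.1)
      map_add' := fun x y => Subtype.ext (map_add (cong e F) x.1 y.1) }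
  refine finrank_eq_of_semilinear e j e.bijective ?_
  intro b z
  exact Subtype.ext (cong_smul e F b z.1)

include e in
theorem finrank_tensor_eq (C : Type u) [AddCommGroup C] [Module B C] : Module.finrank B' (B' ⊗[B] C) =
    Module.finrank K (K ⊗[B] C) :=
  finrank_eq_of_semilinear e (cong e C).toAddEquiv e.bijective (cong_smul e C)

end alg

section coker

variable {B B' N N' M M' : Type*} [CommRing B] [CommRing B'] [Algebra B B']
  [AddCommGroup N] [Module B N] [AddCommGroup M] [Module B M]
  [AddCommGroup N'] [Module B' N'] [Module B N'] [IsScalarTower B B' N']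
  [AddCommGroup M'] [Module B' M'] [Module B M'] [IsScalarTower B B' M']
  {p : N →ₗ[B] N'} {b : M →ₗ[B] M'} (hp : IsBaseChange B' p) (hb : IsBaseChange B' b)
  {d : N →ₗ[B] M} {d' : N' →ₗ[B'] M'} (hd : ∀ x, d' (p x) = b (d x))

include hp hd in
/-- The cokernel commutes with base change. -/
noncomputable def cokerEquiv : (B' ⊗[B] (M ⧸ LinearMap.range d)) ≃ₗ[B'] (M' ⧸ LinearMap.range d') := by
  let q : B' ⊗[B] M →ₗ[B'] B' ⊗[B] (M ⧸ LinearMap.range d) := (LinearMap.range d).mkQ.baseChange B'
  have hq : Function.Surjective q := LinearMap.lTensor_surjective B' (Submodule.mkQ_surjective _)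
  have hex : Function.Exact (d.baseChange B') q := by
    have h := lTensor_exact B' (f := d) (g := (LinearMap.range d).mkQ)
      (LinearMap.exact_map_mkQ_range d) (Submodule.mkQ_surjective _)
    exact h
  have hker : LinearMap.ker q = LinearMap.range (d.baseChange B') := LinearMap.exact_iff.mp hex
  let e1 : ((B' ⊗[B] M) ⧸ LinearMap.ker q) ≃ₗ[B'] B' ⊗[B] (M ⧸ LinearMap.range d) := q.quotKerEquivOfSurjective hq
  refine e1.symm.trans (Submodule.Quotient.equiv _ _ hb.equiv ?_)
  rw [hker]
  ext y
  constructor
  · rintro ⟨_, ⟨z, rfl⟩, rfl⟩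
    exact ⟨hp.equiv z, Groth.Agent.Picfga.KerBC.comm_equiv hp hb hd z⟩
  · rintro ⟨z, rfl⟩
    refine ⟨d.baseChange B' (hp.equiv.symm z), ⟨_, rfl⟩, ?_⟩
    have := Groth.Agent.Picfga.KerBC.comm_equiv hp hb hd (hp.equiv.symm z)
    rw [LinearEquiv.apply_symm_apply] at this
    exact this.symm

end coker

end K659.BNFin
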