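import Groth.Agent.FunFld.K659.BNAlg3
import Groth.Agent.Picfga.PicCBC
import Groth.Agent.Fga.RigGrp

/-!
# Universal bases of sections of an invertible module on a relative curve, adapted to a section
-/

set_option autoImplicit false
set_option backward.isDefEq.respectTransparency false
universe u

open CategoryTheory CategoryTheory.Limits AlgebraicGeometry Opposite TopologicalSpace
open Groth.Agent Groth.Agent.Fdesc.LocGen Groth.Agent.Picfga.P1Def Groth.Agent.Picfga.SecBC
  Groth.Agent.Picfga.LatOf Groth.Agent.Picfga.LatH0 Groth.Agent.Picfga.PicGood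
open scoped TensorProduct

namespace K659.BNLoc

section ev

variable {S X : Scheme.{u}} (f : X ⟶ S) (σ : S ⟶ X) (hσ : σ ≫ f = 𝟙 S)

/-- Restriction of a section along `σ_T`. -/
noncomputable def sg (T : Over S) (M : (PicF.XT f T).Modules) (s : Γ(M, ⊤)) :
    Γ((Scheme.Modules.pullback (PicF.secT f σ hσ T)).obj M, ⊤) :=
  pullTop (PicF.secT f σ hσ T) s

theorem sg_add (T : Over S) (M : (PicF.XT f T).Modules) (s s' : Γ(M, ⊤)) :
    sg f σ hσ T M (s + s') = sg f σ hσ T M s + sg f σ hσ T M s' := pullSec_add _ _ _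

theorem sg_zero (T : Over S) (M : (PicF.XT f T).Modules) : sg f σ hσ T M 0 = 0 := by
  have := sg_add f σ hσ T M 0 0
  rw [add_zero] at this
  exact left_eq_add.mp this

theorem secT_appTop_fn (T : Over S) (c : Γ(T.left, ⊤)) :
    (PicF.secT f σ hσ T).appTop (fn f T c) = c := by
  change (PicF.secT f σ hσ T).appTop ((PicF.XTproj f T).appTop c) = c
  rw [← CommRingCat.comp_apply, ← Scheme.Hom.comp_appTop, Fga.RigGrp.secT_XTproj]
  simp

theorem sg_smul (T : Over S) (M : (PicF.XT f T).Modules) (c : Γ(T.left, ⊤)) (s : Γ(M, ⊤)) :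
    sg f σ hσ T M (fn f T c • s) = c • sg f σ hσ T M s := by
  refine (pullSec_smul (PicF.secT f σ hσ T) (fn f T c) s).trans ?_
  congr 1
  exact secT_appTop_fn f σ hσ T c

theorem sg_map (T : Over S) {M N : (PicF.XT f T).Modules} (φ : M ⟶ N) (s : Γ(M, ⊤)) :
    sg f σ hσ T N (φ.app ⊤ s) = ((Scheme.Modules.pullback (PicF.secT f σ hσ T)).map φ).app ⊤ (sg f σ hσ T M s) :=
  (pullback_map_pullSec (PicF.secT f σ hσ T) φ (U := ⊤) s).symm

/-- Base change of the restriction. -/
theorem exists_sgComp {T T' : Over S} (g : T' ⟶ T) (M : (PicF.XT f T).Modules) :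
    ∃ ψ : (Scheme.Modules.pullback (PicF.secT f σ hσ T')).obj (pb f g M) ≅
      (Scheme.Modules.pullback g.left).obj ((Scheme.Modules.pullback (PicF.secT f σ hσ T)).obj M),
      ∀ s : Γ(M, ⊤), ψ.hom.app ⊤ (sg f σ hσ T' (pb f g M) (pbTop f g M s)) =
        pullTop g.left (sg f σ hσ T M s) := by
  obtain ⟨φ, hφ⟩ := exists_iso_of_eq (Fga.RigGrp.secT_XTmap f σ hσ g) M
  refine ⟨(Scheme.Modules.pullbackComp (PicF.secT f σ hσ T') (PicF.XTmap f g)).app M ≪≫ φ ≪≫
    ((Scheme.Modules.pullbackComp g.left (PicF.secT f σ hσ T)).app M).symm, fun s => ?_⟩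
  have h1 := pullSec_comp' (PicF.secT f σ hσ T') (PicF.XTmap f g) (U := ⊤) s
  have h2 := pullSec_comp g.left (PicF.secT f σ hσ T) (U := ⊤) s
  have h3 := hφ s
  have h4 : φ.hom.app ⊤ (((Scheme.Modules.pullbackComp (PicF.secT f σ hσ T') (PicF.XTmap f g)).hom.app M).app ⊤
    (sg f σ hσ T' (pb f g M) (pbTop f g M s))) = pullTop (g.left ≫ PicF.secT f σ hσ T) s :=
    (congrArg (φ.hom.app ⊤) h1).trans h3
  exact (congrArg (((Scheme.Modules.pullbackComp g.left (PicF.secT f σ hσ T)).inv.app M).app ⊤) h4).trans h2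

/-- The pullback of a generator along the section. -/
theorem exists_epb {T T' : Over S} (g : T' ⟶ T) (M : (PicF.XT f T).Modules)
    {e : Γ((Scheme.Modules.pullback (PicF.secT f σ hσ T)).obj M, ⊤)} (he : IsGen e) :
    ∃ e' : Γ((Scheme.Modules.pullback (PicF.secT f σ hσ T')).obj (pb f g M), ⊤), IsGen e' ∧
      ∀ (s : Γ(M, ⊤)) (b : Γ(T.left, ⊤)), sg f σ hσ T M s = b • e →
        sg f σ hσ T' (pb f g M) (pbTop f g M s) = (g.left.appTop b) • e' := by
  obtain ⟨ψ, hψ⟩ := exists_sgComp f σ hσ g M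
  refine ⟨ψ.inv.app ⊤ (pullTop g.left e), (he.pullTop g.left).app ψ.inv, fun s b h => ?_⟩
  apply app_injective ψ ⊤
  rw [hψ, h]
  refine (pullSec_smul g.left b e).trans ?_
  rw [Scheme.Modules.Hom.app_smul, hom_app_inv_app]
  rfl

end ev

variable {k : Type u} [Field k] {X : Scheme.{u}} {f : X ⟶ Spec (CommRingCat.of k)} (P : P1Data f)
  (σ : Spec (CommRingCat.of k) ⟶ X) (hσ : σ ≫ f = 𝟙 (Spec (CommRingCat.of k)))

include P in
/-- A universal basis of the sections near a point, adapted to the section `σ`. -/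
theorem exists_ubas {T T₀ : Over (Spec (CommRingCat.of k))} [IsAffine T.left] [IsAffine T₀.left]
    (M : (PicF.XT f T).Modules) (hM : PicF.IsInvertible M) (i : T₀ ⟶ T)
    (hT₀ : IsField Γ(T₀.left, ⊤))
    (hproj : Module.Projective Γ(T.left, ⊤) (Sec f T M (P.U₀ ⊓ P.U₁) ⧸ LinearMap.range (dd P T M)))
    (r : ℕ) (hr : Module.finrank Γ(T₀.left, ⊤) (LinearMap.ker (dd P T₀ (pb f i M))) = r + 1)
    {e : Γ((Scheme.Modules.pullback (PicF.secT f σ hσ T)).obj M, ⊤)} (he : IsGen e)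
    (hev : ∃ s : Γ(pb f i M, ⊤), sg f σ hσ T₀ (pb f i M) s ≠ 0) :
    ∃ (c : Γ(T.left, ⊤)) (v : Fin (r + 1) → Γ(M, ⊤)) (b : Fin (r + 1) → Γ(T.left, ⊤)),
      i.left.appTop c ≠ 0 ∧ (∀ j, sg f σ hσ T M (v j) = b j • e) ∧ (∀ j, j ≠ 0 → b j = 0) ∧ b 0 ∣ c ∧
      ∀ (T' : Over (Spec (CommRingCat.of k))) (g : T' ⟶ T), IsAffine T'.left →
        IsUnit (g.left.appTop c) → ∀ m : Γ(pb f g M, ⊤), ∃! a : Fin (r + 1) → Γ(T'.left, ⊤),
          m = ∑ j, fn f T' (a j) • pbTop f g M (v j) := by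
  have hM' := Ega2.QCohLocal.isQCoh_of_isInvertible hM
  -- the modules are projective
  have hpM : Module.Projective Γ(T.left, ⊤) (Sec f T M (P.U₀ ⊓ P.U₁)) := (latOf T P hM).projective_M
  have hp0 : Module.Projective Γ(T.left, ⊤) (Sec f T M P.U₀) :=
    Picfga.P1Alg.projective_of_polynomial _ (latOf T P hM).projective₀
  have hp1 : Module.Projective Γ(T.left, ⊤) (Sec f T M P.U₁) :=
    Picfga.P1Alg.projective_of_polynomial _ (latOf T P hM).projective₁
  obtain ⟨h, hh⟩ := BNAlg.exists_regular (dd P T M)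
  obtain ⟨G, hG, hGd⟩ := (latOf T P hM).exists_fg_ker
  have hGd' : LinearMap.ker (dd P T M) ≤ G := hGd
  have hfin : Module.Finite Γ(T.left, ⊤) (LinearMap.ker (dd P T M)) := BNAlg.finite_ker h hh hG hGd'
  have hproj' : Module.Projective Γ(T.left, ⊤) (LinearMap.ker (dd P T M)) := BNAlg.projective_ker h hh
  -- sections and the kernel
  choose sc hsc using fun x : LinearMap.ker (dd P T M) => pr_surj P T M x.1 x.2
  have hscadd : ∀ x y, sc (x + y) = sc x + sc y := by
    intro x y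
    apply pr_injective P T M
    rw [hsc]
    have : pr P T M (sc x + sc y) = pr P T M (sc x) + pr P T M (sc y) :=
      Prod.ext (map_add _ _ _) (map_add _ _ _)
    rw [this, hsc, hsc]
    rfl
  have hscsmul : ∀ (c : Γ(T.left, ⊤)) x, sc (c • x) = fn f T c • sc x := by
    intro c x
    apply pr_injective P T M
    rw [hsc, pr_smul, hsc]
    rfl
  choose ev hev' using fun s : Γ(M, ⊤) => he.exists_eq (sg f σ hσ T M s)
  let l : LinearMap.ker (dd P T M) →ₗ[Γ(T.left, ⊤)] Γ(T.left, ⊤) :=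
    { toFun := fun x => ev (sc x)
      map_add' := fun x y => by
        apply he.ext
        rw [← hev', hscadd, sg_add, add_smul, ← hev', ← hev']
      map_smul' := fun c x => by
        apply he.ext
        rw [← hev', hscsmul, sg_smul, RingHom.id_apply, smul_eq_mul, mul_smul, ← hev'] }
  -- base change data
  have bcdata : ∀ {T' : Over (Spec (CommRingCat.of k))} (g : T' ⟶ T), IsAffine T'.left →
      ∀ {n : ℕ} (v : Fin n → LinearMap.ker (dd P T M)),
      (letI := algT g; Function.Bijective ((Fintype.linearCombination Γ(T.left, ⊤) v).baseChange Γ(T'.left, ⊤))) →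
      ∀ m : Γ(pb f g M, ⊤), ∃! a : Fin n → Γ(T'.left, ⊤),
          m = ∑ j, fn f T' (a j) • pbTop f g M (sc (v j)) := by
    intro T' g hT' n v hv m
    letI := algT g
    letI i (V : X.Opens) : Module Γ(T.left, ⊤) (Sec f T' (pb f g M) V) :=
      Module.compHom _ (algebraMap Γ(T.left, ⊤) Γ(T'.left, ⊤))
    haveI (V : X.Opens) : IsScalarTower Γ(T.left, ⊤) Γ(T'.left, ⊤) (Sec f T' (pb f g M) V) :=
      ⟨fun a b c => by rw [Algebra.smul_def, mul_smul]; rfl⟩
    have hp := Picfga.KerBC.isBaseChange_prodMap (isBaseChange_pbSecL f g P.affine₀ M hM')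
      (isBaseChange_pbSecL f g P.affine₁ M hM')
    have hb := isBaseChange_pbSecL f g (isAffineOpen_inf P) M hM'
    have key := BNAlg.existsUnique_coeff' h hh hp hb (d' := dd P T' (pb f g M))
      (fun x => dd_pbSec P g M x) v hv (pr P T' (pb f g M) m) (pr_mem P T' (pb f g M) m)
    have h1 : ∀ a : Fin n → Γ(T'.left, ⊤), m = ∑ j, fn f T' (a j) • pbTop f g M (sc (v j)) ↔
        pr P T' (pb f g M) m = ∑ j, a j • ((pbSecL f g M P.U₀).prodMap (pbSecL f g M P.U₁)) (v j).1 := by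
      intro a
      rw [← (pr_injective P T' (pb f g M)).eq_iff]
      have h2 : pr P T' (pb f g M) (∑ j, fn f T' (a j) • pbTop f g M (sc (v j))) =
          ∑ j, pr P T' (pb f g M) (fn f T' (a j) • pbTop f g M (sc (v j))) := by
        let prL : Γ(pb f g M, ⊤) →+ (Sec f T' (pb f g M) P.U₀ × Sec f T' (pb f g M) P.U₁) :=
          { toFun := pr P T' (pb f g M)
            map_zero' := Prod.ext (map_zero _) (map_zero _)
            map_add' := fun x y => Prod.ext (map_add _ _ _) (map_add _ _ _) }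
        exact map_sum prL _ _
      rw [h2]
      have h3 : ∀ j, pr P T' (pb f g M) (fn f T' (a j) • pbTop f g M (sc (v j))) =
          a j • ((pbSecL f g M P.U₀).prodMap (pbSecL f g M P.U₁)) (v j).1 := by
        intro j
        rw [pr_smul, pr_pbTop, hsc]
        rfl
      simp_rw [h3]
    simp_rw [h1]
    exact key
  -- the point
  letI := algT i
  letI ik (V : X.Opens) : Module Γ(T.left, ⊤) (Sec f T₀ (pb f i M) V) :=
    Module.compHom _ (algebraMap Γ(T.left, ⊤) Γ(T₀.left, ⊤))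
  haveI (V : X.Opens) : IsScalarTower Γ(T.left, ⊤) Γ(T₀.left, ⊤) (Sec f T₀ (pb f i M) V) :=
    ⟨fun a b c => by rw [Algebra.smul_def, mul_smul]; rfl⟩
  have hp := Picfga.KerBC.isBaseChange_prodMap (isBaseChange_pbSecL f i P.affine₀ M hM')
    (isBaseChange_pbSecL f i P.affine₁ M hM')
  have hb := isBaseChange_pbSecL f i (isAffineOpen_inf P) M hM'
  have hrE : Module.finrank Γ(T₀.left, ⊤) (Γ(T₀.left, ⊤) ⊗[Γ(T.left, ⊤)] LinearMap.ker (dd P T M)) = r + 1 := by
    rw [(BNAlg.nonempty_kerEquiv Γ(T₀.left, ⊤) h hh).some.finrank_eq,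
      (nonempty_kerEquiv P i M hM').some.finrank_eq, hr]
  obtain ⟨e', he', hee'⟩ := exists_epb f σ hσ i M he
  have hl : ∃ z : Γ(T₀.left, ⊤) ⊗[Γ(T.left, ⊤)] LinearMap.ker (dd P T M), l.baseChange Γ(T₀.left, ⊤) z ≠ 0 := by
    by_contra hcon
    push Not at hcon
    have hl0 : ∀ x, i.left.appTop (l x) = 0 := by
      intro x
      have h1 := hcon (1 ⊗ₜ x)
      rw [LinearMap.baseChange_tmul] at h1
      have h2 := congrArg (TensorProduct.rid Γ(T.left, ⊤) Γ(T₀.left, ⊤)) h1
      rw [TensorProduct.rid_tmul, map_zero, Algebra.smul_def, mul_one] at h2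
      exact h2
    obtain ⟨s, hs⟩ := hev
    apply hs
    -- all sections vanish along `σ`
    have h1 := BNAlg.exists_combination h hh hp hb (d' := dd P T₀ (pb f i M))
      (fun x => dd_pbSec P i M x) (pr P T₀ (pb f i M) s) (pr_mem P T₀ (pb f i M) s)
    have h2 : ∀ y ∈ Submodule.span Γ(T₀.left, ⊤) (Set.range fun v : LinearMap.ker (dd P T M) =>
        ((pbSecL f i M P.U₀).prodMap (pbSecL f i M P.U₁)) (v : Sec f T M P.U₀ × Sec f T M P.U₁)),
        ∃ s' : Γ(pb f i M, ⊤), pr P T₀ (pb f i M) s' = y ∧ sg f σ hσ T₀ (pb f i M) s' = 0 := by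
      intro y hy
      induction hy using Submodule.span_induction with
      | mem y hy =>
        obtain ⟨v, rfl⟩ := hy
        refine ⟨pbTop f i M (sc v), ?_, ?_⟩
        · rw [pr_pbTop, hsc]
          rfl
        · rw [hee' (sc v) (l v) (hev' _), hl0, zero_smul]
      | zero => exact ⟨0, Prod.ext (map_zero _) (map_zero _), sg_zero f σ hσ _ _⟩
      | add y z _ _ hy hz =>
        obtain ⟨a, ha, ha'⟩ := hy
        obtain ⟨b, hb, hb'⟩ := hz
        refine ⟨a + b, ?_, by rw [sg_add, ha', hb', add_zero]⟩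
        rw [← ha, ← hb]
        exact Prod.ext (map_add _ _ _) (map_add _ _ _)
      | smul c y _ hy =>
        obtain ⟨a, ha, ha'⟩ := hy
        exact ⟨fn f T₀ c • a, by rw [pr_smul, ha], by rw [sg_smul, ha', smul_zero]⟩
    obtain ⟨s', hs', hs''⟩ := h2 _ h1
    have h3 : s' = s := pr_injective P T₀ (pb f i M) hs'
    rw [← h3]
    exact hs''
  letI := hT₀.toField
  obtain ⟨v, c, hc, hv0, hdvd, hB⟩ := BNAlg.exists_adapted.{u} l (r := r) Γ(T₀.left, ⊤) hrE hl
  refine ⟨c, fun j => sc (v j), fun j => l (v j), hc, fun j => hev' _, hv0, hdvd, fun T' g hT' hu => ?_⟩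
  letI := algT g
  exact bcdata g hT' v (hB Γ(T'.left, ⊤) hu)

end K659.BNLoc
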