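import Groth.Agent.FunFld.K659.BNPt
import Groth.Agent.Fga.DimCut
import Groth.Agent.Fga.IntegralSub
import Groth.Agent.Fga.JacFib
import Groth.Agent.Fga.JacRR
import Mathlib.AlgebraicGeometry.Stalk

/-!
# The Brill-Noether locus
-/

set_option autoImplicit false
set_option backward.isDefEq.respectTransparency false
universe u

open CategoryTheory CategoryTheory.Limits AlgebraicGeometry Opposite TopologicalSpace
open Groth.Agent Groth.Agent.Fdesc.LocGen Groth.Agent.Picfga.P1Def Groth.Agent.Picfga.SecBC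
  Groth.Agent.Picfga.LatOf Groth.Agent.Picfga.LatH0 Groth.Agent.Picfga.PicGood Groth.Agent.Picfga.ZeroDef
  Groth.Agent.Grpsch.PicGrp Groth.Agent.Fga.JacSum Groth.Agent.Fga.JacSurj Groth.Agent.Fga.JacFactor
  Groth.Agent.Picfga.ChiDef K659.BNLoc K659.BNFib K659.BNPt
open scoped TensorProduct

namespace K659.BNLocus

section affine

variable {k : Type u} [Field k] {X : Scheme.{u}} {f : X ⟶ Spec (CommRingCat.of k)} (P : P1Data f)
  {T : Over (Spec (CommRingCat.of k))} [IsAffine T.left] {M : (PicF.XT f T).Modules} (hM : PicF.IsInvertible M)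

/-- Functions on a point. -/
abbrev Kp (T : Over (Spec (CommRingCat.of k))) (τ : T.left) : Type u := Γ((Over.mk (fsr T.left τ ≫ T.hom)).left, ⊤)

omit [IsAffine T.left] in
theorem isField_Kp (τ : T.left) : IsField (Kp T τ) := Picfga.ChiFin.isField_Γ (fsr T.left τ ≫ T.hom)

theorem hAt_zero_eq (τ : T.left) :
    letI := algT (ofHom T (fsr T.left τ))
    hAt f T τ 0 (mk M hM) = Module.finrank (Kp T τ) (LinearMap.ker ((dd P T M).baseChange (Kp T τ))) := by
  have i1 : IsAffine (Over.mk (fsr T.left τ ≫ T.hom)).left :=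
    inferInstanceAs (IsAffine (Spec (CommRingCat.of (T.left.residueField τ))))
  rw [hAt, hPt_zero P, ker_pb P (ofHom T (fsr T.left τ)) hM]

theorem hAt_one_eq (τ : T.left) :
    letI := algT (ofHom T (fsr T.left τ))
    hAt f T τ 1 (mk M hM) = Module.finrank (Kp T τ) ((Kp T τ) ⊗[Γ(T.left, ⊤)] (Cok P T M)) := by
  have i1 : IsAffine (Over.mk (fsr T.left τ ≫ T.hom)).left :=
    inferInstanceAs (IsAffine (Spec (CommRingCat.of (T.left.residueField τ))))
  rw [hAt, hPt_one P, cok_pb P (ofHom T (fsr T.left τ)) hM]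

theorem ker_algebraMap (τ : T.left) :
    letI := algT (ofHom T (fsr T.left τ))
    RingHom.ker (algebraMap Γ(T.left, ⊤) (Kp T τ)) = (T.left.isoSpec.hom τ : PrimeSpectrum Γ(T.left, ⊤)).asIdeal := by
  have h3 := asIdeal_isoSpec (fsr T.left τ) (IsLocalRing.closedPoint (T.left.residueField τ))
  rw [fsr_apply] at h3
  exact h3.symm

include P in
/-- The locus in a local scheme. -/
theorem exists_point [IsLocalRing Γ(T.left, ⊤)] [IsNoetherianRing Γ(T.left, ⊤)] (t₀ : T.left)
    (ht₀ : (T.left.isoSpec.hom t₀ : PrimeSpectrum Γ(T.left, ⊤)).asIdeal = IsLocalRing.maximalIdeal Γ(T.left, ⊤))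
    (m : ℕ) (hdim : ((m + hAt f T t₀ 1 (mk M hM) * hAt f T t₀ 0 (mk M hM) : ℕ) : WithBot ℕ∞) ≤
      ringKrullDim Γ(T.left, ⊤)) :
    ∃ q : T.left, hAt f T q 0 (mk M hM) = hAt f T t₀ 0 (mk M hM) ∧
      (m : WithBot ℕ∞) ≤ ringKrullDim (Γ(T.left, ⊤) ⧸ (T.left.isoSpec.hom q : PrimeSpectrum Γ(T.left, ⊤)).asIdeal) := by
  have hpM : Module.Projective Γ(T.left, ⊤) (Sec f T M (P.U₀ ⊓ P.U₁)) := (latOf T P hM).projective_M
  have hp0 : Module.Projective Γ(T.left, ⊤) (Sec f T M P.U₀) :=
    Picfga.P1Alg.projective_of_polynomial _ (latOf T P hM).projective₀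
  have hp1 : Module.Projective Γ(T.left, ⊤) (Sec f T M P.U₁) :=
    Picfga.P1Alg.projective_of_polynomial _ (latOf T P hM).projective₁
  obtain ⟨G, hG, hGd⟩ := (latOf T P hM).exists_fg_ker
  have hGd' : LinearMap.ker (dd P T M) ≤ G := hGd
  obtain ⟨a, ha, hK⟩ : ∃ a : Fin (hAt f T t₀ 1 (mk M hM)) → Fin (hAt f T t₀ 0 (mk M hM)) → Γ(T.left, ⊤),
      (∀ i j, a i j ∈ IsLocalRing.maximalIdeal Γ(T.left, ⊤)) ∧
      ∀ (K : Type u) [Field K] [Algebra Γ(T.left, ⊤) K], (∀ i j, algebraMap Γ(T.left, ⊤) K (a i j) = 0) →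
        Module.finrank K (LinearMap.ker ((dd P T M).baseChange K)) = hAt f T t₀ 0 (mk M hM) := by
    rw [hAt_one_eq P hM t₀, hAt_zero_eq P hM t₀]
    letI := algT (ofHom T (fsr T.left t₀))
    letI := (isField_Kp t₀).toField
    exact BNAlg.exists_matrix (dd P T M) (latOf T P hM).exists_fg_coker G hG hGd' (Kp T t₀)
      ((ker_algebraMap t₀).trans ht₀)
  obtain ⟨q, hq, hqm⟩ := BNAlg.exists_prime (fun ij : Fin (hAt f T t₀ 1 (mk M hM)) × Fin (hAt f T t₀ 0 (mk M hM)) =>
    a ij.1 ij.2) (fun ij => ha _ _) m (by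
      rw [Fintype.card_prod, Fintype.card_fin, Fintype.card_fin]
      exact hdim)
  obtain ⟨y, hy⟩ : ∃ y : T.left, T.left.isoSpec.hom y = q :=
    (ConcreteCategory.bijective_of_isIso T.left.isoSpec.hom.base).2 q
  refine ⟨y, ?_, ?_⟩
  · rw [hAt_zero_eq P hM y]
    letI := algT (ofHom T (fsr T.left y))
    letI := (isField_Kp y).toField
    refine hK (Kp T y) fun i j => ?_
    rw [← RingHom.mem_ker, ker_algebraMap y, hy]
    exact hq (i, j)
  · rw [hy]
    exact hqm

end affine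

section topo

/-- The dimension of the closure of a point generalising in a local scheme. -/
theorem le_dim_closure {Y : Scheme.{u}} (x : Y) (q : Spec (Y.presheaf.stalk x)) (m : ℕ)
    (hm : (m : WithBot ℕ∞) ≤ ringKrullDim (Γ(Spec (Y.presheaf.stalk x), ⊤) ⧸
      ((Spec (Y.presheaf.stalk x)).isoSpec.hom q : PrimeSpectrum Γ(Spec (Y.presheaf.stalk x), ⊤)).asIdeal))
    {Z : Scheme.{u}} (i : Z ⟶ Y) [IsClosedImmersion i] (hi : Set.range i = closure {Y.fromSpecStalk x q}) :
    (m : WithBot ℕ∞) ≤ topologicalKrullDim Z := by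
  let A := Γ(Spec (Y.presheaf.stalk x), ⊤)
  let p : PrimeSpectrum A := (Spec (Y.presheaf.stalk x)).isoSpec.hom q
  let θ : PrimeSpectrum A → Spec (Y.presheaf.stalk x) := (Spec (Y.presheaf.stalk x)).isoSpec.inv
  have hθ : Topology.IsInducing θ := (Spec (Y.presheaf.stalk x)).isoSpec.inv.homeomorph.isInducing
  let c : PrimeSpectrum (A ⧸ p.asIdeal) → PrimeSpectrum A := PrimeSpectrum.comap (Ideal.Quotient.mk p.asIdeal)
  have hc : Topology.IsInducing c :=
    (PrimeSpectrum.isClosedEmbedding_comap_of_surjective _ _ Ideal.Quotient.mk_surjective).isInducing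
  have hs : Topology.IsInducing (Y.fromSpecStalk x) := (Y.fromSpecStalk x).isEmbedding.isInducing
  let γ : PrimeSpectrum (A ⧸ p.asIdeal) → Y := Y.fromSpecStalk x ∘ θ ∘ c
  have hγ : Topology.IsInducing γ := hs.comp (hθ.comp hc)
  have hθp : θ p = q := by
    change (Spec (Y.presheaf.stalk x)).isoSpec.inv ((Spec (Y.presheaf.stalk x)).isoSpec.hom q) = q
    rw [← Scheme.Hom.comp_apply, Iso.hom_inv_id]
    rfl
  have hr : ∀ z, γ z ∈ Set.range i := by
    intro z
    rw [hi]
    have h1 : c z ∈ closure {p} := by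
      rw [← PrimeSpectrum.le_iff_mem_closure, ← PrimeSpectrum.asIdeal_le_asIdeal]
      intro a ha
      change Ideal.Quotient.mk p.asIdeal a ∈ z.asIdeal
      rw [Ideal.Quotient.eq_zero_iff_mem.mpr ha]
      exact zero_mem _
    have h2 := image_closure_subset_closure_image (hs.continuous.comp hθ.continuous) (Set.mem_image_of_mem _ h1)
    rw [Set.image_singleton] at h2
    rw [Function.comp_apply, Function.comp_apply, hθp] at h2
    exact h2
  choose γ' hγ' using hr
  have h3 : Topology.IsInducing γ' := by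
    rw [← (Scheme.Hom.isClosedEmbedding i).isInducing.of_comp_iff]
    have : i ∘ γ' = γ := funext hγ'
    rw [this]
    exact hγ
  refine hm.trans ?_
  rw [← PrimeSpectrum.topologicalKrullDim_eq_ringKrullDim]
  exact h3.topologicalKrullDim_le

end topo

end K659.BNLocus
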