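import Groth.Agent.FunFld.K659.BNLocus

/-!
# The Brill-Noether locus, II
-/

set_option autoImplicit false
set_option backward.isDefEq.respectTransparency false
universe u

open CategoryTheory CategoryTheory.Limits AlgebraicGeometry Opposite TopologicalSpace
open Groth.Agent Groth.Agent.Fdesc.LocGen Groth.Agent.Picfga.P1Def Groth.Agent.Picfga.SecBC
  Groth.Agent.Picfga.LatOf Groth.Agent.Picfga.LatH0 Groth.Agent.Picfga.PicGood Groth.Agent.Picfga.ZeroDef
  Groth.Agent.Grpsch.PicGrp Groth.Agent.Fga.JacSum Groth.Agent.Fga.JacSurj Groth.Agent.Fga.JacFactor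
  Groth.Agent.Picfga.ChiDef K659.BNLoc K659.BNFib K659.BNPt

namespace K659.BNLocus

section chi

variable {k : Type u} [Field k] {X : Scheme.{u}} {f : X ⟶ Spec (CommRingCat.of k)}
  [SmoothOfRelativeDimension 1 f] [IsSeparated f] (hX : Curve.IsSmoothProperCurve k X f)
  (σ : Spec (CommRingCat.of k) ⟶ X) (hσ : σ ≫ f = 𝟙 (Spec (CommRingCat.of k)))

theorem chiAt_eq (T : Over (Spec (CommRingCat.of k))) (τ : T.left) (c : Pic (PicF.XT f T)) :
    chiAt f T τ c = (hAt f T τ 0 c : ℤ) - hAt f T τ 1 c := by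
  rw [chiAt, chiPt, chiK_eq]
  rfl

include hX in
theorem chiAt_mul_gs (T : Over (Spec (CommRingCat.of k))) (τ : T.left) (c : Pic (PicF.XT f T)) :
    chiAt f T τ (c * (gs σ hσ T)⁻¹) = chiAt f T τ c + 1 := by
  have h1 := Fga.JacRR.rrStep f hX (T.left.residueField τ) (fsr T.left τ ≫ T.hom)
    (Pt.ofSection hσ (Over.mk (fsr T.left τ ≫ T.hom))) (pull (PicF.XTmap f (ofHom T (fsr T.left τ))) c)
  have h2 : pull (PicF.XTmap f (ofHom T (fsr T.left τ))) (c * (gs σ hσ T)⁻¹) =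
      pull (PicF.XTmap f (ofHom T (fsr T.left τ))) c * (gcl f (Pt.ofSection hσ (Over.mk (fsr T.left τ ≫ T.hom))))⁻¹ := by
    rw [map_mul, map_inv, pull_gs]
  rw [chiAt, chiPt, h2, h1]
  rfl

include hX in
theorem chiAt_mul_gs_pow (T : Over (Spec (CommRingCat.of k))) (τ : T.left) (c : Pic (PicF.XT f T)) (n : ℕ) :
    chiAt f T τ (c * (gs σ hσ T)⁻¹ ^ n) = chiAt f T τ c + n := by
  induction n with
  | zero => simp
  | succ n ih =>
    rw [pow_succ, ← mul_assoc, chiAt_mul_gs hX, ih]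
    push_cast
    ring

omit [SmoothOfRelativeDimension 1 f] [IsSeparated f] in
theorem chiAt_one [QuasiCompact f] [QuasiSeparated f] (T : Over (Spec (CommRingCat.of k))) (τ : T.left) :
    chiAt f T τ 1 = chiK f (𝟙 (Spec (CommRingCat.of k))) 1 := by
  obtain ⟨φ, hφ⟩ : ∃ φ : CommRingCat.of k ⟶ CommRingCat.of (T.left.residueField τ),
      Spec.map φ = fsr T.left τ ≫ T.hom := ⟨Spec.preimage _, Spec.map_preimage _⟩
  have h1 := Fga.JacFib.bcStep f k (T.left.residueField τ) φ (𝟙 _) 1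
  rw [map_one] at h1
  rw [chiAt, chiPt, map_one, ← h1]
  have h2 := chiK_congr (f := f) (T := Over.mk (fsr T.left τ ≫ T.hom)) (t := fsr T.left τ ≫ T.hom)
    (t' := Spec.map φ ≫ 𝟙 _) (by rw [hφ, Category.comp_id]) (𝟙 _)
    (Over.homMk (𝟙 _) (by simp [hφ])) rfl (1 : Pic (PicF.XT f (Over.mk (fsr T.left τ ≫ T.hom))))
  rw [map_one, map_one] at h2
  exact h2

/-- Twisting by `σ` raises `h^0` by zero or one. -/
theorem hAt_le (P : P1Data f) (T : Over (Spec (CommRingCat.of k))) (τ : T.left) (c : Pic (PicF.XT f T)) :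
    hAt f T τ 0 c ≤ hAt f T τ 0 (c * (gs σ hσ T)⁻¹) := by
  have h2 : pull (PicF.XTmap f (ofHom T (fsr T.left τ))) (c * (gs σ hσ T)⁻¹) =
      pull (PicF.XTmap f (ofHom T (fsr T.left τ))) c * (gs σ hσ (Over.mk (fsr T.left τ ≫ T.hom)))⁻¹ := by
    rw [map_mul, map_inv, pull_gs]
  rw [hAt, hAt, hPt, hPt, h2]
  exact hK_le P σ hσ _ _

theorem hAt_le_succ (P : P1Data f) (T : Over (Spec (CommRingCat.of k))) (τ : T.left) (c : Pic (PicF.XT f T)) :
    hAt f T τ 0 (c * (gs σ hσ T)⁻¹) ≤ hAt f T τ 0 c + 1 := by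
  have h2 : pull (PicF.XTmap f (ofHom T (fsr T.left τ))) (c * (gs σ hσ T)⁻¹) =
      pull (PicF.XTmap f (ofHom T (fsr T.left τ))) c * (gs σ hσ (Over.mk (fsr T.left τ ≫ T.hom)))⁻¹ := by
    rw [map_mul, map_inv, pull_gs]
  rw [hAt, hAt, hPt, hPt, h2]
  exact hK_le_succ P σ hσ _ _

/-- The class `ξ(nσ)`. -/
noncomputable abbrev tw {J : Over (Spec (CommRingCat.of k))} (ξ : Pic (PicF.XT f J)) (n : ℕ) : Pic (PicF.XT f J) :=
  ξ * (gs σ hσ J)⁻¹ ^ n

theorem tw_succ {J : Over (Spec (CommRingCat.of k))} (ξ : Pic (PicF.XT f J)) (n : ℕ) :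
    tw σ hσ ξ (n + 1) = tw σ hσ ξ n * (gs σ hσ J)⁻¹ := by
  rw [tw, pow_succ, ← mul_assoc]

theorem pull_tw {J T : Over (Spec (CommRingCat.of k))} (g : T ⟶ J) (ξ : Pic (PicF.XT f J)) (n : ℕ) :
    pull (PicF.XTmap f g) (tw σ hσ ξ n) = tw σ hσ (pull (PicF.XTmap f g) ξ) n := by
  rw [tw, map_mul, map_pow, map_inv, pull_gs]

theorem hAt_mono (P : P1Data f) (J : Over (Spec (CommRingCat.of k))) (t : J.left) (ξ : Pic (PicF.XT f J)) {m n : ℕ}
    (h : m ≤ n) : hAt f J t 0 (tw σ hσ ξ m) ≤ hAt f J t 0 (tw σ hσ ξ n) := by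
  induction n, h using Nat.le_induction with
  | base => exact le_rfl
  | succ n _ ih =>
    rw [tw_succ]
    exact ih.trans (hAt_le σ hσ P J t _)

end chi

section stalk

variable {k : Type u} [Field k]

/-- Functions on the spectrum of a local ring. -/
theorem stalk_facts (Y : Scheme.{u}) [IsLocallyNoetherian Y] (x : Y) :
    IsLocalRing Γ(Spec (Y.presheaf.stalk x), ⊤) ∧ IsNoetherianRing Γ(Spec (Y.presheaf.stalk x), ⊤) ∧
    ringKrullDim Γ(Spec (Y.presheaf.stalk x), ⊤) = ringKrullDim (Y.presheaf.stalk x) := by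
  let e : Γ(Spec (Y.presheaf.stalk x), ⊤) ≃+* Y.presheaf.stalk x :=
    (Scheme.ΓSpecIso (Y.presheaf.stalk x)).commRingCatIsoToRingEquiv
  have : IsNoetherianRing (Y.presheaf.stalk x) := inferInstance
  have hloc : IsLocalRing (Y.presheaf.stalk x) := inferInstance
  exact ⟨e.symm.isLocalRing, isNoetherianRing_of_ringEquiv _ e.symm, ringKrullDim_eq_of_ringEquiv e⟩

theorem closedPt_asIdeal {R : CommRingCat.{u}} [IsLocalRing R] [IsLocalRing Γ(Spec R, ⊤)] :
    ((Spec R).isoSpec.hom (IsLocalRing.closedPoint R : Spec R) : PrimeSpectrum Γ(Spec R, ⊤)).asIdeal =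
      IsLocalRing.maximalIdeal Γ(Spec R, ⊤) := by
  have h1 : IsClosed ({(IsLocalRing.closedPoint R : Spec R)} : Set (Spec R)) := IsLocalRing.isClosed_singleton_closedPoint R
  have h2 := (Spec R).isoSpec.hom.homeomorph.isClosedMap _ h1
  rw [Set.image_singleton] at h2
  have h3 : IsClosed ({((Spec R).isoSpec.hom (IsLocalRing.closedPoint R : Spec R) : PrimeSpectrum Γ(Spec R, ⊤))} :
    Set (PrimeSpectrum Γ(Spec R, ⊤))) := h2
  rw [PrimeSpectrum.isClosed_singleton_iff_isMaximal] at h3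
  exact IsLocalRing.eq_maximalIdeal h3

end stalk

section locus

variable {k : Type u} [Field k] [IsAlgClosed k] {X : Scheme.{u}} {f : X ⟶ Spec (CommRingCat.of k)}
  [SmoothOfRelativeDimension 1 f] [IsSeparated f] [QuasiCompact f] (hX : Curve.IsSmoothProperCurve k X f)
  (σ : Spec (CommRingCat.of k) ⟶ X) (hσ : σ ≫ f = 𝟙 (Spec (CommRingCat.of k)))

omit [IsAlgClosed k] in
include hX in
theorem exists_locus (P : P1Data f) (J : Over (Spec (CommRingCat.of k))) [LocallyOfFiniteType J.hom]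
    [QuasiCompact J.hom] [IrreducibleSpace J.left] (g : ℕ) (hg : topologicalKrullDim J.left = (g : ℕ))
    (ξ : Pic (PicF.XT f J)) (hξ : ∀ t, chiAt f J t ξ = chiAt f J t 1)
    (hchi : chiK f (𝟙 (Spec (CommRingCat.of k))) 1 = 1 - g)
    (r d : ℕ) (hd : ((r : ℤ) + 1) * (g + r - d) ≤ g)
    (hW : ∀ t, hAt f J t 0 (tw σ hσ ξ d) ≤ r) :
    ∃ (D e : ℕ) (T : Over (Spec (CommRingCat.of k))) (ι : T ⟶ J) (_ : IsClosedImmersion ι.left)
      (_ : IsIntegral T.left), ((r + 1 : ℕ) : WithBot ℕ∞) ≤ topologicalKrullDim T.left ∧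
      (∀ τ, hAt f T τ 0 (pull (PicF.XTmap f ι) (tw σ hσ ξ (D + 1))) = r + 1) ∧
      (∀ τ, hAt f T τ 1 (pull (PicF.XTmap f ι) (tw σ hσ ξ (D + 1))) = e) ∧
      (∀ τ, hAt f T τ 0 (pull (PicF.XTmap f ι) (tw σ hσ ξ D)) ≤ r) := by
  classical
  have hRR : ∀ (n : ℕ) (t : J.left), (hAt f J t 0 (tw σ hσ ξ n) : ℤ) - hAt f J t 1 (tw σ hσ ξ n) = 1 - g + n := by
    intro n t
    rw [← chiAt_eq, tw, chiAt_mul_gs_pow hX, hξ, chiAt_one, hchi]
  have hex : ∃ n, ∃ t, r + 1 ≤ hAt f J t 0 (tw σ hσ ξ n) := by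
    refine ⟨g + r, Nonempty.some inferInstance, ?_⟩
    have := hRR (g + r) (Nonempty.some inferInstance)
    push_cast at this
    omega
  obtain ⟨t₁, ht₁⟩ := Nat.find_spec hex
  have hmin : ∀ n < Nat.find hex, ∀ t, hAt f J t 0 (tw σ hσ ξ n) ≤ r := by
    intro n hn t
    have := Nat.find_min hex hn
    push Not at this
    have := this t
    omega
  have hdn : d < Nat.find hex := by
    by_contra hcon
    have h1 := hAt_mono σ hσ P J t₁ ξ (not_lt.mp hcon)
    have := hW t₁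
    omega
  have hng : Nat.find hex ≤ g + r := by
    refine Nat.find_min' hex ⟨Nonempty.some inferInstance, ?_⟩
    have := hRR (g + r) (Nonempty.some inferInstance)
    push_cast at this
    omega
  obtain ⟨D, hD⟩ : ∃ D, Nat.find hex = D + 1 := ⟨Nat.find hex - 1, by omega⟩
  rw [hD] at ht₁ hdn hng
  have hDle : ∀ t, hAt f J t 0 (tw σ hσ ξ D) ≤ r := hmin D (by omega)
  have hle : ∀ t, hAt f J t 0 (tw σ hσ ξ (D + 1)) ≤ r + 1 := by
    intro t
    have h1 := hAt_le_succ σ hσ P J t (tw σ hσ ξ D)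
    rw [← tw_succ] at h1
    have := hDle t
    omega
  -- the closed locus
  let W : Set J.left := {t | r + 1 ≤ hAt f J t 0 (tw σ hσ ξ (D + 1))}
  have hWc : IsClosed W := by
    have h1 : W = {t | g + r - (D + 1) ≤ hAt f J t 1 (tw σ hσ ξ (D + 1))} := by
      ext t
      have := hRR (D + 1) t
      push_cast at this
      simp only [W, Set.mem_ofPred_eq]
      omega
    rw [h1]
    rcases Nat.eq_zero_or_pos (g + r - (D + 1)) with h0 | hpos
    · rw [h0]
      simp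
    · rw [← isOpen_compl_iff]
      have h2 := isOpen_hAt_one_le P J (tw σ hσ ξ (D + 1)) (g + r - (D + 1) - 1)
      convert h2 using 1
      ext t
      simp only [Set.mem_compl_iff, Set.mem_ofPred_eq]
      omega
  have : CompactSpace J.left := by
    have : CompactSpace (Spec (CommRingCat.of k)) := inferInstance
    exact QuasiCompact.compactSpace_of_compactSpace J.hom
  obtain ⟨t₀, ht₀, ht₀c⟩ := IsClosed.exists_closed_singleton hWc ⟨t₁, ht₁⟩
  have h0 : hAt f J t₀ 0 (tw σ hσ ξ (D + 1)) = r + 1 := le_antisymm (hle t₀) ht₀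
  have h1 : hAt f J t₀ 1 (tw σ hσ ξ (D + 1)) = g + r - (D + 1) := by
    have := hRR (D + 1) t₀
    push_cast at this
    omega
  -- the local scheme
  have hLN : IsLocallyNoetherian J.left := LocallyOfFiniteType.isLocallyNoetherian J.hom
  letI : J.left.Over (Spec (CommRingCat.of k)) := ⟨J.hom⟩
  haveI : LocallyOfFiniteType (J.left ↘ Spec (CommRingCat.of k)) := ‹LocallyOfFiniteType J.hom›
  have hdim := Fga.DimCut.ringKrullDim_stalk_eq (k := k) J.left t₀ ht₀c
  obtain ⟨i1, i2, i3⟩ := stalk_facts J.left t₀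
  let S : Over (Spec (CommRingCat.of k)) := Over.mk (J.left.fromSpecStalk t₀ ≫ J.hom)
  let j : S ⟶ J := Over.homMk (J.left.fromSpecStalk t₀) rfl
  haveI : IsAffine S.left := inferInstanceAs (IsAffine (Spec (J.left.presheaf.stalk t₀)))
  haveI : IsLocalRing Γ(S.left, ⊤) := i1
  haveI : IsNoetherianRing Γ(S.left, ⊤) := i2
  obtain ⟨M, hM, hMc⟩ := exists_mk (pull (PicF.XTmap f j) (tw σ hσ ξ (D + 1)))
  let s₀ : S.left := (IsLocalRing.closedPoint (J.left.presheaf.stalk t₀) : Spec (J.left.presheaf.stalk t₀))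
  have hs₀ : j.left s₀ = t₀ := Scheme.fromSpecStalk_closedPoint
  have hS0 : hAt f S s₀ 0 (mk M hM) = r + 1 := by
    rw [← hMc, hAt_pull P j s₀ 0 (by omega), hs₀, h0]
  have hS1 : hAt f S s₀ 1 (mk M hM) = g + r - (D + 1) := by
    rw [← hMc, hAt_pull P j s₀ 1 le_rfl, hs₀, h1]
  obtain ⟨q, hq0, hq1⟩ := exists_point P hM s₀ closedPt_asIdeal (r + 1) (by
    rw [hS0, hS1]
    change _ ≤ ringKrullDim Γ(Spec (J.left.presheaf.stalk t₀), ⊤)
    rw [i3, hdim, hg]
    have h2 : r + 1 + (g + r - (D + 1)) * (r + 1) ≤ g := by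
      obtain ⟨a, ha⟩ : ∃ a, g + r = D + 1 + a := ⟨g + r - (D + 1), by omega⟩
      obtain ⟨b, hb⟩ : ∃ b, D = d + b := ⟨D - d, by omega⟩
      have ha' : g + r - (D + 1) = a := by omega
      rw [ha']
      have h3 : (g : ℤ) + r - d = b + 1 + a := by
        have : (g : ℤ) + r = D + 1 + a := by exact_mod_cast ha
        have : (D : ℤ) = d + b := by exact_mod_cast hb
        linarith
      rw [h3] at hd
      have h4 : (r + 1 + a * (r + 1) : ℤ) ≤ g := by nlinarith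
      exact_mod_cast h4
    exact_mod_cast h2)
  obtain ⟨Z, i, hi, hZ, -, hri⟩ := Fga.IntegralSub.exists_integral_closed (j.left q)
  have hyW : j.left q ∈ W := by
    change r + 1 ≤ hAt f J (j.left q) 0 (tw σ hσ ξ (D + 1))
    rw [← hAt_pull P j q 0 (by omega), hMc, hq0, hS0]
  let T : Over (Spec (CommRingCat.of k)) := Over.mk (i ≫ J.hom)
  let ι : T ⟶ J := Over.homMk i rfl
  have hTW : ∀ τ : T.left, ι.left τ ∈ W := by
    intro τ
    have h2 : ι.left τ ∈ Set.range i := ⟨τ, rfl⟩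
    rw [hri] at h2
    exact closure_minimal (Set.singleton_subset_iff.mpr hyW) hWc h2
  have h2 : ∀ τ, hAt f T τ 0 (pull (PicF.XTmap f ι) (tw σ hσ ξ (D + 1))) = r + 1 := by
    intro τ
    rw [hAt_pull P ι τ 0 (by omega)]
    exact le_antisymm (hle _) (hTW τ)
  refine ⟨D, g + r - (D + 1), T, ι, hi, hZ, le_dim_closure t₀ q (r + 1) hq1 i hri, h2, ?_, ?_⟩
  · intro τ
    rw [hAt_pull P ι τ 1 le_rfl]
    have h3 := hRR (D + 1) (ι.left τ)
    have h4 := h2 τ
    rw [hAt_pull P ι τ 0 (by omega)] at h4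
    push_cast at h3
    omega
  · intro τ
    rw [hAt_pull P ι τ 0 (by omega)]
    exact hDle _

end locus

end K659.BNLocus
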