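import Groth.Agent.FunFld.K659.BNRig

/-!
# The scheme of divisors over the Brill-Noether locus is locally an affine space
-/

set_option autoImplicit false
set_option backward.isDefEq.respectTransparency false
universe u

open CategoryTheory CategoryTheory.Limits AlgebraicGeometry Opposite TopologicalSpace
open Groth.Agent Groth.Agent.Fdesc.LocGen Groth.Agent.Picfga.P1Def Groth.Agent.Picfga.SecBC
  Groth.Agent.Picfga.LatOf Groth.Agent.Picfga.LatH0 Groth.Agent.Picfga.PicGood Groth.Agent.Picfga.ZeroDef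
  Groth.Agent.Picfga.ZeroDiv
  Groth.Agent.Grpsch.PicGrp Groth.Agent.Fga.JacSum Groth.Agent.Fga.JacSurj Groth.Agent.Fga.JacFactor
  Groth.Agent.Fga.ZeroClass Groth.Agent.Fga.RigGrp
  Groth.Agent.Picfga.ChiDef K659.BNLoc K659.BNFib K659.BNPt K659.BNAff K659.BNLocus

namespace K659.BNMain

variable {k : Type u} [Field k] {X : Scheme.{u}} {f : X ⟶ Spec (CommRingCat.of k)}
  (σ : Spec (CommRingCat.of k) ⟶ X) (hσ : σ ≫ f = 𝟙 (Spec (CommRingCat.of k)))

/-- The properties of an adapted universal basis. -/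
structure UBas (T : Over (Spec (CommRingCat.of k))) (M : (PicF.XT f T).Modules) (r : ℕ) where
  v : Fin (r + 1) → Γ(M, ⊤)
  e : Γ((Scheme.Modules.pullback (PicF.secT f σ hσ T)).obj M, ⊤)
  he : IsGen e
  b : Γ(T.left, ⊤)
  hb : IsUnit b
  hv0 : sg f σ hσ T M (v 0) = b • e
  hvj : ∀ j : Fin r, sg f σ hσ T M (v j.succ) = 0
  hB : ∀ (T' : Over (Spec (CommRingCat.of k))) (g : T' ⟶ T), IsAffine T'.left →
    ∀ m : Γ(pb f g M, ⊤), ∃! a : Fin (r + 1) → Γ(T'.left, ⊤), m = ∑ j, fn f T' (a j) • pbTop f g M (v j)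

theorem mem_basicOpen_of_ne (T : Over (Spec (CommRingCat.of k))) (τ : T.left) (c : Γ(T.left, ⊤))
    (h : (ofHom T (fsr T.left τ)).left.appTop c ≠ 0) : τ ∈ T.left.basicOpen c := by
  have h1 : IsField Γ(Spec (CommRingCat.of (T.left.residueField τ)), ⊤) :=
    ((Scheme.ΓSpecIso (CommRingCat.of (T.left.residueField τ))).commRingCatIsoToRingEquiv.toMulEquiv).isField
      (Field.toIsField _)
  letI := h1.toField
  have h2 : IsUnit ((fsr T.left τ).appTop c) := isUnit_iff_ne_zero.mpr h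
  have h3 := Scheme.preimage_basicOpen_top (fsr T.left τ) c
  rw [Scheme.basicOpen_of_isUnit _ h2] at h3
  have h4 : (IsLocalRing.closedPoint (T.left.residueField τ) : Spec (CommRingCat.of (T.left.residueField τ))) ∈
      fsr T.left τ ⁻¹ᵁ T.left.basicOpen c := by rw [h3]; trivial
  have h5 : fsr T.left τ (IsLocalRing.closedPoint (T.left.residueField τ) :
    Spec (CommRingCat.of (T.left.residueField τ))) ∈ T.left.basicOpen c := h4
  rwa [fsr_apply] at h5

theorem exists_loc [SmoothOfRelativeDimension 1 f] [IsSeparated f] (P : P1Data f)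
    {T : Over (Spec (CommRingCat.of k))} [IsAffine T.left] [IsReduced T.left]
    [IsNoetherianRing Γ(T.left, ⊤)] {M : (PicF.XT f T).Modules} (hM : PicF.IsInvertible M)
    (hMr : mk M hM ∈ Rg f σ hσ T) (n : ℕ) (h1 : ∀ τ, hAt f T τ 1 (mk M hM) = n) (τ : T.left) (r : ℕ)
    (h0 : hAt f T τ 0 (mk M hM) = r + 1) (h0' : hAt f T τ 0 (mk M hM * gs σ hσ T) ≤ r) :
    ∃ c : Γ(T.left, ⊤), τ ∈ T.left.basicOpen c ∧ ∀ (TV : Over (Spec (CommRingCat.of k))) (j : TV ⟶ T),
      IsAffine TV.left → IsUnit (j.left.appTop c) → Nonempty (UBas σ hσ TV (pb f j M) r) := by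
  obtain ⟨e, he⟩ : ∃ e : Γ((Scheme.Modules.pullback (PicF.secT f σ hσ T)).obj M, ⊤), IsGen e := by
    rw [mem_Rg, pull_mk, mk_eq_one_iff] at hMr
    obtain ⟨φ⟩ := hMr
    exact ⟨φ.inv.app ⊤ (one ⊤), (isGen_one ⊤).app φ.inv⟩
  let t := fsr T.left τ ≫ T.hom
  let i : Over.mk t ⟶ T := ofHom T (fsr T.left τ)
  haveI : IsAffine (Over.mk t).left := inferInstanceAs (IsAffine (Spec (CommRingCat.of (T.left.residueField τ))))
  have hproj := projective_Cok P hM n h1
  have hr : Module.finrank Γ((Over.mk t).left, ⊤) (LinearMap.ker (dd P (Over.mk t) (pb f i M))) = r + 1 := by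
    rw [← h0, hAt, hPt_zero P]
  have hev : ∃ s : Γ(pb f i M, ⊤), sg f σ hσ (Over.mk t) (pb f i M) s ≠ 0 := by
    refine exists_sg_ne P σ hσ t (isInvertible_pullback (PicF.XTmap f i) hM) ?_
    have h2 : hAt f T τ 0 (mk M hM * gs σ hσ T) < hAt f T τ 0 (mk M hM) := by omega
    rw [hAt, hAt, hPt, hPt, map_mul, pull_gs] at h2
    exact h2
  obtain ⟨c, v, b, hc, hvb, hb0, hbc, hB⟩ := exists_ubas P σ hσ M hM i (Picfga.ChiFin.isField_Γ t) hproj r hr he hev
  refine ⟨c, mem_basicOpen_of_ne T τ c hc, fun TV j hTV hu => ?_⟩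
  obtain ⟨e', he', hee⟩ := exists_epb f σ hσ j M he
  refine ⟨⟨fun l => pbTop f j M (v l), e', he', j.left.appTop (b 0), ?_, ?_, ?_, ?_⟩⟩
  · exact isUnit_of_dvd_unit (map_dvd j.left.appTop.hom hbc) hu
  · exact hee _ _ (hvb 0)
  · intro l
    have h2 := hee _ _ (hvb l.succ)
    rw [hb0 _ (Fin.succ_ne_zero l), map_zero, zero_smul] at h2
    exact h2
  · intro T' g hT' m
    obtain ⟨φ, hφ⟩ := exists_pbComp f g j (g ≫ j) rfl M
    have hu' : IsUnit ((g ≫ j).left.appTop c) := by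
      have h3 : (g ≫ j).left.appTop c = g.left.appTop (j.left.appTop c) := by
        rw [Over.comp_left, Scheme.Hom.comp_appTop]; rfl
      rw [h3]
      exact hu.map g.left.appTop.hom
    have key : ∀ a : Fin (r + 1) → Γ(T'.left, ⊤),
        φ.hom.app ⊤ (∑ l, fn f T' (a l) • pbTop f g _ (pbTop f j M (v l))) =
          ∑ l, fn f T' (a l) • pbTop f (g ≫ j) M (v l) := by
      intro a
      rw [map_sum]
      refine Finset.sum_congr rfl fun l _ => ?_
      rw [Scheme.Modules.Hom.app_smul, hφ]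
    obtain ⟨a, ha, hau⟩ := hB T' (g ≫ j) hT' hu' (φ.hom.app ⊤ m)
    refine ⟨a, ?_, fun a' ha' => hau a' ?_⟩
    · apply Picfga.PicGood.app_injective φ ⊤
      rw [key]
      exact ha
    · have ha'' : m = ∑ l, fn f T' (a' l) • pbTop f g _ (pbTop f j M (v l)) := ha'
      change φ.hom.app ⊤ m = _
      rw [ha'', key]

end K659.BNMain
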