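import Groth.Agent.Picfga.HilbZero
import Groth.Agent.Picfga.SecGraph
import Groth.Agent.Fga.RigGrp

/-!
# The locus where a section does not meet a closed subscheme
-/

set_option autoImplicit false
set_option backward.isDefEq.respectTransparency false
universe u

open CategoryTheory CategoryTheory.Limits AlgebraicGeometry Opposite TopologicalSpace
open Groth.Agent Groth.Agent.Fga.RigGrp Groth.Agent.Picfga.HilbPull

namespace K659.BNAff

section off

variable {X S : Scheme.{u}} (f : X ⟶ S) (σ : S ⟶ X) (hσ : σ ≫ f = 𝟙 S)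

/-- The locus of `T` over which the section `σ` does not meet the closed subscheme defined by `I`. -/
noncomputable def off (T : Over S) (I : (PicF.XT f T).IdealSheafData) : T.left.Opens :=
  (PicF.secT f σ hσ T) ⁻¹ᵁ I.support.compl

theorem mem_off {T : Over S} {I : (PicF.XT f T).IdealSheafData} (t : T.left) :
    t ∈ off f σ hσ T I ↔ PicF.secT f σ hσ T t ∉ I.support := Iff.rfl

theorem preimage_off {T T' : Over S} (g : T' ⟶ T) (I : (PicF.XT f T).IdealSheafData) :
    g.left ⁻¹ᵁ off f σ hσ T I = off f σ hσ T' (HilbD.pull f g I) := by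
  ext t
  change PicF.secT f σ hσ T (g.left t) ∉ I.support ↔ PicF.secT f σ hσ T' t ∉ (HilbD.pull f g I).support
  rw [pull_eq_comap, Scheme.IdealSheafData.support_comap]
  have h : PicF.secT f σ hσ T (g.left t) = PicF.XTmap f g (PicF.secT f σ hσ T' t) := by
    rw [← Scheme.Hom.comp_apply, ← Scheme.Hom.comp_apply, Fga.RigGrp.secT_XTmap]
  rw [h]
  rfl

theorem off_mul (T : Over S) (I J : (PicF.XT f T).IdealSheafData) :
    off f σ hσ T (I * J) = off f σ hσ T I ⊓ off f σ hσ T J := by
  ext t
  change PicF.secT f σ hσ T t ∉ (I * J).support ↔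
    PicF.secT f σ hσ T t ∉ I.support ∧ PicF.secT f σ hσ T t ∉ J.support
  rw [Scheme.IdealSheafData.support_mul, ← not_or]
  rfl

variable [IsSeparated f]

/-- The complement of the section. -/
noncomputable def comp : X.Opens := off f σ hσ (Over.mk f) (HilbD.secGraph f (Over.mk f) (𝟙 X) (Category.id_comp f))

theorem off_secGraph (T : Over S) (x : T.left ⟶ X) (hx : x ≫ f = T.hom) :
    off f σ hσ T (HilbD.secGraph f T x hx) = x ⁻¹ᵁ comp f σ hσ := by
  let g : T ⟶ Over.mk f := Over.homMk x hx
  have h1 := preimage_off f σ hσ g (HilbD.secGraph f (Over.mk f) (𝟙 X) (Category.id_comp f))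
  have h2 : HilbD.pull f g (HilbD.secGraph f (Over.mk f) (𝟙 X) (Category.id_comp f)) = HilbD.secGraph f T x hx := by
    rw [Picfga.SecGraph.pull_secGraph]
    rfl
  rw [h2] at h1
  exact h1.symm

theorem not_mem_comp (s : S) : σ s ∉ comp f σ hσ := by
  intro h
  refine h ?_
  have h1 : PicF.secT f σ hσ (Over.mk f) (σ s) =
      (pullback.lift (𝟙 X) (𝟙 X) rfl : X ⟶ pullback f f) (σ s) := by
    have h2 : (show S ⟶ pullback f f from σ ≫ PicF.secT f σ hσ (Over.mk f)) =
        σ ≫ (pullback.lift (𝟙 X) (𝟙 X) rfl : X ⟶ pullback f f) := by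
      apply pullback.hom_ext
      · rw [Category.assoc, Category.assoc, pullback.lift_fst]
        refine (congrArg (fun z => σ ≫ z) (Fga.RigGrp.secT_fst f σ hσ (Over.mk f))).trans ?_
        change σ ≫ f ≫ σ = σ ≫ 𝟙 X
        rw [reassoc_of% hσ, Category.comp_id]
      · rw [Category.assoc, Category.assoc, pullback.lift_snd]
        exact congrArg (fun z => σ ≫ z) (Fga.RigGrp.secT_XTproj f σ hσ (Over.mk f))
    exact (Scheme.Hom.comp_apply σ (PicF.secT f σ hσ (Over.mk f)) s).symm.trans
      ((congrArg (fun z : S ⟶ pullback f f => z s) h2).trans (Scheme.Hom.comp_apply _ _ s))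
  rw [h1]
  exact Scheme.Hom.range_subset_ker_support _ ⟨_, rfl⟩

end off

end K659.BNAff
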