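import Groth.Agent.FunFld.K659.BNFib2
import Groth.Agent.FunFld.K659.BNLoc
import Groth.Agent.Picfga.PtEval
import Groth.Agent.Fga.ZeroClass

/-!
# Twisting by a rational point: dimensions and sections
-/

set_option autoImplicit false
set_option backward.isDefEq.respectTransparency false
universe u

open CategoryTheory CategoryTheory.Limits AlgebraicGeometry Opposite TopologicalSpace
open Groth.Agent Groth.Agent.Fdesc.LocGen Groth.Agent.Picfga.P1Def Groth.Agent.Picfga.SecBC
  Groth.Agent.Picfga.LatOf Groth.Agent.Picfga.LatH0 Groth.Agent.Picfga.PicGood Groth.Agent.Picfga.ZeroDef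
  Groth.Agent.Grpsch.PicGrp Groth.Agent.Fga.JacSum Groth.Agent.Fga.JacSurj Groth.Agent.Fga.JacFactor
  Groth.Agent.Picfga.ChiDef K659.BNLoc K659.BNFib
open scoped TensorProduct

namespace K659.BNPt

theorem finrank_le_of_exact {K A B C : Type*} [Field K] [AddCommGroup A] [Module K A] [AddCommGroup B] [Module K B]
    [AddCommGroup C] [Module K C] [Module.Finite K A] [Module.Finite K C] (φ : A →ₗ[K] B) (ψ : B →ₗ[K] C)
    (h : LinearMap.ker ψ ≤ LinearMap.range φ) :
    Module.finrank K B ≤ Module.finrank K A + Module.finrank K C := by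
  have h1 : Module.Finite K (LinearMap.ker ψ) := Module.Finite.of_injective
    (Submodule.inclusion h) (Submodule.inclusion_injective h)
  have h2 : Module.Finite K (LinearMap.range ψ) := inferInstance
  have h3 : Module.Finite K (B ⧸ LinearMap.ker ψ) := Module.Finite.equiv ψ.quotKerEquivRange.symm
  have h4 : Module.Finite K B := Module.Finite.of_submodule_quotient (LinearMap.ker ψ)
  have h5 := LinearMap.finrank_range_add_finrank_ker ψ
  have h6 : Module.finrank K (LinearMap.ker ψ) ≤ Module.finrank K (LinearMap.range φ) :=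
    Submodule.finrank_mono h
  have h7 : Module.finrank K (LinearMap.range φ) ≤ Module.finrank K A := LinearMap.finrank_range_le φ
  have h8 : Module.finrank K (LinearMap.range ψ) ≤ Module.finrank K C := Submodule.finrank_le _
  omega

variable {k : Type u} [Field k] {X : Scheme.{u}} {f : X ⟶ Spec (CommRingCat.of k)} (P : P1Data f)
  (σ : Spec (CommRingCat.of k) ⟶ X) (hσ : σ ≫ f = 𝟙 (Spec (CommRingCat.of k)))
  {T : Over (Spec (CommRingCat.of k))}

section maps

/-- The global section attached to an element of the kernel of the Čech differential. -/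
noncomputable def sc {M : (PicF.XT f T).Modules} (x : LinearMap.ker (dd P T M)) : Γ(M, ⊤) :=
  (pr_surj P T M x.1 x.2).choose

theorem pr_sc {M : (PicF.XT f T).Modules} (x : LinearMap.ker (dd P T M)) : pr P T M (sc P x) = x.1 :=
  (pr_surj P T M x.1 x.2).choose_spec

theorem sc_pr {M : (PicF.XT f T).Modules} (s : Γ(M, ⊤)) : sc P ⟨pr P T M s, pr_mem P T M s⟩ = s :=
  pr_injective P T M (pr_sc P _)

/-- Evaluation along `σ`. -/
noncomputable def evk (M : (PicF.XT f T).Modules) : LinearMap.ker (dd P T M) →ₗ[Γ(T.left, ⊤)]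
    Γ((Scheme.Modules.pullback (PicF.secT f σ hσ T)).obj M, ⊤) where
  toFun x := sg f σ hσ T M (sc P x)
  map_add' x y := by
    rw [← sg_add]
    congr 1
    apply pr_injective P T M
    rw [pr_sc]
    have : pr P T M (sc P x + sc P y) = pr P T M (sc P x) + pr P T M (sc P y) :=
      Prod.ext (map_add _ _ _) (map_add _ _ _)
    rw [this, pr_sc, pr_sc]
    rfl
  map_smul' c x := by
    rw [RingHom.id_apply, ← sg_smul]
    congr 1
    apply pr_injective P T M
    rw [pr_sc, pr_smul, pr_sc]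
    rfl

/-- Multiplication by a section. -/
noncomputable def mulk (N M : (PicF.XT f T).Modules) (s : Γ(M, ⊤)) :
    LinearMap.ker (dd P T N) →ₗ[Γ(T.left, ⊤)] LinearMap.ker (dd P T (CohB1.tensorMod N M)) :=
  (((Picfga.PtEval.mulSec N M s P.U₀).prodMap (Picfga.PtEval.mulSec N M s P.U₁)).comp
    (LinearMap.ker (dd P T N)).subtype).codRestrict _ (by
      intro x
      rw [LinearMap.mem_ker, dd_apply]
      have h1 := x.2
      rw [LinearMap.mem_ker, dd_apply, sub_eq_zero] at h1
      change resB f T _ inf_le_left (Picfga.PtEval.mulSec N M s P.U₀ x.1.1) -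
        resB f T _ inf_le_right (Picfga.PtEval.mulSec N M s P.U₁ x.1.2) = 0
      rw [← Picfga.PtEval.mulSec_resB, ← Picfga.PtEval.mulSec_resB, h1, sub_self])

theorem mulk_pr (N M : (PicF.XT f T).Modules) (s : Γ(M, ⊤)) (n : Γ(N, ⊤)) :
    (mulk P N M s ⟨pr P T N n, pr_mem P T N n⟩).1 = pr P T (CohB1.tensorMod N M) (tmul n s) := by
  have key : ∀ V : X.Opens, (tmul (res N (le_top : UT f T V ≤ ⊤) n) (res M le_top s) :
      Γ(CohB1.tensorMod N M, UT f T V)) = res _ le_top (tmul n s) := fun V => (res_tmul _ _ _).symm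
  exact Prod.ext (key _) (key _)

variable {N M : (PicF.XT f T).Modules} (hN : PicF.IsInvertible N) (hM : PicF.IsInvertible M) {s : Γ(M, ⊤)}
  {I : (PicF.XT f T).IdealSheafData} (hI : IsZeroIdeal M s I) (hE : BlowUp.IsEffCartierIdeal I)

include hN hM hI hE in
theorem mulk_injective : Function.Injective (mulk P N M s) := by
  intro x y hxy
  have h1 : x = ⟨pr P T N (sc P x), pr_mem P T N _⟩ := Subtype.ext (pr_sc P x).symm
  have h2 : y = ⟨pr P T N (sc P y), pr_mem P T N _⟩ := Subtype.ext (pr_sc P y).symm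
  rw [h1, h2] at hxy ⊢
  have h3 := congrArg Subtype.val hxy
  rw [mulk_pr, mulk_pr] at h3
  have h4 := pr_injective P T _ h3
  have h5 : sc P x = sc P y := by
    refine Picfga.PtTwist.tmul_inj hN hM hI hE (W := ⊤) ?_
    rw [res_refl]
    exact h4
  rw [h5]

include hN hM in
theorem ker_evk_le [IsSeparated f] (hI : IsZeroIdeal M s (PicF.secT f σ hσ T).ker)
    (hE : BlowUp.IsEffCartierIdeal (PicF.secT f σ hσ T).ker) :
    LinearMap.ker (evk P σ hσ (CohB1.tensorMod N M)) ≤ LinearMap.range (mulk P N M s) := by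
  intro y hy
  have h0 : evk P σ hσ (CohB1.tensorMod N M) y = 0 := hy
  have h1 : pullSec (PicF.secT f σ hσ T) (sc P y) = 0 := h0
  rw [Picfga.PtTwist.exists_tmul_eq_iff hN hM (PicF.secT f σ hσ T) hI hE] at h1
  obtain ⟨n, hn⟩ := h1
  rw [res_refl] at hn
  refine ⟨⟨pr P T N n, pr_mem P T N n⟩, Subtype.ext ?_⟩
  rw [mulk_pr, hn, pr_sc]

end maps

section cls

variable [SmoothOfRelativeDimension 1 f] [IsSeparated f]

/-- The class of `O(-σ)`. -/
noncomputable abbrev gs (T : Over (Spec (CommRingCat.of k))) : Pic (PicF.XT f T) := gcl f (Pt.ofSection hσ T)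

theorem pull_gs {T T' : Over (Spec (CommRingCat.of k))} (g : T' ⟶ T) :
    pull (PicF.XTmap f g) (gs σ hσ T) = gs σ hσ T' := by
  rw [gs, pull_gcl, Pt.ofSection_comp]

/-- A module with a section whose zero ideal is the ideal of `σ_T`. -/
theorem exists_section (T : Over (Spec (CommRingCat.of k))) :
    ∃ (M : (PicF.XT f T).Modules) (hM : PicF.IsInvertible M) (s : Γ(M, ⊤)),
      BlowUp.IsEffCartierIdeal (PicF.secT f σ hσ T).ker ∧ IsZeroIdeal M s (PicF.secT f σ hσ T).ker ∧
      mk M hM = (gs σ hσ T)⁻¹ := by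
  have hE : BlowUp.IsEffCartierIdeal (PicF.secT f σ hσ T).ker := isEff_secGraph f (Pt.ofSection hσ T)
  obtain ⟨M, hM, s, hs⟩ := Picfga.ZeroDiv.exists_section_of_isEffCartier hE
  exact ⟨M, hM, s, hE, hs, Fga.ZeroClass.mk_eq_inv_dcl hM s hs hE⟩

variable {K : Type u} [Field K] (t : Spec (CommRingCat.of K) ⟶ Spec (CommRingCat.of k))

theorem finite_ker {M : (PicF.XT f (Over.mk t)).Modules} (hM : PicF.IsInvertible M) :
    Module.Finite Γ((Over.mk t).left, ⊤) (LinearMap.ker (dd P (Over.mk t) M)) := by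
  have : IsAffine (Over.mk t).left := inferInstanceAs (IsAffine (Spec (CommRingCat.of K)))
  letI := (Picfga.ChiFin.isField_Γ t).toField
  rw [← latOf_d P (Over.mk t) M hM]
  exact Picfga.P1Alg.finite_ker (latOf (Over.mk t) P hM)

theorem finite_ev {E : (Over.mk t).left.Modules} (hE : PicF.IsInvertible E) :
    Module.Finite Γ((Over.mk t).left, ⊤) Γ(E, ⊤) ∧
      Module.finrank Γ((Over.mk t).left, ⊤) Γ(E, ⊤) = 1 := by
  have hsub : Subsingleton (Over.mk t).left := inferInstanceAs (Subsingleton (PrimeSpectrum K))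
  let z₀ : (Over.mk t).left := (IsLocalRing.closedPoint K : Spec (CommRingCat.of K))
  obtain ⟨e, he⟩ := Picfga.PtEval.exists_isGen_top z₀
    (fun U hU => by
      ext z
      rw [Subsingleton.elim z z₀]
      exact iff_of_true hU trivial) hE
  have : Nontrivial Γ((Over.mk t).left, ⊤) := (Picfga.ChiFin.isField_Γ t).nontrivial
  let φ : Γ((Over.mk t).left, ⊤) ≃ₗ[Γ((Over.mk t).left, ⊤)] Γ(E, ⊤) :=
    LinearEquiv.ofBijective (LinearMap.toSpanSingleton _ Γ(E, ⊤) e) he.bijective
  exact ⟨Module.Finite.equiv φ, by rw [← φ.finrank_eq, Module.finrank_self]⟩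

include P in
theorem hK_le (c : Pic (PicF.XT f (Over.mk t))) :
    hK f t 0 c ≤ hK f t 0 (c * (gs σ hσ (Over.mk t))⁻¹) := by
  obtain ⟨N, hN, rfl⟩ := exists_mk c
  obtain ⟨M, hM, s, hE, hs, hMc⟩ := exists_section σ hσ (Over.mk t)
  rw [← hMc, mk_mul_mk, hK_zero P, hK_zero P]
  letI := (Picfga.ChiFin.isField_Γ t).toField
  have := finite_ker P t (isInvertible_tensorMod hN hM)
  exact LinearMap.finrank_le_finrank_of_injective (mulk_injective P hN hM hs hE)

include P in
theorem hK_le_succ (c : Pic (PicF.XT f (Over.mk t))) :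
    hK f t 0 (c * (gs σ hσ (Over.mk t))⁻¹) ≤ hK f t 0 c + 1 := by
  obtain ⟨N, hN, rfl⟩ := exists_mk c
  obtain ⟨M, hM, s, hE, hs, hMc⟩ := exists_section σ hσ (Over.mk t)
  rw [← hMc, mk_mul_mk, hK_zero P, hK_zero P]
  letI := (Picfga.ChiFin.isField_Γ t).toField
  have i1 := finite_ker P t hN
  obtain ⟨i2, h2⟩ := finite_ev t (isInvertible_pullback (PicF.secT f σ hσ (Over.mk t)) (isInvertible_tensorMod hN hM))
  have h3 := finrank_le_of_exact (mulk P N M s) (evk P σ hσ (CohB1.tensorMod N M))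
    (ker_evk_le P σ hσ hN hM hs hE)
  rw [h2] at h3
  exact h3

include P in
/-- If the dimension drops, some section does not vanish along `σ`. -/
theorem exists_sg_ne {L : (PicF.XT f (Over.mk t)).Modules} (hL : PicF.IsInvertible L)
    (h : hK f t 0 (mk L hL * gs σ hσ (Over.mk t)) < hK f t 0 (mk L hL)) :
    ∃ s : Γ(L, ⊤), sg f σ hσ (Over.mk t) L s ≠ 0 := by
  by_contra hcon
  push Not at hcon
  obtain ⟨N, hN, hNc⟩ := exists_mk (mk L hL * gs σ hσ (Over.mk t))
  obtain ⟨M, hM, s, hE, hs, hMc⟩ := exists_section σ hσ (Over.mk t)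
  have h1 : mk L hL = mk (CohB1.tensorMod N M) (isInvertible_tensorMod hN hM) := by
    rw [← mk_mul_mk hN hM, ← hNc, hMc, mul_inv_cancel_right]
  obtain ⟨φ⟩ := (mk_eq_iff _ _).mp h1
  rw [hNc, h1, hK_zero P, hK_zero P] at h
  letI := (Picfga.ChiFin.isField_Γ t).toField
  have i1 := finite_ker P t hN
  have i2 := finite_ker P t (isInvertible_tensorMod hN hM)
  have h2 : LinearMap.ker (evk P σ hσ (CohB1.tensorMod N M)) = ⊤ := by
    rw [LinearMap.ker_eq_top]
    ext x
    change sg f σ hσ (Over.mk t) _ (sc P x) = 0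
    have h3 := sg_map f σ hσ (Over.mk t) φ.hom (φ.inv.app ⊤ (sc P x))
    rw [hom_app_inv_app, hcon, map_zero] at h3
    exact h3
  have h3 := ker_evk_le P σ hσ hN hM hs hE
  rw [h2, top_le_iff, LinearMap.range_eq_top] at h3
  have h4 := LinearMap.finrank_le_finrank_of_surjective h3
  exact absurd h (not_lt.mpr h4)

/-- The Euler characteristic. -/
theorem chiK_eq (c : Pic (PicF.XT f (Over.mk t))) :
    chiK f t c = (hK f t 0 c : ℤ) - hK f t 1 c := by
  obtain ⟨M, hM, rfl⟩ := exists_mk c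
  letI := overK f t
  have h1 : FGA.eulerCharLE K (PicF.XT f (Over.mk t)) M 1 =
      (Module.finrank K (Coh.HH (PicF.XT f (Over.mk t)) M 0) : ℤ) -
      (Module.finrank K (Coh.HH (PicF.XT f (Over.mk t)) M 1) : ℤ) := by
    simp [FGA.eulerCharLE, Finset.sum_range_succ]
    ring
  exact h1

end cls

end K659.BNPt
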