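import Groth.Agent.FunFld.K659.BNSec
import Mathlib.AlgebraicGeometry.FunctionField

/-!
# Ratios of sections of an invertible module on an integral scheme
-/

set_option autoImplicit false
universe u

open CategoryTheory CategoryTheory.Limits AlgebraicGeometry Opposite TopologicalSpace
open Groth.Agent Groth.Agent.Fdesc.LocGen Groth.Agent.Grpsch.PicGrp

namespace K659.BNRatio

variable {C : Scheme.{u}} [IsIntegral C]

/-- A function as an element of the function field. -/
noncomputable abbrev gf (U : C.Opens) [Nonempty U] : Γ(C, U) →+* C.functionField := (C.germToFunctionField U).hom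

theorem gf_ores {U V : C.Opens} [Nonempty U] [Nonempty V] (h : V ≤ U) (a : Γ(C, U)) :
    gf V (ores h a) = gf U a := by
  have h1 := C.presheaf.germ_res (homOfLE h) (genericPoint C)
    (((genericPoint_spec C).mem_open_set_iff V.isOpen).mpr (by simpa using ‹Nonempty V›))
  exact congrArg (fun z => z.hom a) h1

theorem gf_injective (U : C.Opens) [Nonempty U] : Function.Injective (gf U) := C.germToFunctionField_injective U

theorem nonempty_inf (U V : C.Opens) [hU : Nonempty U] [hV : Nonempty V] : Nonempty (U ⊓ V : C.Opens) := by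
  obtain ⟨x, hx, hx'⟩ := (nonempty_preirreducible_inter U.isOpen V.isOpen
    ⟨hU.some.1, hU.some.2⟩ ⟨hV.some.1, hV.some.2⟩ : ((U : Set C) ∩ V).Nonempty)
  exact ⟨⟨x, hx, hx'⟩⟩

theorem ratio {M : C.Modules} {U V : C.Opens} [Nonempty U] [Nonempty V] {m : Γ(M, U)} {m' : Γ(M, V)}
    (hm' : IsGen m') {s t : Γ(M, ⊤)} {a b : Γ(C, U)} {a' b' : Γ(C, V)}
    (h1 : res M le_top s = a • m) (h2 : res M le_top t = b • m) (h1' : res M le_top s = a' • m')
    (h2' : res M le_top t = b' • m') : gf U a * gf V b' = gf V a' * gf U b := by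
  haveI := nonempty_inf U V
  have hl : U ⊓ V ≤ U := inf_le_left
  have hr : U ⊓ V ≤ V := inf_le_right
  obtain ⟨c, hc⟩ := (hm'.res hr).exists_eq (res M hl m)
  have key : ∀ {x : Γ(M, ⊤)} {y : Γ(C, U)} {y' : Γ(C, V)}, res M le_top x = y • m → res M le_top x = y' • m' →
      gf U y * gf (U ⊓ V) c = gf V y' := by
    intro x y y' hx hx'
    have e1 := congrArg (res M hl) hx
    have e2 := congrArg (res M hr) hx'
    rw [res_res, res_smul] at e1 e2
    rw [hc, smul_smul] at e1
    have e3 := (hm'.res hr).ext (e1.symm.trans e2)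
    rw [← gf_ores hl y, ← gf_ores hr y', ← map_mul, e3]
  rw [← key h2 h2', ← key h1 h1']
  ring

/-- A section of an invertible module which vanishes somewhere is zero. -/
theorem eq_zero_of_res {M : C.Modules} (hM : PicF.IsInvertible M) {s : Γ(M, ⊤)} (U : C.Opens) [Nonempty U]
    (h : res M (le_top : U ≤ ⊤) s = 0) : s = 0 := by
  choose V e hxV he using fun x => (isInvertible_iff M).mp hM x
  refine res_ext M V (fun x => le_top) (fun x _ => Opens.mem_iSup.mpr ⟨x, hxV x⟩) fun x => ?_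
  haveI : Nonempty (V x) := ⟨⟨x, hxV x⟩⟩
  haveI := nonempty_inf U (V x)
  obtain ⟨a, ha⟩ := (he x).exists_eq (res M le_top s)
  have h1 := congrArg (res M (inf_le_right : U ⊓ V x ≤ V x)) ha
  rw [res_res, res_smul] at h1
  have h2 := congrArg (res M (inf_le_left : U ⊓ V x ≤ U)) h
  rw [res_res, map_zero] at h2
  have h3 : ores (inf_le_right : U ⊓ V x ≤ V x) a = 0 := by
    apply ((he x).res (inf_le_right : U ⊓ V x ≤ V x)).ext
    rw [← h1, h2, zero_smul]
  have h4 : a = 0 := by
    apply gf_injective (V x)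
    rw [← gf_ores (inf_le_right : U ⊓ V x ≤ V x), h3, map_zero, map_zero]
  rw [ha, h4, zero_smul, map_zero]

instance instTop : Nonempty ((⊤ : C.Opens) : Set C) := ⟨⟨genericPoint C, trivial⟩⟩

instance instTop' : Nonempty (⊤ : C.Opens) := ⟨⟨genericPoint C, trivial⟩⟩

/-- The ratios `t / s`. -/
theorem exists_ratio {M : C.Modules} (hM : PicF.IsInvertible M) {s : Γ(M, ⊤)} (hs : s ≠ 0) :
    ∃ φ : Γ(M, ⊤) → C.functionField, (∀ t, φ t = 0 → t = 0) ∧ (∀ t t', φ (t + t') = φ t + φ t') ∧
      (∀ (c : Γ(C, ⊤)) t, φ (c • t) = gf ⊤ c * φ t) ∧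
      ∀ (t : Γ(M, ⊤)) (U : C.Opens) [Nonempty U] (m : Γ(M, U)), IsGen m → ∀ a b : Γ(C, U),
        res M le_top s = a • m → res M le_top t = b • m → gf U a ≠ 0 ∧ φ t = gf U b / gf U a := by
  obtain ⟨U₀, m₀, hx₀, hm₀⟩ := (isInvertible_iff M).mp hM (genericPoint C)
  haveI : Nonempty U₀ := ⟨⟨_, hx₀⟩⟩
  obtain ⟨a₀, ha₀⟩ := hm₀.exists_eq (res M le_top s)
  choose b₀ hb₀ using fun t => hm₀.exists_eq (res M (le_top : U₀ ≤ ⊤) t)
  have hz : ∀ {U : C.Opens} [Nonempty U] {m : Γ(M, U)} {a : Γ(C, U)}, res M le_top s = a • m → gf U a ≠ 0 := by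
    intro U _ m a h h0
    apply hs
    apply eq_zero_of_res hM U
    have : a = 0 := gf_injective U (by rw [h0, map_zero])
    rw [h, this, zero_smul]
  refine ⟨fun t => gf U₀ (b₀ t) / gf U₀ a₀, fun t ht => ?_, fun t t' => ?_, fun c t => ?_,
    fun t U _ m hm a b ha hb => ⟨hz ha, ?_⟩⟩
  · rcases div_eq_zero_iff.mp ht with h | h
    · apply eq_zero_of_res hM U₀
      have : b₀ t = 0 := gf_injective U₀ (by rw [h, map_zero])
      rw [hb₀, this, zero_smul]
    · exact absurd h (hz ha₀)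
  · have : b₀ (t + t') = b₀ t + b₀ t' := by
      apply hm₀.ext
      rw [← hb₀, add_smul, ← hb₀, ← hb₀, map_add]
    change gf U₀ (b₀ (t + t')) / gf U₀ a₀ = _
    rw [this, map_add, add_div]
  · have : b₀ (c • t) = ores le_top c * b₀ t := by
      apply hm₀.ext
      rw [← hb₀, mul_smul, ← hb₀, res_smul]
    change gf U₀ (b₀ (c • t)) / gf U₀ a₀ = _
    rw [this, map_mul, gf_ores, mul_div_assoc]
  · have h1 := ratio hm₀ ha hb ha₀ (hb₀ t)
    rw [div_eq_div_iff (hz ha₀) (hz ha)]
    linear_combination h1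

end K659.BNRatio
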