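import Groth.Agent.FunFld.K659.BNDeg

/-!
# Rigidified classes attached to divisors away from the section
-/

set_option autoImplicit false
set_option backward.isDefEq.respectTransparency false
universe u

open CategoryTheory CategoryTheory.Limits AlgebraicGeometry Opposite TopologicalSpace
open Groth.Agent Groth.Agent.Fdesc.LocGen Groth.Agent.Picfga.P1Def Groth.Agent.Picfga.SecBC
  Groth.Agent.Picfga.LatOf Groth.Agent.Picfga.LatH0 Groth.Agent.Picfga.PicGood Groth.Agent.Picfga.ZeroDef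
  Groth.Agent.Picfga.ZeroDiv
  Groth.Agent.Grpsch.PicGrp Groth.Agent.Fga.JacSum Groth.Agent.Fga.JacSurj Groth.Agent.Fga.JacFactor
  Groth.Agent.Fga.ZeroClass Groth.Agent.Fga.RigGrp
  Groth.Agent.Picfga.ChiDef K659.BNLoc K659.BNFib K659.BNPt K659.BNAff K659.BNLocus

namespace K659.BNRig

variable {k : Type u} [Field k] {X : Scheme.{u}} {f : X ⟶ Spec (CommRingCat.of k)}
  (σ : Spec (CommRingCat.of k) ⟶ X) (hσ : σ ≫ f = 𝟙 (Spec (CommRingCat.of k)))

theorem gs_mem [SmoothOfRelativeDimension 1 f] [IsSeparated f] (T : Over (Spec (CommRingCat.of k))) :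
    gs σ hσ T ∈ Rg f σ hσ T := by
  let q : T ⟶ Over.mk (𝟙 (Spec (CommRingCat.of k))) := Over.homMk T.hom (Category.comp_id _)
  rw [← pull_gs σ hσ q]
  refine pull_mem q ?_
  rw [mem_Rg]
  exact pic_spec_local k _

theorem dcl_mem (T : Over (Spec (CommRingCat.of k))) {I : (PicF.XT f T).IdealSheafData}
    (hE : BlowUp.IsEffCartierIdeal I) (hoff : off f σ hσ T I = ⊤) : dcl I hE ∈ Rg f σ hσ T := by
  have h1 : I.comap (PicF.secT f σ hσ T) = ⊤ := by
    rw [← Scheme.IdealSheafData.support_eq_bot_iff, Scheme.IdealSheafData.support_comap]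
    ext t
    refine iff_of_false (fun h => ?_) (fun h => h)
    have h2 : t ∈ off f σ hσ T I := by rw [hoff]; trivial
    exact h2 h
  rw [mem_Rg, dcl, pull_mk]
  have hE' : BlowUp.IsEffCartierIdeal (I.comap (PicF.secT f σ hσ T)) := by
    rw [h1]; exact Divis.EffCartier.isEff_top
  have h2 := Dix.IdealModCartier.pullback_idealMod (PicF.secT f σ hσ T) hE hE'
  have h3 : mk ((Scheme.Modules.pullback (PicF.secT f σ hσ T)).obj (ClSub.idealMod I))
      (isInvertible_pullback _ (Dix.IdealModCartier.isInvertible_idealMod hE)) = dcl _ hE' := by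
    rw [dcl, mk_eq_iff]
    exact h2
  rw [h3, dcl_congr h1 hE', dcl_top]

variable [SmoothOfRelativeDimension 1 f] [IsSeparated f]

/-- The universal property of the Jacobian. -/
structure IsJac (J : Over (Spec (CommRingCat.of k))) (ξ : Pic (PicF.XT f J)) : Prop where
  mem : ξ ∈ Rg f σ hσ J
  chi : ∀ t, chiAt f J t ξ = chiAt f J t 1
  univ : ∀ (T : Over (Spec (CommRingCat.of k))) (c : Pic (PicF.XT f T)), c ∈ Rg f σ hσ T →
    (∀ t, chiAt f T t c = chiAt f T t 1) → ∃! g : T ⟶ J, pull (PicF.XTmap f g) ξ = c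

variable {σ hσ}

theorem IsJac.hom_ext [QuasiCompact f] {J : Over (Spec (CommRingCat.of k))} {ξ : Pic (PicF.XT f J)}
    (h : IsJac σ hσ J ξ) {T : Over (Spec (CommRingCat.of k))} {a b : T ⟶ J}
    (hab : pull (PicF.XTmap f a) ξ = pull (PicF.XTmap f b) ξ) : a = b := by
  refine (h.univ T (pull (PicF.XTmap f b) ξ) (pull_mem b h.mem) fun t => ?_).unique hab rfl
  have hBC := Fga.JacFib.bcStep f
  rw [chiAt_pull hBC, h.chi]
  have h1 := chiAt_pull hBC b t 1
  rw [map_one] at h1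
  exact h1.symm

theorem IsJac.hom_ext_tw [QuasiCompact f] {J : Over (Spec (CommRingCat.of k))} {ξ : Pic (PicF.XT f J)}
    (h : IsJac σ hσ J ξ) (n : ℕ) {T : Over (Spec (CommRingCat.of k))} {a b : T ⟶ J}
    (hab : pull (PicF.XTmap f a) (tw σ hσ ξ n) = pull (PicF.XTmap f b) (tw σ hσ ξ n)) : a = b := by
  rw [pull_tw, pull_tw] at hab
  exact h.hom_ext (mul_right_cancel hab)

/-- Classification of divisors of degree `n` away from `σ`. -/
theorem IsJac.exists_hom [QuasiCompact f] (P : P1Data f) (hX : Curve.IsSmoothProperCurve k X f)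
    {J : Over (Spec (CommRingCat.of k))} {ξ : Pic (PicF.XT f J)}
    (h : IsJac σ hσ J ξ) (n : ℕ) {T : Over (Spec (CommRingCat.of k))} {I : (PicF.XT f T).IdealSheafData}
    (hI : Mor2.IsFinLocFreeOfDeg n (I.subschemeι ≫ PicF.XTproj f T)) (hE : BlowUp.IsEffCartierIdeal I)
    (hoff : off f σ hσ T I = ⊤) :
    ∃ a : T ⟶ J, pull (PicF.XTmap f a) (tw σ hσ ξ n) = (dcl I hE)⁻¹ := by
  obtain ⟨a, ha, -⟩ := h.univ T ((dcl I hE)⁻¹ * gs σ hσ T ^ n)
    (mul_mem (inv_mem (dcl_mem σ hσ T hE hoff)) (pow_mem (gs_mem σ hσ T) n)) (fun t => by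
      obtain ⟨M, hM, s, hs⟩ := exists_section_of_isEffCartier hE
      have h1 := BNDeg.chiAt_eq_of_zero P hM hs hI.1 t
      have := hI.1.1
      have h2 := hI.2 t
      rw [h2] at h1
      rw [mk_eq_inv_dcl hM s hs hE] at h1
      have h3 := chiAt_mul_gs_pow hX σ hσ T t ((dcl I hE)⁻¹ * gs σ hσ T ^ n) n
      rw [inv_pow, mul_inv_cancel_right, h1] at h3
      linarith)
  refine ⟨a, ?_⟩
  rw [pull_tw, ha, tw, inv_pow, mul_inv_cancel_right]

end K659.BNRig
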