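import Groth.Agent.FunFld.K659.BNLoc
import Groth.Agent.FunFld.K659.BNOff
import Groth.Agent.Picfga.ZeroDiv
import Groth.Agent.Picfga.ZeroFin
import Groth.Agent.Picfga.H0
import Groth.Agent.Fga.ZeroClass

/-!
# Sections of an invertible module on a relative curve through their zero ideals

* `exists_unit_smul`: an endomorphism of an invertible module is multiplication by a function.
* `off_eq_basicOpen`: the locus where the zero scheme of `s` does not meet `σ`.
* `eq_of_isZeroIdeal`: a section normalised along `σ` is determined by its zero ideal.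
-/

set_option autoImplicit false
set_option backward.isDefEq.respectTransparency false
universe u

open CategoryTheory CategoryTheory.Limits AlgebraicGeometry Opposite TopologicalSpace
open Groth.Agent Groth.Agent.Fdesc.LocGen Groth.Agent.Picfga Groth.Agent.Picfga.P1Def Groth.Agent.Picfga.PicGood
  Groth.Agent.Picfga.ZeroDef Groth.Agent.Picfga.ZeroDiv Groth.Agent.Picfga.ZeroFin Groth.Agent.Picfga.HilbPull
  Groth.Agent.Divis.IdealComap K659.BNAff K659.BNLoc

namespace K659.BNSec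

/-- An endomorphism of an invertible module is multiplication by a function. -/
theorem exists_smul {Y : Scheme.{u}} {M : Y.Modules} (hM : PicF.IsInvertible M) (φ : M ⟶ M) :
    ∃ c : Γ(Y, ⊤), ∀ s : Γ(M, ⊤), φ.app ⊤ s = c • s := by
  rw [isInvertible_iff] at hM
  choose U e hx he using hM
  choose a ha using fun x => (he x).exists_eq (φ.app (U x) (e x))
  have hcov : (⊤ : Y.Opens) ≤ ⨆ x, U x := fun x _ => Opens.mem_iSup.2 ⟨x, hx x⟩
  have key : ∀ (x : Y) (W : Y.Opens) (h : W ≤ U x) (m : Γ(M, W)), φ.app W m = ores h (a x) • m := by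
    intro x W h m
    obtain ⟨b, rfl⟩ := ((he x).res h).exists_eq m
    rw [Scheme.Modules.Hom.app_smul, app_res, ha, res_smul, smul_smul, smul_smul, mul_comm]
  obtain ⟨c, hc⟩ := ores_glue U (fun _ => le_top) hcov a (by
    intro x y
    apply ((he x).res (inf_le_left : U x ⊓ U y ≤ U x)).ext
    rw [← key, ← key])
  refine ⟨c, fun s => res_ext M U (fun _ => le_top) hcov fun x => ?_⟩
  rw [← app_res, key x (U x) le_rfl, ores_refl, res_smul, hc]

section zero

variable {X S : Scheme.{u}} (f : X ⟶ S) (σ : S ⟶ X) (hσ : σ ≫ f = 𝟙 S)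

/-- The zero scheme of `s` misses `σ` where the coefficient of `s` along `σ` is invertible. -/
theorem off_eq_basicOpen (T : Over S) {M : (PicF.XT f T).Modules} (hM : PicF.IsInvertible M) {s : Γ(M, ⊤)}
    {I : (PicF.XT f T).IdealSheafData} (hI : IsZeroIdeal M s I)
    {e : Γ((Scheme.Modules.pullback (PicF.secT f σ hσ T)).obj M, ⊤)} (he : IsGen e) {c : Γ(T.left, ⊤)}
    (hc : sg f σ hσ T M s = c • e) : off f σ hσ T I = T.left.basicOpen c := by
  ext t
  obtain ⟨W, m, hW, hm⟩ := (isInvertible_iff M).mp hM (PicF.secT f σ hσ T t)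
  obtain ⟨U, V, htU, htV, -, hUW, hVU⟩ := exists_affine_le (PicF.secT f σ hσ T) t ⊤ trivial W hW
  have hm' := hm.res hUW
  obtain ⟨a, ha⟩ := hm'.exists_eq (res M le_top s)
  have hIa := hI U _ hm' a ha
  -- the coefficient of `s` along `σ`
  have hgen : IsGen (res _ hVU (pullSec (PicF.secT f σ hσ T) (res M hUW m))) := (hm'.pullSec _).res hVU
  have h1 : res _ (le_top : V.1 ≤ ⊤) (sg f σ hσ T M s) =
      ((PicF.secT f σ hσ T).appLE U.1 V.1 hVU).hom a •
        res _ hVU (pullSec (PicF.secT f σ hσ T) (res M hUW m)) := by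
    have h2 : res _ (le_top : V.1 ≤ ⊤) (sg f σ hσ T M s) =
        res _ hVU (pullSec (PicF.secT f σ hσ T) (res M (le_top : U.1 ≤ ⊤) s)) := by
      rw [← res_pullSec, res_res]
      rfl
    rw [h2, ha, pullSec_smul, res_smul]
    rfl
  rw [hc, res_smul] at h1
  obtain ⟨w, hw, hwe⟩ := (he.res (le_top : V.1 ≤ ⊤)).exists_unit hgen
  have h3 : ores (le_top : V.1 ≤ ⊤) c = ((PicF.secT f σ hσ T).appLE U.1 V.1 hVU).hom a * w := by
    apply (he.res (le_top : V.1 ≤ ⊤)).ext
    rw [h1, hwe, smul_smul]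
  change PicF.secT f σ hσ T t ∉ I.support ↔ t ∈ T.left.basicOpen c
  have h4 : PicF.secT f σ hσ T t ∉ I.support ↔ PicF.secT f σ hσ T t ∈ (PicF.XT f T).basicOpen a := by
    have h5 := I.coe_support_inter U
    rw [hIa, Scheme.zeroLocus_span, Scheme.zeroLocus_singleton] at h5
    have h6 : PicF.secT f σ hσ T t ∈ (I.support : Set (PicF.XT f T)) ∩ U.1 ↔
        PicF.secT f σ hσ T t ∈ ((((PicF.XT f T).basicOpen a : Set (PicF.XT f T)))ᶜ ∩ U.1) := by
      rw [h5]
    constructor
    · intro h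
      by_contra h7
      exact h (h6.mpr ⟨h7, htU⟩).1
    · intro h h7
      exact (h6.mp ⟨h7, htU⟩).1 h
  rw [h4]
  have h8 : t ∈ T.left.basicOpen c ↔ t ∈ T.left.basicOpen (ores (le_top : V.1 ≤ ⊤) c) := by
    have h9 := T.left.basicOpen_res c (homOfLE (le_top : V.1 ≤ ⊤)).op
    change t ∈ T.left.basicOpen c ↔ t ∈ T.left.basicOpen (T.left.presheaf.map (homOfLE (le_top : V.1 ≤ ⊤)).op c)
    rw [h9]
    exact ⟨fun h => ⟨htV, h⟩, fun h => h.2⟩
  rw [h8, h3, Scheme.basicOpen_mul, Scheme.basicOpen_of_isUnit _ hw]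
  have h10 : T.left.basicOpen (((PicF.secT f σ hσ T).appLE U.1 V.1 hVU).hom a) =
      V.1 ⊓ (PicF.secT f σ hσ T) ⁻¹ᵁ (PicF.XT f T).basicOpen a := by
    rw [← Scheme.basicOpen_appLE]
  rw [h10]
  exact ⟨fun h => ⟨⟨htV, h⟩, htV⟩, fun h => h.1.2⟩

theorem isUnit_of_off_eq_top (T : Over S) {M : (PicF.XT f T).Modules} (hM : PicF.IsInvertible M) {s : Γ(M, ⊤)}
    {I : (PicF.XT f T).IdealSheafData} (hI : IsZeroIdeal M s I)
    {e : Γ((Scheme.Modules.pullback (PicF.secT f σ hσ T)).obj M, ⊤)} (he : IsGen e) {c : Γ(T.left, ⊤)}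
    (hc : sg f σ hσ T M s = c • e) (h : off f σ hσ T I = ⊤) : IsUnit c := by
  apply PicCBC.isUnit_of_basicOpen_eq_top
  rw [← off_eq_basicOpen f σ hσ T hM hI he hc, h]

end zero

section uniq

variable {k : Type u} [Field k] {X : Scheme.{u}} {f : X ⟶ Spec (CommRingCat.of k)}
  (hX : Curve.IsSmoothProperCurve k X f)
  (σ : Spec (CommRingCat.of k) ⟶ X) (hσ : σ ≫ f = 𝟙 (Spec (CommRingCat.of k)))

include hX in
/-- A section normalised along `σ` is determined by its zero ideal. -/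
theorem eq_of_isZeroIdeal (T : Over (Spec (CommRingCat.of k))) {M : (PicF.XT f T).Modules}
    (hM : PicF.IsInvertible M) {s s' : Γ(M, ⊤)} {I : (PicF.XT f T).IdealSheafData}
    (hI : IsZeroIdeal M s I) (hI' : IsZeroIdeal M s' I) (hE : BlowUp.IsEffCartierIdeal I)
    {e : Γ((Scheme.Modules.pullback (PicF.secT f σ hσ T)).obj M, ⊤)} (he : IsGen e) {c : Γ(T.left, ⊤)}
    (hcu : IsUnit c) (hc : sg f σ hσ T M s = c • e) (hc' : sg f σ hσ T M s' = c • e) : s = s' := by
  obtain ⟨φ, hφ⟩ := exists_iso_of_isZeroIdeal hM hM hE hI hI'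
  obtain ⟨a, ha⟩ := exists_smul hM φ.hom
  obtain ⟨b, rfl⟩ := (H0.bijective_appTop_XTproj f σ hσ hX T).2 a
  have h1 : s' = fn f T b • s := hφ.symm.trans (ha s)
  have h2 : c • e = (b * c) • e := by
    rw [← hc', h1, sg_smul, hc, smul_smul]
  have h3 : b = 1 := by
    have h4 := he.ext h2
    exact hcu.mul_right_cancel (by rw [one_mul]; exact h4.symm)
  rw [h1, h3]
  change s = (PicF.XTproj f T).appTop.hom 1 • s
  rw [map_one, one_smul]

end uniq

end K659.BNSec
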