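import Groth.Agent.FunFld.K659.BNRig
import Groth.Agent.S3238
import Groth.Agent.S3239
import Groth.Agent.Dix.Cast0
import Groth.Agent.Picfga.H0

/-!
# The Jacobian, and the class of the structure sheaf
-/

set_option autoImplicit false
set_option backward.isDefEq.respectTransparency false
universe u

open CategoryTheory CategoryTheory.Limits AlgebraicGeometry Opposite TopologicalSpace
open Groth.Agent Groth.Agent.Fdesc.LocGen Groth.Agent.Picfga.P1Def Groth.Agent.Picfga.SecBC
  Groth.Agent.Picfga.LatOf Groth.Agent.Picfga.LatH0 Groth.Agent.Picfga.PicGood Groth.Agent.Picfga.ZeroDef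
  Groth.Agent.Picfga.ZeroDiv
  Groth.Agent.Grpsch.PicGrp Groth.Agent.Fga.JacSum Groth.Agent.Fga.JacSurj Groth.Agent.Fga.JacFactor
  Groth.Agent.Fga.ZeroClass Groth.Agent.Fga.RigGrp
  Groth.Agent.Picfga.ChiDef K659.BNLoc K659.BNFib K659.BNPt K659.BNAff K659.BNLocus K659.BNRig

namespace K659.BNTriv

variable {k : Type u} [Field k] {X : Scheme.{u}} {f : X ⟶ Spec (CommRingCat.of k)}

section jac

variable (σ : Spec (CommRingCat.of k) ⟶ X) (hσ : σ ≫ f = 𝟙 (Spec (CommRingCat.of k)))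

theorem exists_jac [IsSepClosed k] [IsProper f] [Smooth f] [GeometricallyIrreducible f]
    [SmoothOfRelativeDimension 1 f] (hdim : topologicalKrullDim X = 1)
    [X.Over (Spec (CommRingCat.of k))] (hf : X ↘ Spec (CommRingCat.of k) = f) :
    ∃ (J : Over (Spec (CommRingCat.of k))) (ξ : Pic (PicF.XT f J)), IsProper J.hom ∧ Smooth J.hom ∧
      GeometricallyIrreducible J.hom ∧ IsJac σ hσ J ξ ∧
      topologicalKrullDim J.left = (Module.finrank k (Coh.HH X (Coh.structureModule X) 1) : WithBot ℕ∞) := by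
  obtain ⟨J, ξr, hp, hs, hgi, hdeg, huniv⟩ := Groth.Agent.S3238.result k X f hdim σ hσ
  have hd := Groth.Agent.S3239.result k X f hdim σ hσ hf J ξr hdeg huniv
  have hFib := Fga.JacFib.fibStep f
  obtain ⟨ξ, rfl⟩ := (rigEquiv f σ hσ J).surjective ξr
  refine ⟨J, ξ.1, hp, hs, hgi, ⟨ξ.2, ?_, ?_⟩, hd⟩
  · rw [rigEquiv_coe] at hdeg
    exact (hFib J ξ.1).1 hdeg
  · intro T c hc hchi
    obtain ⟨g, hg, hu⟩ := huniv T (rigEquiv f σ hσ T ⟨c, hc⟩) (by
      rw [rigEquiv_coe]
      exact (hFib T c).2 hchi)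
    rw [rigEquiv_coe, rigEquiv_coe, ← toCl_pull] at hg
    refine ⟨g, toCl_injective hg, fun g' hg' => hu g' ?_⟩
    change PicF.pullCl (PicF.XTmap f g') (toCl ξ.1) = toCl c
    rw [← toCl_pull]
    exact congrArg toCl hg'

end jac

section triv

/-- The base `Spec k`. -/
noncomputable abbrev T₀ (k : Type u) [Field k] : Over (Spec (CommRingCat.of k)) :=
  Over.mk (𝟙 (Spec (CommRingCat.of k)))

variable (f) in
/-- The projection from `X_{Spec k}` to `X`. -/
noncomputable abbrev pr : PicF.XT f (T₀ k) ⟶ X := pullback.fst f (𝟙 (Spec (CommRingCat.of k)))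

instance isIso_pr : IsIso (pr f) := inferInstanceAs (IsIso (pullback.fst f (𝟙 (Spec (CommRingCat.of k)))))

theorem pr_comp : pr f ≫ f = PicF.XTproj f (T₀ k) :=
  (pullback.condition (f := f) (g := 𝟙 (Spec (CommRingCat.of k)))).trans (Category.comp_id _)

theorem hK_one_one [X.Over (Spec (CommRingCat.of k))] (hf : X ↘ Spec (CommRingCat.of k) = f) :
    hK f (𝟙 (Spec (CommRingCat.of k))) 1 1 = Module.finrank k (Coh.HH X (Coh.structureModule X) 1) := by
  letI := overK f (𝟙 (Spec (CommRingCat.of k)))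
  have h1 : hK f (𝟙 (Spec (CommRingCat.of k))) 1 1 =
      Module.finrank k (Coh.HH (PicF.XT f (T₀ k)) (Coh.structureModule (PicF.XT f (T₀ k))) 1) := rfl
  rw [h1, ← Dix.Cast0.finrank_HH_iso k (pr f) (by rw [hf]; exact pr_comp) (Coh.structureModule X)
    (Ega2.QCohLocal.isQCoh_of_isInvertible isInvertible_structureModule) 1]
  exact (CurvesA.HHMap.equivOver k (CurvesA.HHMap.pullbackUnit (pr f)) 1).finrank_eq.symm

theorem hK_zero_one (hX : Curve.IsSmoothProperCurve k X f) (σ : Spec (CommRingCat.of k) ⟶ X)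
    (hσ : σ ≫ f = 𝟙 (Spec (CommRingCat.of k))) : hK f (𝟙 (Spec (CommRingCat.of k))) 0 1 = 1 := by
  letI := overK f (𝟙 (Spec (CommRingCat.of k)))
  have h1 : hK f (𝟙 (Spec (CommRingCat.of k))) 0 1 =
      Module.finrank k (Coh.HH (PicF.XT f (T₀ k)) (Coh.structureModule (PicF.XT f (T₀ k))) 0) := rfl
  rw [h1, (Picfga.ChiCech.h0Top k (Coh.structureModule (PicF.XT f (T₀ k)))).finrank_eq]
  have h2 := Picfga.H0.bijective_appTop_XTproj f σ hσ hX (T₀ k)
  have h3 : Function.Bijective (Coh.toGlobal (PicF.XTproj f (T₀ k)) : k → Γ(PicF.XT f (T₀ k), ⊤)) := by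
    have h4 : Function.Bijective (Scheme.ΓSpecIso (CommRingCat.of k)).inv.hom :=
      (Scheme.ΓSpecIso (CommRingCat.of k)).symm.commRingCatIsoToRingEquiv.bijective
    exact h2.comp h4
  have h5 : Function.Bijective (LinearMap.toSpanSingleton k
      (Picfga.ChiCech.SecA k (Coh.structureModule (PicF.XT f (T₀ k))) ⊤) (Picfga.ChiCech.toSecA (one ⊤))) := by
    have h6 : ∀ c : k, LinearMap.toSpanSingleton k
        (Picfga.ChiCech.SecA k (Coh.structureModule (PicF.XT f (T₀ k))) ⊤) (Picfga.ChiCech.toSecA (one ⊤)) c =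
        Picfga.ChiCech.toSecA (ofFun (Coh.toGlobal (PicF.XTproj f (T₀ k)) c)) := by
      intro c
      rw [LinearMap.toSpanSingleton_apply, Picfga.ChiCech.toSecA_smul]
      congr 1
      rw [ofFun_eq_smul]
      congr 1
      exact ores_refl _
    constructor
    · intro c c' h
      rw [h6, h6] at h
      exact h3.1 (ofFun.injective (Picfga.ChiCech.toSecA.injective h))
    · intro m
      obtain ⟨c, hc⟩ := h3.2 (ofFun.symm (Picfga.ChiCech.toSecA.symm m))
      refine ⟨c, ?_⟩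
      rw [h6, hc]
      rfl
  rw [← (LinearEquiv.ofBijective _ h5).finrank_eq, Module.finrank_self]

theorem chiK_one [SmoothOfRelativeDimension 1 f] [IsSeparated f] (hX : Curve.IsSmoothProperCurve k X f)
    (σ : Spec (CommRingCat.of k) ⟶ X) (hσ : σ ≫ f = 𝟙 (Spec (CommRingCat.of k)))
    [X.Over (Spec (CommRingCat.of k))] (hf : X ↘ Spec (CommRingCat.of k) = f) :
    chiK f (𝟙 (Spec (CommRingCat.of k))) 1 = 1 - (Module.finrank k (Coh.HH X (Coh.structureModule X) 1) : ℤ) := by
  rw [chiK_eq, hK_zero_one hX σ hσ, hK_one_one hf]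
  rfl

end triv

end K659.BNTriv
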