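import Groth.Agent.FunFld.K659.BNTriv
import Groth.Agent.FunFld.K659.BNDiv2

/-!
# From a point of the Brill-Noether locus to a divisor
-/

set_option autoImplicit false
set_option backward.isDefEq.respectTransparency false
universe u

open CategoryTheory CategoryTheory.Limits AlgebraicGeometry Opposite TopologicalSpace
open Groth.Agent Groth.Agent.Fdesc.LocGen Groth.Agent.Picfga.P1Def Groth.Agent.Picfga.SecBC
  Groth.Agent.Picfga.LatOf Groth.Agent.Picfga.LatH0 Groth.Agent.Picfga.PicGood Groth.Agent.Picfga.ZeroDef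
  Groth.Agent.Picfga.ZeroDiv
  Groth.Agent.Grpsch.PicGrp Groth.Agent.Fga.JacSum Groth.Agent.Fga.JacSurj Groth.Agent.Fga.JacFactor
  Groth.Agent.Fga.ZeroClass Groth.Agent.Fga.RigGrp
  Groth.Agent.Picfga.ChiDef K659.BNLoc K659.BNFib K659.BNPt K659.BNAff K659.BNLocus K659.BNRig

namespace K659.BNZero

theorem isEff_of_ne_zero {Y : Scheme.{u}} [IsIntegral Y] {M : Y.Modules} (hM : PicF.IsInvertible M)
    {s : Γ(M, ⊤)} (hs : s ≠ 0) {I : Y.IdealSheafData} (hI : IsZeroIdeal M s I) :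
    BlowUp.IsEffCartierIdeal I := by
  intro x
  obtain ⟨U, e, hxU, -, he⟩ := exists_affine_gen hM x ⊤ trivial
  obtain ⟨a, ha⟩ := he.exists_eq (res M le_top s)
  haveI : Nonempty U.1 := ⟨⟨x, hxU⟩⟩
  refine ⟨U, hxU, a, ?_, hI U e he a ha⟩
  apply mem_nonZeroDivisors_of_ne_zero
  rintro rfl
  apply hs
  apply BNRatio.eq_zero_of_res hM U.1
  rw [ha, zero_smul]

variable {k : Type u} [Field k] {X : Scheme.{u}} {f : X ⟶ Spec (CommRingCat.of k)}

section pt

variable [IsAlgClosed k] [SmoothOfRelativeDimension 1 f] [IsSeparated f]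

/-- A point of the Brill-Noether locus gives a rational point of it. -/
theorem exists_point (P : P1Data f) (J : Over (Spec (CommRingCat.of k))) [LocallyOfFiniteType J.hom]
    [QuasiCompact J.hom] (c : Pic (PicF.XT f J)) (m : ℤ) (hc : ∀ t, chiAt f J t c = m) (n : ℕ) (t : J.left)
    (ht : n ≤ hAt f J t 0 c) : ∃ g : BNTriv.T₀ k ⟶ J,
      n ≤ hK f (𝟙 (Spec (CommRingCat.of k))) 0 (pull (PicF.XTmap f g) c) := by
  have hcl : IsClosed {τ : J.left | n ≤ hAt f J τ 0 c} := by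
    have h1 : {τ : J.left | n ≤ hAt f J τ 0 c} = {τ : J.left | (n : ℤ) - m ≤ hAt f J τ 1 c} := by
      ext τ
      have h2 := chiAt_eq J τ c
      rw [hc] at h2
      simp only [Set.mem_setOf_eq]
      omega
    rw [h1]
    rcases le_or_gt ((n : ℤ) - m) 0 with h3 | h3
    · convert isClosed_univ
      rw [Set.eq_univ_iff_forall]
      intro τ
      simp only [Set.mem_setOf_eq]
      omega
    · have h4 := (isOpen_hAt_one_le P J c ((n : ℤ) - m - 1).toNat).isClosed_compl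
      convert h4 using 1
      ext τ
      simp only [Set.mem_setOf_eq, Set.mem_compl_iff]
      omega
  haveI : CompactSpace J.left := HasAffineProperty.iff_of_isAffine.mp ‹QuasiCompact J.hom›
  obtain ⟨t₀, ht₀, hct⟩ := hcl.exists_closed_singleton ⟨t, ht⟩
  let y := pointOfClosedPoint J.hom t₀ hct
  have hy : y ≫ J.hom = 𝟙 _ := pointOfClosedPoint_comp J.hom t₀ hct
  refine ⟨Over.homMk y (by rw [hy]; rfl), ?_⟩
  have h1 := hPt_eq_hAt P J y t₀ (fun z => pointOfClosedPoint_apply J.hom t₀ hct z) 0 (by omega) c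
  have h2 : n ≤ hPt f J y 0 c := by rw [h1]; exact ht₀
  rw [hPt] at h2
  rwa [hK_congr (f := f) (T := J) hy (ofHom J y) (Over.homMk y (by rw [hy]; rfl)) rfl 0 c] at h2

end pt

section div

variable [IsAlgClosed k] [SmoothOfRelativeDimension 1 f] [IsProper f]

/-- A section of a class of Euler characteristic `χ(O) + d` has a zero ideal which is a product of ideals of
rational points. -/
theorem exists_points (P : P1Data f) {M : (PicF.XT f (BNTriv.T₀ k)).Modules} (hM : PicF.IsInvertible M)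
    [IsIntegral (PicF.XT f (BNTriv.T₀ k))] {s : Γ(M, ⊤)} (hs : s ≠ 0) (d : ℕ)
    (hd : ∀ t, chiAt f (BNTriv.T₀ k) t (mk M hM) = chiAt f (BNTriv.T₀ k) t 1 + d) :
    ∃ x : Fin d → {s : Spec (CommRingCat.of k) ⟶ PicF.XT f (BNTriv.T₀ k) // s ≫ PicF.XTproj f (BNTriv.T₀ k) = 𝟙 _},
      IsZeroIdeal M s (∏ i, (x i).1.ker) := by
  obtain ⟨I, hI⟩ := exists_zeroIdeal hM s
  have hE := isEff_of_ne_zero hM hs hI
  haveI : SmoothOfRelativeDimension 1 (PicF.XTproj f (BNTriv.T₀ k)) := smoothOfRelDim_XTproj f _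
  haveI : IsProper (PicF.XTproj f (BNTriv.T₀ k)) := inferInstanceAs (IsProper (pullback.snd _ _))
  haveI : Subsingleton (BNTriv.T₀ k).left := inferInstanceAs (Subsingleton (PrimeSpectrum k))
  haveI : IsIntegral (BNTriv.T₀ k).left := inferInstanceAs (IsIntegral (Spec (CommRingCat.of k)))
  have hfl : Flat (I.subschemeι ≫ PicF.XTproj f (BNTriv.T₀ k)) := inferInstance
  obtain ⟨h1, h2, h3⟩ := ((Groth.Agent.S1184.result (PicF.XTproj f (BNTriv.T₀ k)) I).1).mp ⟨hE, hfl⟩
  have h4 : IsFinite (I.subschemeι ≫ PicF.XTproj f (BNTriv.T₀ k)) :=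
    IsFinite.of_isProper_of_locallyQuasiFinite _
  have h5 := BNDeg.isFinLocFreeOfDeg P hM hI ⟨h4, h2, h3⟩ d hd
  obtain ⟨x, hx⟩ := factor (Iso.refl _) (PicF.XTproj f (BNTriv.T₀ k)) d I h5
  exact ⟨x, hx ▸ hI⟩

end div

end K659.BNZero
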